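import Cfsg.Agent.MQ.WT.Chk
import Cfsg.Agent.Characters.Values
import Cfsg.Agent.Characters.CCBasic
import Cfsg.Agent.LV.Cl.Conj_m3
import Cfsg.Agent.MQ.Z.LV.W.E8b
import Cfsg.Agent.Lib.ListFast
import Cfsg.Agent.FastGrp
import Cfsg.Agent.Prune
set_option linter.all false
prune_inst 0x7ffcfffbebe8bfffffff7e3fffd3dff991c0cfffefdff9cbffe9ebbfffbf2723a9c56ba50de0d0ffdf57e0b410b87843fb7eefffe86fdc7ffffdf7b41ffbee4ff5f73509519c8cb41e2a2fff83f0770a6f3ffdffffffffffffffffffffffffffffffebfeffff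
open scoped Cfsg.Agent.FastGrp

-- part: MO/WC/Cy
section
/-!
# MO/WC: arithmetic in the rings of integers of the cyclotomic fields of degree four (helper27)
-/

set_option autoImplicit false

namespace Cfsg.Agent.MO.WC

open Cfsg.Agent.LV.W Finset Polynomial
open scoped ComplexConjugate

/-- `a + b ζ + c ζ² + d ζ³` -/
structure Q where
  a : ℤ
  b : ℤ
  c : ℤ
  d : ℤ

namespace Q

/-- the value -/
noncomputable def ev (ζ : ℂ) (x : Q) : ℂ := x.a + x.b * ζ + x.c * ζ ^ 2 + x.d * ζ ^ 3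

def z (m : ℤ) : Q := ⟨m, 0, 0, 0⟩

def add (x y : Q) : Q := ⟨Int.add x.a y.a, Int.add x.b y.b, Int.add x.c y.c, Int.add x.d y.d⟩

def sm (m : ℤ) (x : Q) : Q := ⟨Int.mul m x.a, Int.mul m x.b, Int.mul m x.c, Int.mul m x.d⟩

/-- `m x + y` -/
def ax (m : ℤ) (x y : Q) : Q := cond (decide (m = 0)) y (add (sm m x) y)

/-- multiplication by `ζ`, `ζ ^ 4 = P` -/
def mx (P y : Q) : Q :=
  ⟨Int.mul y.d P.a, Int.add y.a (Int.mul y.d P.b), Int.add y.b (Int.mul y.d P.c), Int.add y.c (Int.mul y.d P.d)⟩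

/-- the products of `y` with the powers of `ζ` -/
def pw (P y : Q) : Q × Q × Q × Q := (y, mx P y, mx P (mx P y), mx P (mx P (mx P y)))

def mul' (y : Q × Q × Q × Q) (x : Q) : Q := ax x.a y.1 (ax x.b y.2.1 (ax x.c y.2.2.1 (ax x.d y.2.2.2 (z 0))))

def eq (x y : Q) : Bool := decide (x.a = y.a) && decide (x.b = y.b) && decide (x.c = y.c) && decide (x.d = y.d)

theorem eq_iff {x y : Q} : eq x y = true ↔ x = y := by
  cases x; cases y; simp [eq, and_assoc]

variable {ζ : ℂ}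

theorem ev_z (m : ℤ) : ev ζ (z m) = m := by simp [ev, z]

theorem ev_add (x y : Q) : ev ζ (add x y) = ev ζ x + ev ζ y := by
  simp only [ev, add, Int.add_def]; push_cast; ring

theorem ev_sm (m : ℤ) (x : Q) : ev ζ (sm m x) = m * ev ζ x := by
  simp only [ev, sm, Int.mul_def]; push_cast; ring

theorem ev_ax (m : ℤ) (x y : Q) : ev ζ (ax m x y) = m * ev ζ x + ev ζ y := by
  by_cases h : m = 0
  · simp [ax, h]
  · simp [ax, h, ev_add, ev_sm]

theorem ev_mx {P : Q} (h : ζ ^ 4 = ev ζ P) (y : Q) : ev ζ (mx P y) = ζ * ev ζ y := by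
  simp only [ev, mx, Int.add_def, Int.mul_def] at h ⊢
  push_cast
  linear_combination (-y.d : ℂ) * h

theorem ev_mul {P : Q} (h : ζ ^ 4 = ev ζ P) (y x : Q) : ev ζ (mul' (pw P y) x) = ev ζ y * ev ζ x := by
  simp only [mul', pw, ev_ax, ev_mx h, ev_z]
  conv_rhs => rw [ev, mul_comm]
  conv_rhs => rw [ev]
  rw [ev]; push_cast; ring

end Q

open Q

/-- a field: `ζ ^ 4` and the traces `ζ ^ j + ζ ^ (-j)` -/
structure Fd where
  P : Q
  U1 : Q
  U2 : Q
  U3 : Q

/-- the square of the absolute value -/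
def Fd.nq (f : Fd) (x : Q) : Q :=
  add (z (Int.add (Int.add (Int.mul x.a x.a) (Int.mul x.b x.b)) (Int.add (Int.mul x.c x.c) (Int.mul x.d x.d))))
    (add (sm (Int.add (Int.mul x.b (Int.add x.a x.c)) (Int.mul x.c x.d)) f.U1)
      (add (sm (Int.add (Int.mul x.a x.c) (Int.mul x.b x.d)) f.U2) (sm (Int.mul x.a x.d) f.U3)))

structure Fd.Ok (f : Fd) (ζ : ℂ) : Prop where
  pw : ζ ^ 4 = ev ζ f.P
  nq : ∀ x, ev ζ (f.nq x) = ev ζ x * conj (ev ζ x)
  inj : ∀ x y, ev ζ x = ev ζ y → x = y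

theorem Fd.ok_of {f : Fd} {ζ : ℂ} {m : ℕ} (hζ : IsPrimitiveRoot ζ m) (hm : m.totient = 4) (h0 : ζ ^ 4 = ev ζ f.P)
    (h1 : ζ * ev ζ f.U1 = ζ ^ 2 + 1) (h2 : ζ ^ 2 * ev ζ f.U2 = ζ ^ 4 + 1) (h3 : ζ ^ 3 * ev ζ f.U3 = ζ ^ 6 + 1) :
    f.Ok ζ := by
  have hp : 0 < m := Nat.totient_pos.1 (by omega)
  refine ⟨h0, fun x => ?_, fun x y e => ?_⟩
  · have h4 : ζ * conj ζ = 1 := by
      rw [Complex.mul_conj, Complex.normSq_eq_norm_sq, hζ.norm'_eq_one hp.ne']; simp
    have h5 : ev ζ f.U1 = ζ + conj ζ := by linear_combination conj ζ * h1 + (ζ - ev ζ f.U1) * h4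
    have h6 : ev ζ f.U2 = ζ ^ 2 + conj ζ ^ 2 := by
      linear_combination conj ζ ^ 2 * h2 + (ζ ^ 2 - ev ζ f.U2) * (ζ * conj ζ + 1) * h4
    have h7 : ev ζ f.U3 = ζ ^ 3 + conj ζ ^ 3 := by
      linear_combination conj ζ ^ 3 * h3 + (ζ ^ 3 - ev ζ f.U3) * ((ζ * conj ζ) ^ 2 + ζ * conj ζ + 1) * h4
    simp only [Fd.nq, ev_add, ev_sm, ev_z, h5, h6, h7, Int.add_def, Int.mul_def]
    simp only [ev, map_add, map_mul, map_pow, map_intCast]
    push_cast
    generalize conj ζ = η at h4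
    linear_combination (-(x.b ^ 2 + x.b * x.c * (ζ + η) + x.b * x.d * (ζ ^ 2 + η ^ 2)) -
      (ζ * η + 1) * (x.c ^ 2 + x.c * x.d * (ζ + η)) - ((ζ * η) ^ 2 + ζ * η + 1) * x.d ^ 2 : ℂ) * h4
  · have h4 := linearIndependent_pow (K := ℚ) ζ
    rw [← cyclotomic_eq_minpoly_rat hζ hp, natDegree_cyclotomic, hm, Fintype.linearIndependent_iff] at h4
    have h5 := h4 ![(x.a - y.a : ℤ), (x.b - y.b : ℤ), (x.c - y.c : ℤ), (x.d - y.d : ℤ)] (by
      simp only [ev] at e
      simp only [Fin.sum_univ_four, Rat.smul_def]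
      simp only [_root_.Int.cast_sub, _root_.Fin.isValue, _root_.Matrix.cons_val_zero, _root_.Rat.cast_sub, _root_.Rat.cast_intCast, _root_.Fin.coe_ofNat_eq_mod, _root_.Nat.zero_mod, _root_.pow_zero, _root_.mul_one, _root_.Matrix.cons_val_one, _root_.Nat.one_mod, _root_.pow_one, _root_.Matrix.cons_val, _root_.Nat.reduceMod, _root_.Nat.mod_succ]
      linear_combination e)
    have h6 := h5 0
    have h7 := h5 1
    have h8 := h5 2
    have h9 := h5 3
    simp only [Matrix.cons_val, Int.cast_eq_zero, sub_eq_zero] at h6 h7 h8 h9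
    cases x; cases y; simp_all only [_root_.Int.cast_sub]

def F12 : Fd := ⟨⟨-1, 0, 1, 0⟩, ⟨0, 2, 0, -1⟩, ⟨1, 0, 0, 0⟩, ⟨0, 0, 0, 0⟩⟩
def F8 : Fd := ⟨⟨-1, 0, 0, 0⟩, ⟨0, 1, 0, -1⟩, ⟨0, 0, 0, 0⟩, ⟨0, -1, 0, 1⟩⟩
def F5 : Fd := ⟨⟨-1, -1, -1, -1⟩, ⟨-1, 0, -1, -1⟩, ⟨0, 0, 1, 1⟩, ⟨0, 0, 1, 1⟩⟩

theorem ok12 : ∃ ζ, F12.Ok ζ := by
  have h := Complex.isPrimitiveRoot_exp 12 (by norm_num)
  generalize Complex.exp _ = ζ at h
  have h1 : ζ ^ 6 + 1 = 0 := (mul_eq_zero.1 (show (ζ ^ 6 - 1) * (ζ ^ 6 + 1) = 0 by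
    linear_combination h.pow_eq_one)).resolve_left (sub_ne_zero.2 (h.pow_ne_one_of_pos_of_lt (by norm_num) (by norm_num)))
  have h2 : ζ ^ 4 - ζ ^ 2 + 1 = 0 := (mul_eq_zero.1 (show (ζ ^ 4 - 1) * (ζ ^ 4 - ζ ^ 2 + 1) = 0 by
    linear_combination (ζ ^ 2 - 1) * h1)).resolve_left
      (sub_ne_zero.2 (h.pow_ne_one_of_pos_of_lt (by norm_num) (by norm_num)))
  refine ⟨ζ, Fd.ok_of h (by decide) ?_ ?_ ?_ ?_⟩ <;> simp only [F12, ev] <;> push_cast
  exacts [by linear_combination h2, by linear_combination -h2, by linear_combination -h2, by linear_combination -h1]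

theorem ok8 : ∃ ζ, F8.Ok ζ := by
  have h := Complex.isPrimitiveRoot_exp 8 (by norm_num)
  generalize Complex.exp _ = ζ at h
  have h1 : ζ ^ 4 + 1 = 0 := (mul_eq_zero.1 (show (ζ ^ 4 - 1) * (ζ ^ 4 + 1) = 0 by
    linear_combination h.pow_eq_one)).resolve_left (sub_ne_zero.2 (h.pow_ne_one_of_pos_of_lt (by norm_num) (by norm_num)))
  refine ⟨ζ, Fd.ok_of h (by decide) ?_ ?_ ?_ ?_⟩ <;> simp only [F8, ev] <;> push_cast
  exacts [by linear_combination h1, by linear_combination -h1, by linear_combination -h1, by linear_combination -h1]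

theorem ok5 : ∃ ζ, F5.Ok ζ := by
  have h := Complex.isPrimitiveRoot_exp 5 (by norm_num)
  generalize Complex.exp _ = ζ at h
  have h0 := h.pow_eq_one
  have h1 : ζ ^ 4 + ζ ^ 3 + ζ ^ 2 + ζ + 1 = 0 := (mul_eq_zero.1 (show (ζ - 1) * (ζ ^ 4 + ζ ^ 3 + ζ ^ 2 + ζ + 1) = 0 by
    linear_combination h0)).resolve_left (sub_ne_zero.2 (h.ne_one (by norm_num)))
  refine ⟨ζ, Fd.ok_of h (by decide) ?_ ?_ ?_ ?_⟩ <;> simp only [F5, ev] <;> push_cast
  exacts [by linear_combination h1, by linear_combination -h1, by linear_combination h0, by linear_combination h0]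

end Cfsg.Agent.MO.WC
end

-- part: MO/WC/Abs
section
/-!
# MO/WC: the character table of a finite group from a table of class multiplications (helper27)

* `Tb` : the data, `Tb.Sp` : the identities of the table, `Cl` : the table belongs to the group;
* `Cl.cover`, `Cl.mass`, `Cl.card`;  `VC`, `UC` : generalized characters;  `Tab` : the character table.
-/

set_option autoImplicit false
set_option linter.unusedSectionVars false

namespace Cfsg.Agent.MO.WC

open Cfsg Cfsg.Agent.LV.W Cfsg.Agent.Characters.Core Cfsg.Agent.MO.WT Finset Q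
open scoped ComplexConjugate

/-- the data of a table -/
structure Tb where
  f : Fd
  K : ℕ
  nu : ℕ
  n : List ℤ
  XC : List (List Q)
  rows : List (List (List ℕ))
  lev : List (List Q)
  b : ℕ
  B : ℤ

namespace Tb

variable (T : Tb)

/-- value of the character `φ` at the class `k` -/
def X (φ k : ℕ) : Q := nth (z 0) (nth [] T.XC k) φ
/-- size of the class -/
def w (k : ℕ) : ℤ := nth 0 T.n k
/-- the products of the class `k` with the members of the set `o` -/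
def row (o k : ℕ) : List ℕ := nth [] (nth [] T.rows o) k
/-- eigenvalue -/
def lv (o φ : ℕ) : Q := nth (z 0) (nth [] T.lev o) φ
/-- degree -/
def dg (φ : ℕ) : ℤ := (T.X φ 0).a

/-- the identities of the table -/
structure Sp (ζ : ℂ) : Prop where
  ok : T.f.Ok ζ
  pos : 0 < T.K
  w0 : T.w 0 = 1
  sum : ∑ k ∈ range T.K, T.w k = T.nu
  lt : ∀ o < T.rows.length, ∀ k < T.K, ∀ c ∈ T.row o k, c % 256 < T.K
  mass : ∀ o < T.rows.length, ∀ j < T.K,
    ∑ k ∈ range T.K, T.w k * ((T.row o k).countP fun c => Nat.beq (c % 256) j : ℕ) = (T.row o 0).length * T.w j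
  one : ∀ k < T.K, T.X 0 k = z 1
  eig : ∀ o < T.rows.length, ∀ k < T.K, ∀ φ < T.K,
    ((T.row o k).map fun c => ev ζ (T.X φ (c % 256))).sum = ev ζ (T.lv o φ) * ev ζ (T.X φ k)
  nrm : ∀ φ < T.K, ∑ k ∈ range T.K, T.w k * (T.f.nq (T.X φ k)).a = T.nu
  deg : ∀ φ < T.K, T.X φ 0 = z (T.dg φ) ∧ 0 < T.dg φ
  reg : ∀ k < T.K, ∑ φ ∈ range T.K, (T.dg φ : ℂ) * ev ζ (T.X φ k) = if k = 0 then (T.nu : ℂ) else 0

end Tb

variable {H : Type} [Group H] [Fintype H] {T : Tb} {ζ : ℂ} {e : ℕ → H} {tl : ℕ → List H}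

variable (T e tl) in
/-- the table belongs to the group -/
structure Cl : Prop where
  one : e 0 = 1
  ne : ∀ k < T.K, e k = 1 → k = 0
  nd : ∀ o < T.rows.length, (tl o).Nodup
  inv : ∀ o < T.rows.length, ∀ g, ∀ t ∈ tl o, g * t * g⁻¹ ∈ tl o
  row : ∀ o < T.rows.length, ∀ k < T.K, List.Forall₂ (fun t c => IsConj (t * e k) (e (c % 256))) (tl o) (T.row o k)
  gen : ∀ S : Subgroup H, (∀ o < T.rows.length, ∀ t ∈ tl o, t ∈ S) → ∀ g, g ∈ S

theorem cf_conj {y : H → ℂ} (hy : IsClassFunction H y) {a b : H} (h : IsConj a b) : y a = y b := by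
  obtain ⟨c, rfl⟩ := isConj_iff.1 h
  exact (hy a c).symm

theorem Cl.cover (C : Cl T e tl) (S : T.Sp ζ) (x : H) : ∃ k < T.K, IsConj x (e k) := by
  have h1 : x ∈ (Subgroup.closure {t | ∃ o < T.rows.length, t ∈ tl o}).toSubmonoid :=
    C.gen _ (fun o ho t ht => Subgroup.subset_closure (show t ∈ {t | ∃ o < T.rows.length, t ∈ tl o} from ⟨o, ho, ht⟩)) x
  rw [Subgroup.closure_toSubmonoid_of_finite] at h1
  induction h1 using Submonoid.closure_induction_left with
  | one => exact ⟨0, S.pos, C.one ▸ IsConj.refl _⟩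
  | mul_left t ht x _ ih =>
    obtain ⟨o, ho, ht⟩ := ht
    obtain ⟨k, hk, h2⟩ := ih
    obtain ⟨g, h3⟩ := isConj_iff.1 h2
    obtain ⟨j, hj, h4⟩ := List.getElem_of_mem (C.inv o ho g t ht)
    have h5 := List.forall₂_iff_get.1 (C.row o ho k hk)
    have h6 := h5.2 j hj (h5.1 ▸ hj)
    simp only [List.get_eq_getElem] at h6
    refine ⟨_, S.lt o ho k hk _ (List.getElem_mem _), IsConj.trans (isConj_iff.2 ⟨g, ?_⟩) h6⟩
    rw [h4, ← h3]; group

theorem Cl.ext (C : Cl T e tl) (S : T.Sp ζ) {f g : H → ℂ} (hf : IsClassFunction H f) (hg : IsClassFunction H g)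
    (h : ∀ k < T.K, f (e k) = g (e k)) : f = g := funext fun x => by
  obtain ⟨k, hk, h1⟩ := C.cover S x
  rw [cf_conj hf h1, cf_conj hg h1, h k hk]

theorem Cl.op (C : Cl T e tl) {y : H → ℂ} (hy : IsClassFunction H y) {o k : ℕ} (ho : o < T.rows.length) (hk : k < T.K) :
    ((tl o).map fun t => y (t * e k)).sum = ((T.row o k).map fun c => y (e (c % 256))).sum := by
  have h1 := C.row o ho k hk
  generalize tl o = l, T.row o k = m at h1
  induction h1 with
  | nil => rfl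
  | cons hab _ ih => rw [List.map_cons, List.map_cons, List.sum_cons, List.sum_cons, ih, cf_conj hy hab]

theorem Cl.eig (C : Cl T e tl) {o : ℕ} (ho : o < T.rows.length) {χ : H → ℂ} (hχ : IsIrrCharacter H χ) :
    ∃ c : ℂ, ∀ u, ((tl o).map fun t => χ (t * u)).sum = c * χ u := by
  classical
  obtain ⟨c, hc⟩ := irr_eig (θ := fun g => if g ∈ tl o then 1 else 0) hχ fun g x => if_congr
    ⟨fun h => by simpa [mul_assoc] using C.inv o ho x⁻¹ _ h, C.inv o ho x g⟩ rfl rfl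
  refine ⟨c, fun u => ?_⟩
  rw [← hc, ← List.sum_toFinset _ (C.nd o ho)]
  simp only [ite_mul, one_mul, zero_mul, ← sum_filter]
  exact sum_congr (by ext; simp) fun _ _ => rfl

theorem all_eq {n : ℕ} {l : List ℂ} (h : ∀ x ∈ l, ‖x‖ ≤ n) (hs : l.sum = l.length * n) : ∀ x ∈ l, x = n := by
  induction l with
  | nil => exact fun _ hx => absurd hx List.not_mem_nil
  | cons a l ih =>
    have h1 := h a List.mem_cons_self
    have h2 : ∀ x ∈ l, ‖x‖ ≤ n := fun x hx => h x (List.mem_cons_of_mem _ hx)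
    have h3 : ‖l.sum‖ ≤ l.length * n := by
      clear ih h hs
      induction l with
      | nil => simp
      | cons x l ih =>
        have h4 := ih fun y hy => h2 y (List.mem_cons_of_mem _ hy)
        have h5 := h2 x List.mem_cons_self
        have h6 := norm_add_le x l.sum
        rw [List.sum_cons, List.length_cons]
        push_cast
        linarith
    rw [List.sum_cons, List.length_cons] at hs
    have h4 := congrArg Complex.re hs
    simp only [Complex.add_re, Complex.mul_re, Complex.natCast_re, Complex.natCast_im, mul_zero, sub_zero] at h4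
    have h5 := (Complex.re_le_norm _).trans h3
    have h6 : a.re = n := le_antisymm ((Complex.re_le_norm a).trans h1) (by push_cast at h4; linarith)
    have h7 : a = n := by
      have h8 := Complex.re_eq_norm.1 (le_antisymm (Complex.re_le_norm a) (h6 ▸ h1))
      exact Complex.ext (by simpa using h6) (by simpa using (Complex.nonneg_iff.1 h8).2.symm)
    refine List.forall_mem_cons.2 ⟨h7, ih h2 ?_⟩
    rw [h7] at hs
    push_cast at hs
    linear_combination hs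

theorem sum_cnt {K : ℕ} (v : ℕ → ℂ) {l : List ℕ} (hl : ∀ c ∈ l, c % 256 < K) :
    (l.map fun c => v (c % 256)).sum = ∑ j ∈ range K, (l.countP fun c => Nat.beq (c % 256) j : ℕ) * v j := by
  induction l with
  | nil => simp
  | cons a l ih =>
    rw [List.map_cons, List.sum_cons, ih fun c hc => hl c (List.mem_cons_of_mem _ hc)]
    simp only [List.countP_cons, Nat.beq_eq, Nat.cast_add, add_mul, sum_add_distrib, Nat.cast_ite, Nat.cast_one,
      Nat.cast_zero, ite_mul, one_mul, zero_mul, sum_ite_eq, mem_range, hl a List.mem_cons_self, if_true, add_comm]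

/-- the mass formula -/
theorem Cl.mass (C : Cl T e tl) (S : T.Sp ζ) {y : H → ℂ} (hy : IsClassFunction H y) :
    T.nu * ∑ g, y g = Nat.card H * ∑ k ∈ range T.K, T.w k * y (e k) := by
  classical
  have key : ∀ χ, IsIrrCharacter H χ → T.nu * ∑ g, χ g = Nat.card H * ∑ k ∈ range T.K, T.w k * χ (e k) := by
    intro χ hχ
    by_cases h1 : χ = 1
    · subst h1
      simp only [Pi.one_apply, mul_one, ← Int.cast_sum, S.sum]
      simp [mul_comm]
    have h2 := classInner_irr_ne hχ isIrr_one h1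
    rw [classInner_def, mul_eq_zero, or_iff_right (inv_ne_zero card_ne_zero_complex)] at h2
    simp only [Pi.one_apply, map_one, mul_one] at h2
    rw [h2, mul_zero, eq_comm, mul_eq_zero]
    right
    by_contra h3
    have h4 : ∀ o < T.rows.length, ∀ t ∈ tl o, χ t = χ 1 := fun o ho => by
      obtain ⟨c, hc⟩ := C.eig ho hχ
      have h5 : c * ∑ k ∈ range T.K, T.w k * χ (e k) = (tl o).length * ∑ k ∈ range T.K, T.w k * χ (e k) := by
        rw [(C.row o ho 0 S.pos).length_eq, mul_sum, mul_sum, sum_congr rfl fun k hk => by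
          rw [mul_left_comm, ← hc, C.op (isIrr_isClassFunction hχ) ho (mem_range.1 hk),
            sum_cnt (fun j => χ (e j)) (S.lt o ho k (mem_range.1 hk)), mul_sum], sum_comm]
        refine sum_congr rfl fun j hj => ?_
        have h6 := congrArg (Int.cast : ℤ → ℂ) (S.mass o ho j (mem_range.1 hj))
        push_cast at h6
        rw [← mul_assoc, ← h6, sum_mul]
        exact sum_congr rfl fun k _ => (mul_assoc _ _ _).symm
      have h6 := hc 1
      rw [mul_right_cancel₀ h3 h5] at h6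
      obtain ⟨n, ρ, -, rfl⟩ := hχ
      intro t ht
      rw [Representation.char_one] at h6 ⊢
      refine all_eq (l := (tl o).map fun t => ρ.character (t * 1)) (fun x hx => ?_) (by rwa [List.length_map]) _
        (List.mem_map.2 ⟨t, ht, by rw [mul_one]⟩)
      obtain ⟨u, -, rfl⟩ := List.mem_map.1 hx
      exact Characters.Values.norm_character_le ρ _
    have h5 : ∀ g, χ g = χ 1 := by
      obtain ⟨n, ρ, -, rfl⟩ := hχ
      simp only [Representation.char_one, Characters.Values.character_eq_finrank_iff] at h4 ⊢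
      exact C.gen (MonoidHom.ker ρ) h4
    rw [sum_congr rfl fun g _ => h5 g, sum_const, nsmul_eq_mul, mul_eq_zero] at h2
    exact h2.elim (by simp) (isIrr_apply_one_ne_zero hχ)
  have := finite_irr (G := H)
  have := Fintype.ofFinite (IrrCharacter H)
  rw [classFunction_eq_sum hy]
  simp only [Finset.sum_apply, Pi.smul_apply, smul_eq_mul, mul_sum]
  rw [sum_comm, sum_comm (s := range T.K)]
  refine sum_congr rfl fun χ _ => ?_
  have h1 := key χ.1 χ.2
  simp only [mul_left_comm _ (classInner y χ.1), ← mul_sum] at h1 ⊢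
  rw [← mul_assoc, mul_comm _ (T.nu : ℂ), mul_assoc, mul_left_comm, h1]

theorem delta_class [DecidableEq H] (c : ℂ) : IsClassFunction H fun g => if g = 1 then c else 0 := fun g x =>
  if_congr (by rw [mul_inv_eq_one, mul_eq_left]) rfl rfl

theorem Cl.card (C : Cl T e tl) (S : T.Sp ζ) : Nat.card H = T.nu := by
  classical
  have h1 := C.mass S (delta_class 1)
  rw [sum_ite_eq', if_pos (mem_univ _), sum_eq_single 0 (fun k hk h0 => by
    rw [if_neg fun h2 => h0 (C.ne k (mem_range.1 hk) h2), mul_zero]) fun h2 => absurd (mem_range.2 S.pos) h2,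
    S.w0, if_pos C.one] at h1
  simpa only [_root_.Nat.card_eq_fintype_card, _root_.Int.cast_one, _root_.mul_one, _root_.Nat.cast_inj] using h1.symm

theorem Cl.sum (C : Cl T e tl) (S : T.Sp ζ) {y : H → ℂ} (hy : IsClassFunction H y) :
    ∑ g, y g = ∑ k ∈ range T.K, T.w k * y (e k) := by
  have h1 := C.mass S hy
  rw [← C.card S] at h1
  exact mul_left_cancel₀ card_ne_zero_complex h1

variable (T ζ e) in
/-- `a` is the coordinate vector of `y` -/
def Rp (y : H → ℂ) (a : ℕ → ℂ) : Prop := ∀ k < T.K, y (e k) = ∑ φ ∈ range T.K, a φ * ev ζ (T.X φ k)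

variable (T ζ e) in
/-- `a` is the coordinate vector of a generalized character -/
def VC (a : ℕ → ℤ) : Prop := ∃ f, IsGeneralizedCharacter H f ∧ Rp T ζ e f fun φ => a φ

theorem VC.congr {a a' : ℕ → ℤ} (h : VC T ζ e a) (h' : ∀ φ < T.K, a φ = a' φ) : VC T ζ e a' :=
  h.imp fun _ hf => ⟨hf.1, fun k hk => (hf.2 k hk).trans (sum_congr rfl fun φ hφ => by simp only [h' φ (mem_range.1 hφ)])⟩

theorem VC.zero : VC T ζ e fun _ => 0 := ⟨0, gen_of_char isCharacter_zero, fun _ _ => by simp⟩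

theorem VC.add {a a' : ℕ → ℤ} (h : VC T ζ e a) (h' : VC T ζ e a') : VC T ζ e fun φ => a φ + a' φ := by
  obtain ⟨f, h1, h2⟩ := h
  obtain ⟨g, h3, h4⟩ := h'
  refine ⟨f + g, gen_add h1 h3, fun k hk => ?_⟩
  rw [Pi.add_apply, h2 k hk, h4 k hk, ← sum_add_distrib]
  simp only [Int.cast_add, add_mul]

theorem VC.smul {a : ℕ → ℤ} (h : VC T ζ e a) (m : ℤ) : VC T ζ e fun φ => m * a φ := by
  obtain ⟨f, h1, h2⟩ := h
  refine ⟨m • f, gen_zsmul h1 m, fun k hk => ?_⟩
  rw [Pi.smul_apply, h2 k hk, zsmul_eq_mul, mul_sum]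
  simp only [Int.cast_mul, mul_assoc]

theorem VC.sum {ι : Type} (s : Finset ι) {a : ι → ℕ → ℤ} (h : ∀ i ∈ s, VC T ζ e (a i)) :
    VC T ζ e fun φ => ∑ i ∈ s, a i φ := by
  classical
  induction s using Finset.induction_on with
  | empty => exact VC.zero
  | insert i s hi ih =>
    exact ((h i (mem_insert_self _ _)).add (ih fun j hj => h j (mem_insert_of_mem hj))).congr fun φ _ => by
      rw [sum_insert hi]

theorem Cl.step (C : Cl T e tl) (S : T.Sp ζ) {o : ℕ} (ho : o < T.rows.length) [Fintype (IrrCharacter H)]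
    {c b : IrrCharacter H → ℂ} (hc : ∀ χ u, ((tl o).map fun t => χ.1 (t * u)).sum = c χ * χ.1 u) {a : ℕ → ℂ}
    (h : Rp T ζ e (∑ χ, b χ • χ.1) a) (x u : ℂ) :
    Rp T ζ e (∑ χ, ((c χ - x) / u * b χ) • χ.1) fun φ => (ev ζ (T.lv o φ) - x) / u * a φ := by
  intro k hk
  have h1 : ∑ χ, b χ * (c χ * χ.1 (e k)) = ∑ φ ∈ range T.K, a φ * (ev ζ (T.lv o φ) * ev ζ (T.X φ k)) := by
    rw [sum_congr rfl fun χ _ => by rw [← hc, C.op (isIrr_isClassFunction χ.2) ho hk],
      sum_congr (s₁ := range T.K) rfl fun φ hφ => by rw [← S.eig o ho k hk φ (mem_range.1 hφ)]]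
    have h2 := S.lt o ho k hk
    generalize T.row o k = l at h2
    induction l with
    | nil => simp only [_root_.List.map_nil, _root_.List.sum_nil, _root_.MulZeroClass.mul_zero, _root_.Finset.sum_const_zero]
    | cons j l ih =>
      have h3 := h _ (h2 j List.mem_cons_self)
      simp only [Finset.sum_apply, Pi.smul_apply, smul_eq_mul] at h3
      simp only [List.map_cons, List.sum_cons, mul_add, sum_add_distrib, h3,
        ih fun z hz => h2 z (List.mem_cons_of_mem _ hz)]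
  have h2 := h k hk
  simp only [Finset.sum_apply, Pi.smul_apply, smul_eq_mul] at h2 ⊢
  have h3 : ∀ p q r : ℂ, (p - x) / u * q * r = u⁻¹ * (q * (p * r)) - x / u * (q * r) := fun p q r => by ring
  simp only [h3, sum_sub_distrib, ← mul_sum, h1, h2]

/-- the level projection -/
theorem VC.lev (C : Cl T e tl) (S : T.Sp ζ) {o : ℕ} (ho : o < T.rows.length) {a : ℕ → ℤ} (h : VC T ζ e a) (c₀ : Q) :
    VC T ζ e fun φ => if (T.lv o φ).eq c₀ = true then a φ else 0 := by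
  classical
  obtain ⟨f, h1, h2⟩ := h
  have := finite_irr (G := H)
  have := Fintype.ofFinite (IrrCharacter H)
  obtain ⟨m, rfl⟩ := isGeneralizedCharacter_iff.1 h1
  choose c hc using fun χ : IrrCharacter H => C.eig ho χ.2
  have key : ∀ s : Finset ℂ, Rp T ζ e (∑ χ, ((∏ x ∈ s, (c χ - x) / (ev ζ c₀ - x)) * m χ) • χ.1)
      fun φ => (∏ x ∈ s, (ev ζ (T.lv o φ) - x) / (ev ζ c₀ - x)) * a φ := by
    intro s
    induction s using Finset.induction_on with
    | empty => simpa only [prod_empty, one_mul, Int.cast_smul_eq_zsmul] using h2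
    | insert x s hx ih => simpa only [prod_insert hx, mul_assoc] using C.step S ho hc ih x (ev ζ c₀ - x)
  have h3 : ∀ (s : Finset ℂ) (y : ℂ), y ∈ s → ∏ x ∈ s.erase (ev ζ c₀), (y - x) / (ev ζ c₀ - x) =
      if y = ev ζ c₀ then 1 else 0 := fun s y hy => by
    split_ifs with h4
    · exact prod_eq_one fun x hx => by rw [h4, div_self (sub_ne_zero.2 (ne_of_mem_erase hx).symm)]
    · exact prod_eq_zero (mem_erase.2 ⟨h4, hy⟩) (by rw [sub_self, zero_div])
  refine ⟨∑ χ, (if c χ = ev ζ c₀ then m χ else 0) • χ.1, isGeneralizedCharacter_iff.2 ⟨_, rfl⟩, fun k hk => ?_⟩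
  have h4 := key ((univ.image c ∪ (range T.K).image fun φ => ev ζ (T.lv o φ)).erase (ev ζ c₀)) k hk
  rw [sum_congr rfl fun χ _ => by rw [h3 _ _ (mem_union_left _ (mem_image_of_mem _ (mem_univ χ)))]] at h4
  refine Eq.trans ?_ (h4.trans (sum_congr rfl fun φ hφ => ?_))
  · rw [Finset.sum_apply, Finset.sum_apply]
    refine sum_congr rfl fun χ _ => ?_
    split_ifs <;> simp
  · simp only [h3 _ _ (mem_union_right _ (mem_image_of_mem _ hφ)), eq_iff]
    by_cases h5 : T.lv o φ = c₀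
    · simp [h5]
    · rw [if_neg h5, if_neg fun h6 => h5 (S.ok.inj _ _ h6)]; simp

variable (T ζ e) in
/-- the column `φ` is a generalized character -/
def UC (φ : ℕ) : Prop := ∃ f, IsGeneralizedCharacter H f ∧ ∀ k < T.K, f (e k) = ev ζ (T.X φ k)

theorem uc_iff {φ : ℕ} (hφ : φ < T.K) : UC T ζ e φ ↔ VC T ζ e fun i => if i = φ then 1 else 0 := by
  refine exists_congr fun f => and_congr_right fun _ => forall₂_congr fun k _ => ?_
  simp [hφ]

theorem uc_zero (S : T.Sp ζ) : UC T ζ e 0 :=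
  ⟨1, gen_of_char isCharacter_one, fun k hk => by rw [S.one k hk, ev_z]; simp⟩

theorem UC.irr (C : Cl T e tl) (S : T.Sp ζ) {φ : ℕ} (hφ : φ < T.K) (h : UC T ζ e φ) :
    ∃ f, IsIrrCharacter H f ∧ ∀ k < T.K, f (e k) = ev ζ (T.X φ k) := by
  classical
  obtain ⟨f, hf, hv⟩ := h
  refine ⟨f, ?_, hv⟩
  have h1 : ∃ N : ℤ, classInner f f = N := by
    have := finite_irr (G := H)
    have := Fintype.ofFinite (IrrCharacter H)
    obtain ⟨m, rfl⟩ := isGeneralizedCharacter_iff.1 hf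
    have h2 := classInner_sum_smul_sum_smul (fun ψ : IrrCharacter H => (m ψ : ℂ)) fun ψ => (m ψ : ℂ)
    simp only [Int.cast_smul_eq_zsmul, map_intCast] at h2
    exact ⟨∑ ψ, m ψ * m ψ, by rw [h2]; push_cast; rfl⟩
  obtain ⟨N, h1⟩ := h1
  have h2 : ∀ n ≤ T.K, ∃ s : Q, s.a = ∑ k ∈ range n, T.w k * (T.f.nq (T.X φ k)).a ∧
      ev ζ s = ∑ k ∈ range n, T.w k * (f (e k) * conj (f (e k))) := fun n hn => by
    induction n with
    | zero => exact ⟨z 0, rfl, by simp [ev_z]⟩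
    | succ n ih =>
      obtain ⟨s, h3, h4⟩ := ih (Nat.le_of_succ_le hn)
      exact ⟨s.add (sm (T.w n) (T.f.nq (T.X φ n))), by rw [sum_range_succ, ← h3]; rfl,
        by rw [sum_range_succ, ev_add, ev_sm, S.ok.nq, h4, hv n hn]⟩
  obtain ⟨s, h3, h4⟩ := h2 _ le_rfl
  rw [← C.sum S (y := fun g => f g * conj (f g)) fun g x => by simp only [gen_class hf g x]] at h4
  have h5 : s = z (T.nu * N) := S.ok.inj _ _ (by
    rw [h4, ev_z, Int.cast_mul, ← h1, classInner_def, Int.cast_natCast, ← C.card S,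
      mul_inv_cancel_left₀ card_ne_zero_complex])
  rw [h5, S.nrm φ hφ] at h3
  have h6 : N = 1 := mul_left_cancel₀ (Int.natCast_ne_zero.2 (C.card S ▸ Nat.card_pos.ne')) (h3.trans (mul_one _).symm)
  refine (isIrr_of_generalized hf (by rw [h1, h6, Int.cast_one])).resolve_right fun h7 => ?_
  obtain ⟨n, -, h8⟩ := isIrr_apply_one h7
  rw [Pi.neg_apply, ← C.one, hv 0 S.pos, (S.deg φ hφ).1, ev_z] at h8
  have h9 : -T.dg φ = n := by exact_mod_cast h8
  have := (S.deg φ hφ).2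
  omega

variable (T ζ e) in
/-- **the character table** -/
structure Tab (χ : ℕ → H → ℂ) : Prop where
  card : Nat.card H = T.nu
  cover : ∀ x, ∃ k < T.K, IsConj x (e k)
  irr : ∀ φ < T.K, IsIrrCharacter H (χ φ)
  val : ∀ φ < T.K, ∀ k < T.K, χ φ (e k) = ev ζ (T.X φ k)
  deg : ∀ φ < T.K, χ φ 1 = T.dg φ
  inj : ∀ φ < T.K, ∀ φ' < T.K, χ φ = χ φ' → φ = φ'
  sur : ∀ f, IsIrrCharacter H f → ∃ φ < T.K, χ φ = f

theorem exists_tab (C : Cl T e tl) (S : T.Sp ζ) (h : ∀ φ < T.K, UC T ζ e φ) : ∃ χ, Tab T ζ e χ := by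
  classical
  have h1 : ∀ φ, ∃ f, φ < T.K → IsIrrCharacter H f ∧ ∀ k < T.K, f (e k) = ev ζ (T.X φ k) := fun φ => by
    by_cases hφ : φ < T.K
    · exact ((h φ hφ).irr C S hφ).imp fun f hf _ => hf
    · exact ⟨0, fun h => absurd h hφ⟩
  choose χ hχ using h1
  have h2 : ∀ φ < T.K, χ φ 1 = T.dg φ := fun φ hφ => by rw [← C.one, (hχ φ hφ).2 0 S.pos, (S.deg φ hφ).1, ev_z]
  have h3 : ∑ φ ∈ range T.K, (T.dg φ : ℂ) • χ φ = fun g => if g = 1 then (T.nu : ℂ) else 0 :=
    C.ext S (fun g x => by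
      rw [Finset.sum_apply, Finset.sum_apply]
      exact sum_congr rfl fun φ hφ => by
        rw [Pi.smul_apply, Pi.smul_apply, isIrr_isClassFunction (hχ φ (mem_range.1 hφ)).1 g x]) (delta_class _)
      fun k hk => by
        rw [Finset.sum_apply, sum_congr rfl fun φ hφ => by rw [Pi.smul_apply, (hχ φ (mem_range.1 hφ)).2 k hk, smul_eq_mul],
          S.reg k hk]
        exact if_congr ⟨fun h4 => h4 ▸ C.one, C.ne k hk⟩ rfl rfl
  have h4 : ∀ f, IsIrrCharacter H f → ((range T.K).filter fun φ => χ φ = f).card = 1 := fun f hf => by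
    obtain ⟨n, h5, h6⟩ := isIrr_apply_one hf
    have h7 := congrArg (classInner · f) h3
    simp only [classInner_sum_left, classInner_smul_left] at h7
    rw [sum_congr rfl fun φ hφ => show _ = if χ φ = f then (n : ℂ) else 0 by
      rw [classInner_irr (hχ φ (mem_range.1 hφ)).1 hf]
      split_ifs with h8
      exacts [by rw [mul_one, ← h2 φ (mem_range.1 hφ), h8, h6], mul_zero _], ← sum_filter, sum_const, classInner_def,
      sum_eq_single 1 (fun g _ hg => by simp [hg]) (by simp only [_root_.Finset.mem_univ, _root_.not_true_eq_false, ↓ _root_.reduceIte, _root_.mul_eq_zero, _root_.Nat.cast_eq_zero, _root_.map_eq_zero, _root_.IsEmpty.forall_iff]), if_pos rfl, ← C.card S,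
      inv_mul_cancel_left₀ card_ne_zero_complex, h6, map_natCast, nsmul_eq_mul] at h7
    exact_mod_cast mul_right_cancel₀ (Nat.cast_ne_zero.2 h5.ne') (h7.trans (one_mul _).symm)
  refine ⟨χ, C.card S, C.cover S, fun φ hφ => (hχ φ hφ).1, fun φ hφ => (hχ φ hφ).2, h2, fun φ hφ φ' hφ' h5 => ?_,
    fun f hf => ?_⟩
  · exact card_le_one.1 (h4 _ (hχ φ' hφ').1).le _ (mem_filter.2 ⟨mem_range.2 hφ, h5⟩) _
      (mem_filter.2 ⟨mem_range.2 hφ', rfl⟩)
  · obtain ⟨φ, hφ⟩ := card_pos.1 (h4 f hf).ge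
    exact ⟨φ, mem_range.1 (mem_filter.1 hφ).1, (mem_filter.1 hφ).2⟩

/-- the action of an endomorphism -/
theorem Tab.comp {χ : ℕ → H → ℂ} (h : Tab T ζ e χ) (α : H →* H) {π : ℕ → ℕ}
    (hπ : ∀ k < T.K, π k < T.K ∧ IsConj (α (e k)) (e (π k))) {φ φ' : ℕ} (hφ : φ < T.K) (hφ' : φ' < T.K)
    (hX : ∀ k < T.K, T.X φ (π k) = T.X φ' k) (g : H) : χ φ (α g) = χ φ' g := by
  obtain ⟨k, hk, h1⟩ := h.cover g
  rw [cf_conj (isIrr_isClassFunction (h.irr φ hφ)) ((α.map_isConj h1).trans (hπ k hk).2),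
    cf_conj (isIrr_isClassFunction (h.irr φ' hφ')) h1, h.val φ hφ _ (hπ k hk).1, h.val φ' hφ' k hk, hX k hk]

end Cfsg.Agent.MO.WC
end

-- part: MO/WC/Chk
section
/-!
# MO/WC: the checks of a table (helper27)
-/

set_option autoImplicit false
set_option linter.unusedSectionVars false

namespace Cfsg.Agent.MO.WC

open Cfsg Cfsg.Agent.LV.W Cfsg.Agent.Characters.Core Cfsg.Agent.MO.WT Finset Q

/-! ### packed sums -/

def nab (x : Q) : ℕ := Nat.add (Nat.add x.a.natAbs x.b.natAbs) (Nat.add x.c.natAbs x.d.natAbs)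

def sab (l : List Q) : ℕ := List.rec 0 (fun x _ ih => Nat.add (nab x) ih) l

def smQ (g : ℕ → Q) (l : List ℕ) : Q := List.rec (z 0) (fun c _ ih => add (g (Nat.mod c 256)) ih) l

theorem nab_le (l : List Q) (i : ℕ) : nab (nth (z 0) l i) ≤ sab l := by
  induction l generalizing i with
  | nil => exact Nat.le_refl 0
  | cons x l ih =>
    cases i with
    | zero => exact Nat.le_add_right _ _
    | succ i => exact (ih i).trans (Nat.le_add_left _ _)

theorem nth_mem {α : Type} (d : α) {l : List α} {i : ℕ} (hi : i < l.length) : nth d l i ∈ l := by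
  rw [nth_eq, List.getD_eq_getElem _ _ hi]; exact List.getElem_mem _

theorem nth_map {α β : Type} (d : α) (d' : β) (f : α → β) {l : List α} {i : ℕ} (hi : i < l.length) :
    nth d' (l.map f) i = f (nth d l i) := by
  rw [nth_eq, nth_eq, List.getD_eq_getElem _ _ (by simpa using hi), List.getD_eq_getElem _ _ hi, List.getElem_map]

theorem nth_or {α : Type} (d : α) (l : List α) (i : ℕ) : nth d l i ∈ l ∨ nth d l i = d := by
  by_cases hi : i < l.length
  · exact Or.inl (nth_mem d hi)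
  · exact Or.inr (by rw [nth_eq, List.getD_eq_default _ _ (not_lt.1 hi)])

theorem ev_smQ (ζ : ℂ) (g : ℕ → Q) (r : List ℕ) : ev ζ (smQ g r) = (r.map fun c => ev ζ (g (c % 256))).sum := by
  induction r with
  | nil => simp [smQ, ev_z]
  | cons c r ih => rw [List.map_cons, List.sum_cons, ← ih]; exact ev_add _ _

/-- termwise products -/
def zq (a : List (Q × Q × Q × Q)) : List Q → List Q :=
  List.rec (fun _ => []) (fun x _ ih b => List.casesOn b [] fun y b' => mul' x y :: ih b') a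

theorem ev_zq {ζ : ℂ} {P : Q} (h : ζ ^ 4 = ev ζ P) (a b : List Q) (i : ℕ) :
    ev ζ (nth (z 0) (zq (a.map (pw P)) b) i) = ev ζ (nth (z 0) a i) * ev ζ (nth (z 0) b i) := by
  induction a generalizing b i with
  | nil => simp [zq, nth_nil, ev_z]
  | cons x a ih =>
    cases b with
    | nil => simp [zq, nth_nil, ev_z]
    | cons y b =>
      cases i with
      | zero => exact ev_mul h x y
      | succ i => exact ih b i

def dotQ (a : List ℤ) : List Q → Q :=
  List.rec (fun _ => z 0) (fun m _ ih c => List.casesOn c (z 0) fun x c' => ax m x (ih c')) a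

theorem ev_dotQ (ζ : ℂ) {a : List ℤ} (c : List Q) {n : ℕ} (hn : a.length ≤ n) :
    ev ζ (dotQ a c) = ∑ φ ∈ range n, (nth 0 a φ : ℤ) * ev ζ (nth (z 0) c φ) := by
  induction a generalizing c n with
  | nil => simp [dotQ, nth_nil, ev_z]
  | cons m a ih =>
    cases c with
    | nil => simp [dotQ, nth_nil, ev_z]
    | cons x c =>
      cases n with
      | zero => simp at hn
      | succ n =>
        rw [sum_range_succ', add_comm]
        exact (ev_ax m x _).trans (congrArg _ (ih c (Nat.le_of_succ_le_succ hn)))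

def sum2 {α : Type} (f : α → ℤ) (n : List ℤ) : List α → ℤ :=
  List.rec (fun _ => 0) (fun m _ ih c => List.casesOn c 0 fun x c' => Int.add (Int.mul m (f x)) (ih c')) n

theorem sum2_eq {α : Type} (d : α) (f : α → ℤ) (n : List ℤ) (c : List α) :
    sum2 f n c = ∑ k ∈ range c.length, nth 0 n k * f (nth d c k) := by
  induction n generalizing c with
  | nil => simp [sum2, nth_nil]
  | cons m n ih =>
    cases c with
    | nil => rfl
    | cons x c => rw [List.length_cons, sum_range_succ', add_comm]; exact congrArg (m * f x + ·) (ih c)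

def cnt (j : ℕ) (l : List ℕ) : ℕ := List.rec 0 (fun c _ ih => cond (Nat.beq c j) (Nat.succ ih) ih) l

theorem cnt_eq (j : ℕ) (l : List ℕ) : cnt j (l.map fun c => Nat.mod c 256) = l.countP fun c => Nat.beq (c % 256) j := by
  induction l with
  | nil => rfl
  | cons a l ih =>
    show cond (Nat.beq (a % 256) j) (cnt j _ + 1) (cnt j _) = _
    rw [List.countP_cons, ih]
    cases Nat.beq (a % 256) j <;> rfl

/-! ### faster forms of the checks -/

/-- evaluate a number -/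
def fN {α : Type} (n : ℕ) (k : ℕ → α) : α := Nat.casesOn n (k 0) fun m => k m.succ

theorem fN_eq {α : Type} (n : ℕ) (k : ℕ → α) : fN n k = k n := by cases n <;> rfl

/-- evaluate a value -/
def fQ {α : Type} (x : Q) (k : Q → α) : α := Q.casesOn x fun a b c d => k ⟨a, b, c, d⟩

theorem fQ_eq {α : Type} (x : Q) (k : Q → α) : fQ x k = k x := rfl

def addZ (m : ℤ) (f : Q → ℤ) (c : List Q) : List ℤ → List ℤ :=
  List.rec (fun s => s) (fun x _ ih s => List.casesOn s (Int.mul m (f x) :: ih []) fun y s' =>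
    Int.add (Int.mul m (f x)) y :: ih s') c

theorem nth_addZ (m : ℤ) {f : Q → ℤ} (hf : f (z 0) = 0) (c : List Q) (s : List ℤ) (i : ℕ) :
    nth 0 (addZ m f c s) i = m * f (nth (z 0) c i) + nth 0 s i := by
  induction c generalizing s i with
  | nil => rw [nth_nil, hf, mul_zero, zero_add]; rfl
  | cons x c ih =>
    cases s with
    | nil => cases i with
      | zero => exact (add_zero _).symm
      | succ i => exact ih [] i
    | cons y s => cases i with
      | zero => rfl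
      | succ i => exact ih s i

def accZ (f : Q → ℤ) (n : List ℤ) : List (List Q) → List ℤ :=
  List.rec (fun _ => []) (fun m _ ih C => List.casesOn C [] fun c C' => addZ m f c (ih C')) n

theorem nth_accZ {f : Q → ℤ} (hf : f (z 0) = 0) (n : List ℤ) (C : List (List Q)) (i : ℕ) :
    nth 0 (accZ f n C) i = sum2 (fun c => f (nth (z 0) c i)) n C := by
  induction n generalizing C with
  | nil => rfl
  | cons m n ih =>
    cases C with
    | nil => rfl
    | cons c C => exact (nth_addZ m hf c _ i).trans (congrArg (m * f (nth (z 0) c i) + ·) (ih C))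

def hs (B : ℕ) (r : List ℕ) : ℕ := List.rec 0 (fun c _ ih => Nat.add (Nat.pow B (Nat.mod c 256)) ih) r

theorem cnt_cons (j c : ℕ) (l : List ℕ) : (cnt j (c :: l) : ℤ) = (if c = j then 1 else 0) + cnt j l := by
  show ((cond (Nat.beq c j) (cnt j l + 1) (cnt j l) : ℕ) : ℤ) = _
  by_cases h : c = j
  · rw [if_pos h, h, Nat.beq_refl, cond_true, Nat.cast_succ, add_comm]
  · rw [if_neg h, Bool.eq_false_iff.2 fun e => h (Nat.eq_of_beq_eq_true e), cond_false, zero_add]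

theorem cnt_le (j : ℕ) (l : List ℕ) : (cnt j l : ℤ) ≤ l.length := by
  induction l with
  | nil => exact le_rfl
  | cons c l ih => rw [cnt_cons, List.length_cons, Nat.cast_succ]; split_ifs <;> omega

theorem hs_eq (B : ℕ) {K : ℕ} {r : List ℕ} (h : ∀ c ∈ r, c % 256 < K) :
    (hs B r : ℤ) = ∑ j ∈ range K, (cnt j (r.map fun c => Nat.mod c 256) : ℤ) * (B : ℤ) ^ j := by
  induction r with
  | nil => exact (sum_eq_zero fun j _ => zero_mul _).symm
  | cons c r ih =>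
    show ((B ^ (c % 256) + hs B r : ℕ) : ℤ) = _
    simp only [List.map_cons, cnt_cons, add_mul, sum_add_distrib, ite_mul, one_mul, zero_mul]
    rw [Nat.cast_add, ih fun x hx => h x (List.mem_cons_of_mem _ hx), sum_ite_eq,
      if_pos (mem_range.2 (show Nat.mod c 256 < K from h c List.mem_cons_self)), Nat.cast_pow]
    rfl

theorem abs_dot_le (a : List ℤ) {b : ℤ} (n : ℕ) {f : ℕ → ℤ} (h : ∀ i < n, |f i| ≤ b) (hb : 0 ≤ b) :
    |∑ i ∈ range n, nth 0 a i * f i| ≤ sumAbs a * b := by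
  induction a generalizing n f with
  | nil => simp [nth_nil, sumAbs]
  | cons m a ih =>
    have e : (sumAbs (m :: a) : ℤ) = |m| + sumAbs a := by
      show ((m.natAbs + sumAbs a : ℕ) : ℤ) = _
      push_cast; rfl
    cases n with
    | zero => rw [sum_range_zero, abs_zero]; exact mul_nonneg (Int.natCast_nonneg _) hb
    | succ n =>
      rw [sum_range_succ', e, add_mul, add_comm]
      refine (abs_add_le _ _).trans (add_le_add ?_ (ih n fun i hi => h _ (Nat.succ_lt_succ hi)))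
      rw [abs_mul]
      exact mul_le_mul_of_nonneg_left (h 0 n.succ_pos) (abs_nonneg _)

/-- the four coordinates in one number -/
def en (D : ℤ) (x : Q) : ℤ := Int.add x.a (Int.mul D (Int.add x.b (Int.mul D (Int.add x.c (Int.mul D x.d)))))

theorem en_eq (D : ℤ) (x : Q) : en D x = x.a + D * (x.b + D * (x.c + D * x.d)) := rfl

theorem en_add (D : ℤ) (x y : Q) : en D (add x y) = en D x + en D y := by
  show x.a + y.a + D * (x.b + y.b + D * (x.c + y.c + D * (x.d + y.d))) = _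
  rw [en_eq, en_eq]; ring

theorem en_sm (D m : ℤ) (x : Q) : en D (sm m x) = m * en D x := by
  show m * x.a + D * (m * x.b + D * (m * x.c + D * (m * x.d))) = _
  rw [en_eq]; ring

theorem en_z (D : ℤ) : en D (z 0) = 0 := by
  show 0 + D * (0 + D * (0 + D * 0)) = 0
  ring

theorem dig_lt {D M u v : ℤ} (hu : |u| < D) (hv : |v| < M) : |u + D * v| < D * M := by
  have h0 : 0 ≤ D := (abs_nonneg u).trans hu.le
  have h1 := mul_le_mul_of_nonneg_left (Int.add_one_le_of_lt hv) h0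
  have h2 := abs_add_le u (D * v)
  rw [abs_mul, abs_of_nonneg h0] at h2
  linarith

theorem dig_zero {D u v : ℤ} (hu : |u| < D) (e : u + D * v = 0) : u = 0 ∧ v = 0 := by
  have h1 : u = 0 := Int.eq_zero_of_abs_lt_dvd ⟨-v, by linarith⟩ hu
  rw [h1, zero_add] at e
  exact ⟨h1, (mul_eq_zero.1 e).resolve_left ((abs_nonneg u).trans_lt hu).ne'⟩

theorem pack4 {D : ℤ} {n : ℕ} {x y : ℕ → Q}
    (h : ∀ π : Q → ℤ, (∀ x y, π (add x y) = π x + π y) → (∀ m x, π (sm m x) = m * π x) → π (z 0) = 0 →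
      (∀ x, (π x).natAbs ≤ nab x) → ∀ i < n, |π (x i) - π (y i)| < D)
    (e : ∑ i ∈ range n, en D (x i) * (D ^ 4) ^ i = ∑ i ∈ range n, en D (y i) * (D ^ 4) ^ i) {i : ℕ} (hi : i < n) :
    x i = y i := by
  have e1 : ∀ x : Q, nab x = x.a.natAbs + x.b.natAbs + (x.c.natAbs + x.d.natAbs) := fun _ => rfl
  have ha := h Q.a (fun _ _ => rfl) (fun _ _ => rfl) rfl fun x => by rw [e1]; omega
  have hb := h Q.b (fun _ _ => rfl) (fun _ _ => rfl) rfl fun x => by rw [e1]; omega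
  have hc := h Q.c (fun _ _ => rfl) (fun _ _ => rfl) rfl fun x => by rw [e1]; omega
  have hd := h Q.d (fun _ _ => rfl) (fun _ _ => rfl) rfl fun x => by rw [e1]; omega
  have e2 : ∀ i, en D (x i) - en D (y i) = (x i).a - (y i).a + D * ((x i).b - (y i).b + D * ((x i).c - (y i).c +
      D * ((x i).d - (y i).d))) := fun i => by rw [en_eq, en_eq]; ring
  have h1 := pack_inj (B := D ^ 4) (n := n) (d := fun i => en D (x i) - en D (y i)) (fun i hi => by
    rw [e2, show D ^ 4 = D * (D * (D * D)) by ring]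
    exact dig_lt (ha i hi) (dig_lt (hb i hi) (dig_lt (hc i hi) (hd i hi))))
    (by simp only [sub_mul, sum_sub_distrib, e, sub_self]) i hi
  obtain ⟨a1, h2⟩ := dig_zero (ha i hi) ((e2 i).symm.trans h1)
  obtain ⟨a2, h3⟩ := dig_zero (hb i hi) h2
  obtain ⟨a3, a4⟩ := dig_zero (hc i hi) h3
  refine eq_iff.1 ?_
  simp only [eq, Bool.and_eq_true, decide_eq_true_eq]
  exact ⟨⟨⟨sub_eq_zero.1 a1, sub_eq_zero.1 a2⟩, sub_eq_zero.1 a3⟩, sub_eq_zero.1 a4⟩

def pkE (B : ℤ) (f : Q → ℤ) (l : List Q) : ℤ := List.rec 0 (fun x _ ih => Int.add (f x) (Int.mul B ih)) l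

def zpk (B : ℤ) (f : Q → ℤ) (c : List Q) : List ℤ → List ℤ :=
  List.rec (fun s => s.map (Int.mul B)) (fun x _ ih s => List.casesOn s (f x :: ih []) fun y s' =>
    Int.add (f x) (Int.mul B y) :: ih s') c

/-- the packed rows -/
def pkR (B : ℤ) (f : Q → ℤ) (C : List (List Q)) : List ℤ := List.rec [] (fun c _ ih => zpk B f c ih) C

def smZ (g : ℕ → ℤ) (l : List ℕ) : ℤ := List.rec 0 (fun c _ ih => Int.add (g (Nat.mod c 256)) ih) l

def dotS (a : List ℤ) : List ℤ → ℤ :=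
  List.rec (fun _ => 0) (fun m _ ih c => List.casesOn c 0 fun x c' =>
    cond (decide (m = 0)) (ih c') (Int.add (Int.mul m x) (ih c'))) a

theorem dotS_eq {a : List ℤ} (c : List ℤ) {n : ℕ} (hn : a.length ≤ n) :
    dotS a c = ∑ φ ∈ range n, nth 0 a φ * nth 0 c φ := by
  induction a generalizing c n with
  | nil => simp [dotS, nth_nil]
  | cons m a ih =>
    cases c with
    | nil => simp [dotS, nth_nil]
    | cons x c =>
      cases n with
      | zero => simp at hn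
      | succ n =>
        rw [sum_range_succ', add_comm]
        show cond (decide (m = 0)) (dotS a c) (m * x + dotS a c) = m * x + _
        rw [← show dotS a c = ∑ φ ∈ range n, nth 0 (m :: a) (φ + 1) * nth 0 (x :: c) (φ + 1) from
          ih c (Nat.le_of_succ_le_succ hn)]
        by_cases h : m = 0
        · rw [decide_eq_true h, cond_true, h, zero_mul, zero_add]
        · rw [decide_eq_false h, cond_false]

section proj2

variable {π : Q → ℤ} (h1 : ∀ x y, π (add x y) = π x + π y) (h2 : ∀ m x, π (sm m x) = m * π x) (h3 : π (z 0) = 0)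
  (h4 : ∀ x, (π x).natAbs ≤ nab x)
include h3

theorem pkE_eq (B : ℤ) {l : List Q} {n : ℕ} (hn : l.length ≤ n) :
    pkE B π l = ∑ i ∈ range n, π (nth (z 0) l i) * B ^ i := by
  induction l generalizing n with
  | nil => simp [pkE, nth_nil, h3]
  | cons a l ih =>
    cases n with
    | zero => simp at hn
    | succ n =>
      rw [sum_range_succ', nth_zero, pow_zero, mul_one, add_comm]
      show π a + B * pkE B π l = _
      rw [ih (Nat.le_of_succ_le_succ hn), mul_sum]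
      exact congrArg _ (sum_congr rfl fun i _ => by rw [nth_succ]; ring)

theorem nth_zpk (B : ℤ) (c : List Q) (s : List ℤ) (i : ℕ) :
    nth 0 (zpk B π c s) i = π (nth (z 0) c i) + B * nth 0 s i := by
  induction c generalizing s i with
  | nil =>
    rw [nth_nil, h3, zero_add]
    show nth 0 (s.map (Int.mul B)) i = _
    induction s generalizing i with
    | nil => exact (mul_zero B).symm
    | cons y s ih => cases i with
      | zero => rfl
      | succ i => exact ih i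
  | cons x c ih =>
    cases s with
    | nil => cases i with
      | zero => exact ((congrArg _ (mul_zero B)).trans (add_zero _)).symm
      | succ i => exact ih [] i
    | cons y s => cases i with
      | zero => rfl
      | succ i => exact ih s i

theorem nth_pkR (B : ℤ) (C : List (List Q)) (i : ℕ) :
    nth 0 (pkR B π C) i = ∑ k ∈ range C.length, π (nth (z 0) (nth [] C k) i) * B ^ k := by
  induction C with
  | nil => rfl
  | cons c C ih =>
    rw [List.length_cons, sum_range_succ', nth_zero, pow_zero, mul_one, add_comm]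
    refine (nth_zpk h3 B c (pkR B π C) i).trans (congrArg _ ?_)
    rw [ih, mul_sum]
    exact sum_congr rfl fun k _ => by rw [nth_succ]; ring

include h1 in
theorem pr_sm (g : ℕ → Q) (r : List ℕ) : π (smQ g r) = smZ (fun k => π (g k)) r := by
  induction r with
  | nil => exact h3
  | cons c r ih => exact (h1 _ _).trans (congrArg (π (g (c % 256)) + ·) ih)

include h1 h2 in
theorem pr_dot {a : List ℤ} (c : List Q) {n : ℕ} (hn : a.length ≤ n) :
    π (dotQ a c) = ∑ φ ∈ range n, nth 0 a φ * π (nth (z 0) c φ) := by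
  induction a generalizing c n with
  | nil => simp [dotQ, nth_nil, h3]
  | cons m a ih =>
    cases c with
    | nil => simp [dotQ, nth_nil, h3]
    | cons x c =>
      cases n with
      | zero => simp at hn
      | succ n =>
        rw [sum_range_succ', add_comm]
        show π (cond (decide (m = 0)) (dotQ a c) (add (sm m x) (dotQ a c))) = m * π x + _
        rw [← show π (dotQ a c) = ∑ φ ∈ range n, nth 0 (m :: a) (φ + 1) * π (nth (z 0) (x :: c) (φ + 1)) from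
          ih c (Nat.le_of_succ_le_succ hn)]
        by_cases h : m = 0
        · rw [decide_eq_true h, cond_true, h, zero_mul, zero_add]
        · rw [decide_eq_false h, cond_false, h1, h2]

include h4 in
theorem pr_bd {b : ℕ} {C : List (List Q)} (hX : ∀ c ∈ C, ∀ x ∈ c, nab x ≤ b) (k φ : ℕ) :
    |π (nth (z 0) (nth [] C k) φ)| ≤ b := by
  rw [Int.abs_eq_natAbs]
  rcases nth_or (z 0) (nth [] C k) φ with h5 | h5
  · rcases nth_or [] C k with h6 | h6
    · exact Int.ofNat_le.2 ((h4 _).trans (hX _ h6 _ h5))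
    · rw [h6] at h5; exact absurd h5 List.not_mem_nil
  · rw [h5, h3]; exact Int.natCast_nonneg _

end proj2

theorem abs_smZ {g : ℕ → ℤ} {b : ℤ} (h : ∀ k, |g k| ≤ b) (r : List ℕ) : |smZ g r| ≤ r.length * b := by
  induction r with
  | nil => simp [smZ]
  | cons c r ih =>
    rw [List.length_cons, Nat.cast_succ, add_mul, one_mul, add_comm]
    exact (abs_add_le _ _).trans (add_le_add (h _) ih)

theorem smZ_sum {g : ℕ → ℤ} {f : ℕ → ℕ → ℤ} {K n : ℕ} {r : List ℕ} (hr : ∀ c ∈ r, c % 256 < K) (w : ℕ → ℤ)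
    (h : ∀ k < K, g k = ∑ i ∈ range n, f i k * w i) : smZ g r = ∑ i ∈ range n, smZ (f i) r * w i := by
  induction r with
  | nil => simp [smZ]
  | cons c r ih =>
    show g (c % 256) + smZ g r = ∑ i ∈ range n, (f i (c % 256) + smZ (f i) r) * w i
    simp only [add_mul, sum_add_distrib]
    rw [h _ (hr c List.mem_cons_self), ih fun x hx => hr x (List.mem_cons_of_mem _ hx)]

theorem sab_bd {π : Q → ℤ} (h4 : ∀ x, (π x).natAbs ≤ nab x) (l : List Q) (i : ℕ) : |π (nth (z 0) l i)| ≤ sab l := by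
  rw [Int.abs_eq_natAbs]; exact Int.ofNat_le.2 ((h4 _).trans (nab_le l i))

theorem q_lin {K b : ℕ} {D : ℤ} {XC : List (List Q)} (hK : XC.length = K)
    (hX : ∀ c ∈ XC, c.length ≤ K ∧ ∀ x ∈ c, nab x ≤ b) {r : List ℕ} (hr : ∀ c ∈ r, c % 256 < K) {l : List Q}
    (hl : l.length ≤ K) (hB : ((r.length * b + sab l : ℕ) : ℤ) < D)
    (e : smZ (nth 0 (XC.map (pkE (D ^ 4) (en D)))) r = pkE (D ^ 4) (en D) l) {φ : ℕ} (hφ : φ < K) :
    smQ (fun k => nth (z 0) (nth [] XC k) φ) r = nth (z 0) l φ := by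
  rw [Nat.cast_add, Nat.cast_mul] at hB
  refine pack4 (D := D) (x := fun φ => smQ (fun k => nth (z 0) (nth [] XC k) φ) r) (y := nth (z 0) l)
    (fun π h1 _ h3 h4 i _ => ?_) ?_ hφ
  · rw [pr_sm h1 h3]
    exact lt_of_le_of_lt ((abs_sub _ _).trans (add_le_add
      (abs_smZ (fun k => pr_bd h3 h4 (fun c hc => (hX c hc).2) k i) r) (sab_bd h4 l i))) hB
  · simp only [pr_sm (en_add D) (en_z D)]
    rw [← pkE_eq (en_z D) _ hl, ← e]
    exact (smZ_sum hr _ fun k hk => by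
      rw [nth_map [] _ _ (hK ▸ hk), pkE_eq (en_z D) _ (hX _ (nth_mem _ (hK ▸ hk))).1]).symm

theorem q_val {b : ℕ} {D : ℤ} {C : List (List Q)} (hX : ∀ c ∈ C, ∀ x ∈ c, nab x ≤ b) {a : List ℤ} {v : List Q}
    (hv : v.length = C.length) (hB : ((sumAbs a * b + sab v : ℕ) : ℤ) < D)
    (e : dotS a (pkR (D ^ 4) (en D) C) = pkE (D ^ 4) (en D) v) {k : ℕ} (hk : k < C.length) :
    dotQ a (nth [] C k) = nth (z 0) v k := by
  rw [Nat.cast_add, Nat.cast_mul] at hB
  refine pack4 (D := D) (x := fun k => dotQ a (nth [] C k)) (y := nth (z 0) v) (fun π h1 h2 h3 h4 i _ => ?_) ?_ hk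
  · rw [pr_dot h1 h2 h3 _ le_rfl]
    exact lt_of_le_of_lt ((abs_sub _ _).trans (add_le_add
      (abs_dot_le a _ (fun φ _ => pr_bd h3 h4 hX i φ) (Int.natCast_nonneg _)) (sab_bd h4 v i))) hB
  · rw [← pkE_eq (en_z D) _ hv.le, ← e, dotS_eq _ le_rfl]
    simp only [pr_dot (en_add D) (en_sm D) (en_z D) _ (le_refl a.length), nth_pkR (en_z D), sum_mul, mul_sum, mul_assoc]
    exact sum_comm

namespace Tb

variable (T : Tb)

/-- the function with the values `v` has the coordinates `a` -/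
def valOK (v : List Q) (a : List ℤ) : Bool := Nat.ble a.length T.K && all2 (fun x c => x.eq (dotQ a c)) v T.XC

def baseOK : Bool :=
  Nat.blt 0 T.K && decide (T.w 0 = 1) && decide (sumLt T.K T.w = T.nu) && Nat.beq T.XC.length T.K &&
  T.XC.all (fun c => Nat.ble c.length T.K && (nth (z 0) c 0).eq (z 1) && c.all fun x => Nat.ble (nab x) T.b) &&
  T.rows.all (fun R => Nat.beq R.length T.K && R.all fun r => r.all fun c => Nat.blt (Nat.mod c 256) T.K) &&
  allLt T.K (fun φ => (T.X φ 0).eq (z (T.dg φ)) && decide (0 < T.dg φ)) &&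
  T.valOK (z T.nu :: List.replicate (T.K - 1) (z 0)) ((nth [] T.XC 0).map Q.a)

def massS : Bool := T.rows.all fun R => (fun R' => allLt T.K fun j =>
  decide (sum2 (fun r => Int.ofNat (cnt j r)) T.n R' = (nth [] R 0).length * T.w j)) (R.map (List.map fun c => Nat.mod c 256))

def nrmS : Bool := allLt T.K fun φ => decide (sum2 (fun c => (T.f.nq (nth (z 0) c φ)).a) T.n T.XC = T.nu)

def nrmOK : Bool := (fun A : List ℤ => allLt T.K fun φ => decide (nth 0 A φ = T.nu)) (accZ (fun x => (T.f.nq x).a) T.n T.XC)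

def massOK : Bool := Nat.ble T.n.length T.K && T.rows.all fun R => fN (nth [] R 0).length fun L =>
  fN (Nat.succ (Nat.mul 2 (Nat.mul (sumAbs T.n) L))) fun B => R.all (fun r => Nat.ble r.length L) &&
    decide (sum2 (fun r => Int.ofNat (hs B r)) T.n R = L * pkz B T.n)

def valF (v : List Q) (a : List ℤ) : Bool :=
  Nat.ble a.length T.K && Nat.beq v.length T.K && Nat.blt (Nat.add (Nat.mul (sumAbs a) T.b) (sab v)) 16777259 &&
    decide (dotS a (pkR (16777259 ^ 4) (en 16777259) T.XC) = pkE (16777259 ^ 4) (en 16777259) v)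

def eig1 (D : ℤ) (XP : List ℤ) (LV : List (Q × Q × Q × Q)) (o k : ℕ) : Bool :=
  fN k fun k => (fun r l => Nat.ble l.length T.K && decide (((r.length * T.b + sab l : ℕ) : ℤ) < D) &&
    decide (smZ (fun j => fN j (nth 0 XP)) r = pkE (D ^ 4) (en D) l)) (T.row o k) (zq LV (nth [] T.XC k))

/-- the classes `m, ..., m + n - 1` -/
def eigOK (o m n : ℕ) : Bool :=
  (fun D => (fun XP LV => allLt n fun i => T.eig1 D XP LV o (m + i)) (T.XC.map (pkE (D ^ 4) (en D)))
    ((nth [] T.lev o).map (pw T.f.P))) (T.B + 1)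

/-- the eigenvalue equations below `m` are checked -/
def Eg (o m : ℕ) : Prop :=
  ∀ k < m, T.eig1 (T.B + 1) (T.XC.map (pkE ((T.B + 1) ^ 4) (en (T.B + 1)))) ((nth [] T.lev o).map (pw T.f.P)) o k = true

variable {T}

theorem Eg.zero {o : ℕ} : T.Eg o 0 := fun k hk => absurd hk (Nat.not_lt_zero k)

theorem Eg.step {o m : ℕ} (h : T.Eg o m) (n : ℕ) (h' : T.eigOK o m n = true) : T.Eg o (m + n) := fun k hk => by
  by_cases h1 : k < m
  · exact h k h1
  · have h2 := allLt_iff.1 h' (k - m) (by omega)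
    rwa [show m + (k - m) = k by omega] at h2

theorem nrm_of (h : T.nrmOK = true) : T.nrmS = true := allLt_iff.2 fun φ hφ => by
  have h1 := allLt_iff.1 h φ hφ
  rwa [nth_accZ (f := fun x => (T.f.nq x).a) (by simp [Fd.nq, z, add, sm])] at h1

theorem mass_of (hb : T.baseOK = true) (h : T.massOK = true) : T.massS = true := by
  simp only [baseOK, Bool.and_eq_true, Nat.blt_eq, Nat.beq_eq, List.all_eq_true] at hb
  simp only [massOK, fN_eq, Bool.and_eq_true, Nat.ble_eq, List.all_eq_true, decide_eq_true_eq] at h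
  refine List.all_eq_true.2 fun R hR => allLt_iff.2 fun j hj => decide_eq_true ?_
  obtain ⟨a1, a2⟩ := hb.1.1.2 R hR
  obtain ⟨a3, a4⟩ := h.2 R hR
  generalize (nth [] R 0).length = L at a3 a4
  have e : ∀ i, sum2 (fun r => Int.ofNat (cnt i r)) T.n (R.map (List.map fun c => Nat.mod c 256)) =
      ∑ k ∈ range R.length, nth 0 T.n k * (cnt i ((nth [] R k).map fun c => Nat.mod c 256) : ℤ) := fun i => by
    rw [sum2_eq [], List.length_map]
    exact sum_congr rfl fun k hk => by rw [nth_map [] _ _ (mem_range.1 hk)]; rfl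
  refine sub_eq_zero.1 (pack_inj (n := T.K) (B := ((Nat.succ (Nat.mul 2 (Nat.mul (sumAbs T.n) L)) : ℕ) : ℤ))
    (d := fun i => sum2 (fun r => Int.ofNat (cnt i r)) T.n (R.map (List.map fun c => Nat.mod c 256)) - L * T.w i)
    (fun i _ => ?_) ?_ j hj)
  · have b1 := abs_dot_le T.n (b := L) R.length
      (f := fun k => (cnt i ((nth [] R k).map fun c => Nat.mod c 256) : ℤ)) (fun k hk => by
        rw [abs_of_nonneg (Int.natCast_nonneg _)]
        refine (cnt_le _ _).trans ?_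
        rw [List.length_map]
        exact Int.ofNat_le.2 (a3 _ (nth_mem _ hk))) (Int.natCast_nonneg _)
    have b2 : |L * T.w i| ≤ sumAbs T.n * (L : ℤ) := by
      rw [abs_mul, abs_of_nonneg (Int.natCast_nonneg _), mul_comm]
      exact mul_le_mul_of_nonneg_right (abs_nth_le _ _) (Int.natCast_nonneg _)
    refine lt_of_le_of_lt ((abs_sub _ _).trans (add_le_add (e i ▸ b1) b2)) ?_
    show _ < ((2 * (sumAbs T.n * L) + 1 : ℕ) : ℤ)
    push_cast
    omega
  · simp only [sub_mul, sum_sub_distrib, e, mul_assoc, ← mul_sum]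
    rw [sum2_eq [], pkz_eq _ h.1] at a4
    refine sub_eq_zero.2 (Eq.trans ?_ a4)
    simp only [sum_mul, mul_assoc]
    rw [sum_comm]
    refine sum_congr rfl fun k hk => ?_
    rw [← mul_sum, ← hs_eq _ (a2 _ (nth_mem _ (mem_range.1 hk)))]
    rfl

theorem val_of (hb : T.baseOK = true) {v : List Q} {a : List ℤ} (h : T.valF v a = true) : T.valOK v a = true := by
  simp only [baseOK, Bool.and_eq_true, Nat.beq_eq, Nat.ble_eq, List.all_eq_true] at hb
  simp only [valF, Bool.and_eq_true, Nat.beq_eq, Nat.ble_eq, Nat.blt_eq, decide_eq_true_eq] at h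
  obtain ⟨⟨⟨a1, a2⟩, a3⟩, a4⟩ := h
  have hv : v.length = T.XC.length := a2.trans hb.1.1.1.1.2.symm
  refine Bool.and_eq_true_iff.2 ⟨Nat.ble_eq_true_of_le a1, all2_iff.2 (List.forall₂_iff_get.2 ⟨hv, fun k h5 h6 => ?_⟩)⟩
  rw [List.get_eq_getElem, List.get_eq_getElem, ← List.getD_eq_getElem _ (z 0), ← List.getD_eq_getElem _ [], ← nth_eq, ← nth_eq]
  exact eq_iff.2 (q_val (fun c hc => (hb.1.1.1.2 c hc).2) hv (Int.ofNat_lt.2 a3) a4 h6).symm

theorem valOK_spec (ζ : ℂ) (hK : T.XC.length = T.K) {v : List Q} {a : List ℤ} (h : T.valOK v a = true) {k : ℕ}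
    (hk : k < T.K) : ev ζ (nth (z 0) v k) = ∑ φ ∈ range T.K, (nth 0 a φ : ℤ) * ev ζ (T.X φ k) := by
  rw [valOK, Bool.and_eq_true, Nat.ble_eq, all2_iff, List.forall₂_iff_get] at h
  have h1 := h.2.2 k (h.2.1 ▸ hK ▸ hk) (hK ▸ hk)
  rw [eq_iff, List.get_eq_getElem, List.get_eq_getElem] at h1
  rw [nth_eq, List.getD_eq_getElem _ _ (h.2.1 ▸ hK ▸ hk), h1, ev_dotQ ζ _ h.1]
  simp only [X, nth_eq [] T.XC k, List.getD_eq_getElem _ _ (hK ▸ hk)]

theorem sp_of {ζ : ℂ} (ok : T.f.Ok ζ) (h1 : T.baseOK = true) (h2 : T.massOK = true) (h3 : T.nrmOK = true)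
    (h4 : ∀ o < T.rows.length, T.Eg o T.K) : T.Sp ζ ∧ T.XC.length = T.K := by
  replace h2 := mass_of h1 h2
  replace h3 := nrm_of h3
  simp only [baseOK, Bool.and_eq_true, Nat.blt_eq, Nat.beq_eq, Nat.ble_eq, decide_eq_true_eq, List.all_eq_true,
    allLt_iff, eq_iff, sumLt_eq] at h1
  obtain ⟨⟨⟨⟨⟨⟨⟨a1, a2⟩, a3⟩, a4⟩, a5⟩, a6⟩, a7⟩, a8⟩ := h1
  have b1 : ∀ o < T.rows.length, ∀ k < T.K, ∀ c ∈ T.row o k, c % 256 < T.K := fun o ho k hk =>
    (a6 _ (nth_mem [] ho)).2 _ (nth_mem [] ((a6 _ (nth_mem [] ho)).1 ▸ hk))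
  refine ⟨⟨ok, a1, a2, a3, b1, fun o ho j hj => ?_, fun k hk => (a5 _ (nth_mem [] (a4 ▸ hk))).1.2,
    fun o ho k hk φ hφ => ?_, fun φ hφ => ?_, a7, fun k hk => ?_⟩, a4⟩
  · have h5 := allLt_iff.1 (List.all_eq_true.1 h2 _ (nth_mem [] ho)) j hj
    have h6 := (a6 _ (nth_mem [] ho)).1
    rw [decide_eq_true_eq, sum2_eq [], List.length_map, h6] at h5
    refine Eq.trans (sum_congr rfl fun k hk => ?_) h5
    rw [nth_map [] _ _ (h6 ▸ mem_range.1 hk), cnt_eq]
    rfl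
  · have h5 := h4 o ho k hk
    simp only [eig1, fN_eq, Bool.and_eq_true, Nat.ble_eq, decide_eq_true_eq] at h5
    have h6 := congrArg (ev ζ) (q_lin a4 (fun c hc => ⟨(a5 c hc).1.1, (a5 c hc).2⟩) (b1 o ho k hk) h5.1.1 h5.1.2 h5.2 hφ)
    rw [ev_smQ, ev_zq ok.pw] at h6
    exact h6
  · have h5 := allLt_iff.1 h3 φ hφ
    rw [decide_eq_true_eq, sum2_eq [], a4] at h5
    exact h5
  · have h5 := valOK_spec ζ a4 a8 hk
    have h6 : ∀ φ, nth 0 ((nth [] T.XC 0).map Q.a) φ = T.dg φ := fun φ => by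
      rw [dg, X]
      generalize nth [] T.XC 0 = l
      induction l generalizing φ with
      | nil => rfl
      | cons x l ih => cases φ <;> [rfl; exact ih _]
    simp only [h6] at h5
    rw [← h5]
    cases k with
    | zero => simp [nth_zero, ev_z]
    | succ k =>
      rw [nth_succ, if_neg (Nat.succ_ne_zero k)]
      rcases nth_or (z 0) (List.replicate (T.K - 1) (z 0)) k with h7 | h7
      · rw [List.eq_of_mem_replicate h7, ev_z, Int.cast_zero]
      · rw [h7, ev_z, Int.cast_zero]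

end Tb

/-- instructions -/
inductive Is where
  | prod (a b : ℕ) (out : List ℤ)
  | unit (φ : ℕ) (cf : List (ℤ × ℕ))

def same (T : Tb) (φ φ' : ℕ) : Bool := allLt T.rows.length fun o => (T.lv o φ').eq (T.lv o φ)

def unitOK (T : Tb) (P : List (List ℤ)) (kn φ : ℕ) (cf : List (ℤ × ℕ)) : Bool :=
  Nat.blt φ T.K && (cf.all fun p => Nat.blt p.2 P.length) && allLt T.K fun φ' => Nat.testBit kn φ' ||
    decide (dotP cf (fun j => nth 0 (nth [] P j) φ') = cond (Nat.beq φ' φ) 1 0) || !same T φ φ'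

def goS (T : Tb) (pr : List Is) : List (List ℤ) → ℕ → Bool :=
  List.rec (fun _ kn => allLt T.K fun φ => Nat.testBit kn φ)
    (fun i _ ih P kn => Is.casesOn i
      (fun a b out => Nat.testBit kn a && Nat.testBit kn b &&
        T.valOK (T.XC.map fun c => mul' (pw T.f.P (nth (z 0) c a)) (nth (z 0) c b)) out && ih (out :: P) kn)
      (fun φ cf => unitOK T P kn φ cf && ih P (Nat.lor kn (Nat.shiftLeft 1 φ)))) pr

def unitF (T : Tb) (P : List (List ℤ)) (kn φ : ℕ) (cf : List (ℤ × ℕ)) : Bool :=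
  Nat.blt φ T.K && (cf.all fun p => Nat.blt p.2 P.length) && allLt T.K fun φ' =>
    !Nat.beq (Nat.land 1 (Nat.shiftRight kn φ')) 0 || cond (Nat.beq φ' φ)
      (decide (dotP cf (fun j => nth 0 (nth [] P j) φ') = 1)) (decide (dotP cf (fun j => nth 0 (nth [] P j) φ') = 0)) ||
        !same T φ φ'

theorem unitF_eq (T : Tb) (P : List (List ℤ)) (kn φ : ℕ) (cf : List (ℤ × ℕ)) : unitF T P kn φ cf = unitOK T P kn φ cf := by
  refine congrArg (fun f => _ && allLt T.K f) (funext fun φ' => congrArg (· || _) (congrArg₂ _ ?_ ?_))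
  · show (!Nat.beq (1 &&& kn >>> φ') 0) = (1 &&& kn >>> φ' != 0)
    cases 1 &&& kn >>> φ' <;> rfl
  · cases Nat.beq φ' φ <;> rfl

def go (T : Tb) (pr : List Is) : List (List ℤ) → ℕ → Bool :=
  List.rec (fun _ kn => allLt T.K fun φ => Nat.testBit kn φ)
    (fun i _ ih P kn => Is.casesOn i
      (fun a b out => Nat.testBit kn a && Nat.testBit kn b &&
        T.valF (T.XC.map fun c => fQ (nth (z 0) c a) fun x => fQ (nth (z 0) c b) fun y => mul' (pw T.f.P x) y) out &&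
          ih (out :: P) kn)
      (fun φ cf => unitF T P kn φ cf && ih P (Nat.lor kn (Nat.shiftLeft 1 φ)))) pr

theorem go_of {T : Tb} (hb : T.baseOK = true) {pr : List Is} {P : List (List ℤ)} {kn : ℕ} (h : go T pr P kn = true) :
    goS T pr P kn = true := by
  induction pr generalizing P kn with
  | nil => exact h
  | cons i pr ih =>
    cases i with
    | prod a b out =>
      obtain ⟨h1, h2⟩ := Bool.and_eq_true_iff.1 h
      obtain ⟨h3, h4⟩ := Bool.and_eq_true_iff.1 h1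
      exact Bool.and_eq_true_iff.2 ⟨Bool.and_eq_true_iff.2 ⟨h3, Tb.val_of hb h4⟩, ih h2⟩
    | unit φ cf =>
      obtain ⟨h1, h2⟩ := Bool.and_eq_true_iff.1 h
      exact Bool.and_eq_true_iff.2 ⟨unitF_eq T P kn φ cf ▸ h1, ih h2⟩

variable {H : Type} [Group H] [Fintype H] {T : Tb} {ζ : ℂ} {e : ℕ → H} {tl : ℕ → List H}

theorem VC.same (C : Cl T e tl) (S : T.Sp ζ) {a : ℕ → ℤ} (h : VC T ζ e a) (φ : ℕ) :
    VC T ζ e fun φ' => if same T φ φ' = true then a φ' else 0 := by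
  have key : ∀ n ≤ T.rows.length,
      VC T ζ e fun φ' => if (allLt n fun o => (T.lv o φ').eq (T.lv o φ)) = true then a φ' else 0 := fun n hn => by
    induction n with
    | zero => exact h
    | succ n ih =>
      refine ((ih (Nat.le_of_succ_le hn)).lev C S hn (T.lv n φ)).congr fun φ' _ => ?_
      have e1 : (allLt (n + 1) fun o => (T.lv o φ').eq (T.lv o φ)) =
        ((T.lv n φ').eq (T.lv n φ) && allLt n fun o => (T.lv o φ').eq (T.lv o φ)) := rfl
      rw [e1]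
      cases (T.lv n φ').eq (T.lv n φ) <;> simp
  exact key _ le_rfl

theorem unit_spec (C : Cl T e tl) (S : T.Sp ζ) {P : List (List ℤ)} (hP : ∀ l ∈ P, VC T ζ e (nth 0 l)) {kn : ℕ}
    (hk : ∀ φ, Nat.testBit kn φ = true → φ < T.K ∧ UC T ζ e φ) {φ : ℕ} {cf : List (ℤ × ℕ)}
    (h : unitOK T P kn φ cf = true) : φ < T.K ∧ UC T ζ e φ := by
  simp only [unitOK, Bool.and_eq_true, Nat.blt_eq, List.all_eq_true, allLt_iff, Bool.or_eq_true, Bool.not_eq_true',
    decide_eq_true_eq] at h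
  obtain ⟨⟨h1, h2⟩, h3⟩ := h
  by_cases h4 : Nat.testBit kn φ = true
  · exact hk φ h4
  have h5 : VC T ζ e fun φ' => dotP cf fun j => nth 0 (nth [] P j) φ' := by
    clear h3
    induction cf with
    | nil => exact VC.zero
    | cons p cf ih =>
      exact VC.add (VC.smul (hP _ (nth_mem _ (h2 p List.mem_cons_self))) p.1)
        (ih fun q hq => h2 q (List.mem_cons_of_mem _ hq))
  have h6 := h5.same C S φ
  generalize hb : (fun φ' => if same T φ φ' = true then dotP cf fun j => nth 0 (nth [] P j) φ' else 0) = b at h6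
  have h7 := VC.sum (T := T) (ζ := ζ) (e := e) ((range T.K).filter fun i => Nat.testBit kn i = true)
    (a := fun i φ' => -b i * if φ' = i then 1 else 0) fun i hi =>
      ((uc_iff (mem_range.1 (mem_filter.1 hi).1)).1 (hk i (mem_filter.1 hi).2).2).smul _
  refine ⟨h1, (uc_iff h1).2 ((h6.add h7).congr fun φ' hφ' => ?_)⟩
  simp only [mul_ite, mul_one, mul_zero, sum_ite_eq, mem_filter, mem_range, hφ', true_and]
  have h0 : same T φ φ = true := allLt_iff.2 fun o _ => eq_iff.2 rfl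
  by_cases h8 : Nat.testBit kn φ' = true
  · rw [if_pos h8, add_neg_cancel, if_neg fun e : φ' = φ => h4 (e ▸ h8)]
  · rw [if_neg h8, add_zero, ← hb]
    rcases h3 φ' hφ' with (h9 | h9) | h9
    · exact absurd h9 h8
    · by_cases e : φ' = φ
      · subst e
        simp [h9, h0]
      · rw [Bool.eq_false_iff.2 fun h10 => e (Nat.eq_of_beq_eq_true h10)] at h9
        simp [h9, e]
    · have h10 : φ' ≠ φ := by
        rintro rfl
        simp [h0] at h9
      simp [h9, h10]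

theorem go_spec (C : Cl T e tl) (S : T.Sp ζ) (hK : T.XC.length = T.K) (pr : List Is) {P : List (List ℤ)}
    (hP : ∀ l ∈ P, VC T ζ e (nth 0 l)) {kn : ℕ} (hk : ∀ φ, Nat.testBit kn φ = true → φ < T.K ∧ UC T ζ e φ)
    (h : goS T pr P kn = true) : ∀ φ < T.K, UC T ζ e φ := by
  induction pr generalizing P kn with
  | nil => exact fun φ hφ => (hk φ (allLt_iff.1 h φ hφ)).2
  | cons i pr ih =>
    cases i with
    | prod a b out =>
      have h1 : (Nat.testBit kn a && Nat.testBit kn b &&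
        T.valOK (T.XC.map fun c => mul' (pw T.f.P (nth (z 0) c a)) (nth (z 0) c b)) out &&
          goS T pr (out :: P) kn) = true := h
      simp only [Bool.and_eq_true] at h1
      obtain ⟨f, h2, h3⟩ := (hk a h1.1.1.1).2
      obtain ⟨g, h4, h5⟩ := (hk b h1.1.1.2).2
      refine ih (List.forall_mem_cons.2 ⟨⟨f * g, gen_mul h2 h4, fun k hk => ?_⟩, hP⟩) hk h1.2
      rw [Pi.mul_apply, h3 k hk, h5 k hk, ← Tb.valOK_spec ζ hK h1.1.2 hk, nth_map [] _ _ (hK ▸ hk), ev_mul S.ok.pw]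
      rfl
    | unit φ cf =>
      have h1 : (unitOK T P kn φ cf && goS T pr P (kn ||| 1 <<< φ)) = true := h
      rw [Bool.and_eq_true] at h1
      refine ih hP (fun i hi => ?_) h1.2
      rw [Nat.testBit_or, Bool.or_eq_true, Nat.one_shiftLeft, Nat.testBit_two_pow, decide_eq_true_eq] at hi
      rcases hi with hi | rfl
      exacts [hk i hi, unit_spec C S hP hk h1.1]

/-- the table is correct; `P` are the coordinates of the basic characters -/
structure Tb.Good (T : Tb) (P : List (List ℤ)) : Prop where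
  ok : ∃ ζ, T.f.Ok ζ
  base : T.baseOK = true
  mass : T.massOK = true
  nrm : T.nrmOK = true
  eig : ∀ o < T.rows.length, T.Eg o T.K
  prog : ∃ pr, go T pr P 1 = true

theorem Tb.Good.len {P : List (List ℤ)} (G : T.Good P) : T.XC.length = T.K :=
  G.ok.elim fun _ h => (Tb.sp_of h G.base G.mass G.nrm G.eig).2

theorem Tb.Good.tab {P : List (List ℤ)} (G : T.Good P) (C : Cl T e tl) (hP : ∀ ζ, ∀ l ∈ P, VC T ζ e (nth 0 l)) :
    ∃ ζ χ, T.f.Ok ζ ∧ Tab T ζ e χ := by
  obtain ⟨ζ, h1⟩ := G.ok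
  obtain ⟨pr, h2⟩ := G.prog
  obtain ⟨S, hK⟩ := Tb.sp_of h1 G.base G.mass G.nrm G.eig
  obtain ⟨χ, h3⟩ := exists_tab C S (go_spec C S hK pr (hP ζ) (fun φ hφ => by
    obtain rfl : φ = 0 := by
      rw [← pow_zero 2, Nat.testBit_two_pow, decide_eq_true_eq] at hφ
      exact hφ.symm
    exact ⟨S.pos, uc_zero S⟩) (go_of G.base h2))
  exact ⟨ζ, χ, h1, h3⟩

end Cfsg.Agent.MO.WC
end

-- part: MO/WC/Eng
section
/-!
# MO/WC: subgroups of `W_J` given by letters (helper27)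

* `Gp` : the data; `Gp.H` : the subgroup generated by the letters; `Gp.e` : the representatives of the classes;
* `Gp.tab` : the character table of `H`;
* `Cen cs ψ J x` : the twisted centraliser; `Gp.cen_eq` : `H` is the centraliser.
-/

set_option autoImplicit false
set_option linter.unusedSectionVars false

namespace Cfsg.Agent.MO.WC

open Cfsg CoxeterSystem Cfsg.Agent.Tits.Exchange Cfsg.Agent.Tits.Core Cfsg.Agent.ChevalleyStructure.CoxeterGeom
  Cfsg.Agent.LV.T Cfsg.Agent.LV.W Cfsg.Agent.Characters.Core Cfsg.Agent.MO.WT Finset Q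

/-- letters, the representatives of the classes (two words, code), the invariant sets (two words) -/
structure Gp where
  Ls : List ℕ
  rw : List ℕ
  rh : List ℕ
  cod : List ℕ
  tw : List (List ℕ)
  th : List (List ℕ)

def runG (tab : ℕ) (Ls : List ℕ) (f : ℕ) : ℕ → ℕ → ℕ :=
  Nat.rec (fun _ N => N)
    (fun _ ih n N => cond (Nat.ble n 1) N (ih (Nat.shiftRight n 4) (run tab (nth 1 Ls (Nat.mod n 16)) N))) f

/-- a linear combination with the digits as coefficients -/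
def ac (K : ℕ) (C : List ℕ) : ℕ → ℕ :=
  List.rec (fun _ => K) (fun c _ ih N => Nat.add (Nat.mul (Nat.mod N 256) c) (ih (Nat.shiftRight N 8))) C

/-- a matrix acts on the codes -/
def act (m : List ℕ) (N : ℕ) : ℕ :=
  List.casesOn m N fun K C => Nat.mod (ac K C N) 340282366920938463463374607431768211456

/-- the matrix of a word -/
def mat (r tab n : ℕ) : List ℕ :=
  (fun C : List ℕ => Nat.add (st' r r) (Nat.mul 340282366920938463463374607431768211392 C.sum) :: C)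
    ((List.range r).map fun j => Nat.sub (Nat.add (run tab n (st' r j)) 340282366920938463463374607431768211456) (st' r r))

def runM (LM : List (List ℕ)) (f : ℕ) : ℕ → ℕ → ℕ :=
  Nat.rec (fun _ N => N)
    (fun _ ih n N => cond (Nat.ble n 1) N (ih (Nat.shiftRight n 4) (act (fN (Nat.mod n 16) (nth [] LM)) N))) f

theorem ac_eq (K : ℕ) (C : List ℕ) (N : ℕ) : ac K C N = ∑ j ∈ range C.length, dg N j * nth 0 C j + K := by
  induction C generalizing N with
  | nil => exact (Nat.zero_add K).symm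
  | cons c C ih =>
    show N % 256 * c + ac K C (N >>> 8) = _
    rw [ih, List.length_cons, sum_range_succ', add_left_comm, add_assoc]
    refine congrArg₂ _ (sum_congr rfl fun j _ => congrArg₂ _ ?_ rfl) rfl
    show N >>> 8 >>> (8 * j) % 256 = N >>> (8 * (j + 1)) % 256
    rw [← Nat.shiftRight_add, mul_add, mul_one, add_comm]

namespace Gp

variable (D : Gp) (t : Ty) (T : Tb)

/-- a word in the letters -/
def runH (n N : ℕ) : ℕ := runG t.tab D.Ls 256 n N

def setOK (w h : List ℕ) : Bool :=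
  all2 (fun a b => Nat.beq (run t.tab a t.n0) (D.runH t b t.n0)) w h &&
  (fun tc => ndp tc && D.Ls.all fun a => (fun L => tc.all fun N => mem (run t.tab a N) L)
    (w.map fun x => run t.tab x (run t.tab a t.n0))) (w.map fun x => run t.tab x t.n0)

def baseOK (out : List ℤ) : Bool :=
  Nat.beq (nth 1 D.rh 0) 1 && injOK t &&
  allLt T.K (fun k => (fun c => Nat.beq c (run t.tab (nth 1 D.rw k) t.n0) && Nat.beq c (D.runH t (nth 1 D.rh k) t.n0) &&
    (Nat.beq k 0 || !Nat.beq c t.n0)) (nth 0 D.cod k)) &&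
  allLt T.rows.length (fun o => D.setOK t (nth [] D.tw o) (nth [] D.th o)) &&
  D.Ls.all (fun a => !allLt T.rows.length fun o =>
    !mem (run t.tab a t.n0) ((nth [] D.tw o).map fun x => run t.tab x t.n0)) &&
  T.valOK (D.rw.map fun a => z (trN t.r (run t.tab a))) out

/-- `a * g = g * e_k`, `c = 256 g + k`; `fa` is the left multiplication by `a` on codes -/
def cj (fa : ℕ → ℕ) (c : ℕ) : Bool :=
  Nat.blt (Nat.mod c 256) T.K &&
    Nat.beq (fa (D.runH t (Nat.shiftRight c 8) t.n0)) (D.runH t (Nat.shiftRight c 8) (nth 0 D.cod (Nat.mod c 256)))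

/-- the same with matrices -/
def cjM (fa : ℕ → ℕ) (c : ℕ) : Bool :=
  Nat.blt (Nat.mod c 256) T.K && Nat.beq (fa (runM (D.Ls.map (mat t.r t.tab)) 256 (Nat.shiftRight c 8) t.n0))
    (runM (D.Ls.map (mat t.r t.tab)) 256 (Nat.shiftRight c 8) (fN (Nat.mod c 256) (nth 0 D.cod)))

def row1 (o k : ℕ) : Bool :=
  (fun ek => all2 (fun x c => D.cjM t T (fun N => act (mat t.r t.tab x) (act ek N)) c) (nth [] D.tw o) (T.row o k))
    (mat t.r t.tab (nth 1 D.rw k))

def rowOK (o m n : ℕ) : Bool := allLt n fun i => D.row1 t T o (m + i)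

/-- the rows below `m` are checked -/
def Rw (o m : ℕ) : Prop := ∀ k < m, D.row1 t T o k = true

variable {D t T}

theorem Rw.zero {o : ℕ} : D.Rw t T o 0 := fun k hk => absurd hk (Nat.not_lt_zero k)

theorem Rw.step {o m : ℕ} (h : D.Rw t T o m) (n : ℕ) (h' : D.rowOK t T o m n = true) : D.Rw t T o (m + n) :=
  fun k hk => by
    by_cases h1 : k < m
    · exact h k h1
    · have h2 := allLt_iff.1 h' (k - m) (by omega)
      rwa [show m + (k - m) = k by omega] at h2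

variable (D t T) in
/-- all checks -/
structure Good : Prop where
  ok : t.ok = true
  tb : ∃ out, T.Good [out] ∧ D.baseOK t T out = true
  rows : ∀ o < T.rows.length, D.Rw t T o T.K

variable (D t T) in
/-- all checks at once -/
def full (out : List ℤ) (pr : List Is) : Bool :=
  T.baseOK && T.massOK && T.nrmOK && go T pr [out] 1 && D.baseOK t T out &&
    allLt T.rows.length fun o => T.eigOK o 0 T.K && D.rowOK t T o 0 T.K

theorem good_of_full (ht : t.ok = true) (hf : ∃ ζ, T.f.Ok ζ) (out : List ℤ) (pr : List Is)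
    (h : D.full t T out pr = true) : D.Good t T := by
  simp only [full, Bool.and_eq_true, allLt_iff] at h
  obtain ⟨⟨⟨⟨⟨h1, h2⟩, h3⟩, h4⟩, h5⟩, h6⟩ := h
  exact ⟨ht, ⟨out, ⟨hf, h1, h2, h3, fun o ho => Nat.zero_add T.K ▸ Tb.Eg.zero.step _ (h6 o ho).1, pr, h4⟩, h5⟩,
    fun o ho => Nat.zero_add T.K ▸ Rw.zero.step _ (h6 o ho).2⟩

theorem good_of_one (ht : t.ok = true) (hf : ∃ ζ, T.f.Ok ζ) {out : List ℤ} {pr : List Is} (h0 : T.rows.length = 1)
    (h1 : (T.baseOK && T.massOK && T.nrmOK) = true) (h2 : go T pr [out] 1 = true) (h3 : D.baseOK t T out = true)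
    (h4 : T.Eg 0 T.K) (h5 : D.Rw t T 0 T.K) : D.Good t T := by
  simp only [Bool.and_eq_true] at h1
  exact ⟨ht, ⟨out, ⟨hf, h1.1.1, h1.1.2, h1.2, fun o ho => by rwa [show o = 0 by omega], pr, h2⟩, h3⟩,
    fun o ho => by rwa [show o = 0 by omega]⟩

variable {I W : Type} [Fintype I] [DecidableEq I] [Group W] [Fintype W] {M : CoxeterMatrix I}
  (cs : CoxeterSystem M W) {A : I → I → ℤ} {h : IsCartan M A} {ψ : MulAut W} (em : ℕ → I) {J : Set I} {w : W}

variable (D t)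

/-- the subgroup -/
def H : Subgroup W := Subgroup.closure {x | ∃ a ∈ D.Ls, wd cs em t.r a = x}

def hwF (f : ℕ) : ℕ → W :=
  Nat.rec (fun _ => 1) (fun _ ih n => if n ≤ 1 then 1 else ih (n / 16) * wd cs em t.r (nth 1 D.Ls (n % 16))) f

theorem hwF_mem (f n : ℕ) : D.hwF t cs em f n ∈ D.H t cs em := by
  induction f generalizing n with
  | zero => exact one_mem _
  | succ f ih =>
    show (if n ≤ 1 then 1 else D.hwF t cs em f (n / 16) * wd cs em t.r (nth 1 D.Ls (n % 16))) ∈ _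
    split_ifs
    · exact one_mem _
    · refine mul_mem (ih _) ?_
      rcases nth_or 1 D.Ls (n % 16) with h1 | h1
      · exact Subgroup.subset_closure ⟨_, h1, rfl⟩
      · rw [h1]; exact one_mem _

/-- the element given by a word in the letters -/
def hw (n : ℕ) : D.H t cs em := ⟨D.hwF t cs em 256 n, D.hwF_mem t cs em _ _⟩

/-- the representative of a class -/
def e (k : ℕ) : D.H t cs em := D.hw t cs em (nth 1 D.rh k)

variable {D t cs em}

theorem le (F : Fit cs h ψ t em J w) : D.H t cs em ≤ WJ cs J := (Subgroup.closure_le _).2 (by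
  rintro _ ⟨a, -, rfl⟩
  exact F.wd_mem a)

theorem runH_cd (F : Fit cs h ψ t em J w) (ht : t.ok = true) (n : ℕ) {u : W} (hu : u ∈ WJ cs J) :
    D.runH t n (cd cs h t em u) = cd cs h t em (D.hw t cs em n * u) := by
  show runG t.tab D.Ls 256 n _ = cd cs h t em (D.hwF t cs em 256 n * u)
  generalize 256 = f
  induction f generalizing n u with
  | zero => exact congrArg (cd cs h t em) (one_mul u).symm
  | succ f ih =>
    show cond (Nat.ble n 1) _ (runG t.tab D.Ls f (n >>> 4) (run t.tab (nth 1 D.Ls (n % 16)) _)) =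
      cd cs h t em ((if n ≤ 1 then 1 else D.hwF t cs em f (n / 16) * wd cs em t.r (nth 1 D.Ls (n % 16))) * u)
    by_cases h1 : n ≤ 1
    · rw [Nat.ble_eq_true_of_le h1, if_pos h1, one_mul]; rfl
    · have h2 : Nat.ble n 1 = false := Bool.eq_false_iff.2 fun h3 => h1 (Nat.le_of_ble_eq_true h3)
      rw [h2, if_neg h1, F.run_cd ht _ hu, Nat.shiftRight_eq_div_pow, mul_assoc]
      exact ih _ (mul_mem (F.wd_mem _) hu)

theorem runH_one (F : Fit cs h ψ t em J w) (ht : t.ok = true) (n : ℕ) :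
    D.runH t n t.n0 = cd cs h t em (D.hw t cs em n) := by
  rw [← cd_one (cs := cs) (h := h) (em := em) ht, runH_cd F ht n (one_mem _), mul_one]

theorem Good.rep (G : D.Good t T) (F : Fit cs h ψ t em J w) {k : ℕ} (hk : k < T.K) :
    (D.e t cs em k : W) = wd cs em t.r (nth 1 D.rw k) ∧ nth 0 D.cod k = cd cs h t em (D.e t cs em k) ∧
      (D.e t cs em k = 1 → k = 0) := by
  obtain ⟨out, -, h1⟩ := G.tb
  simp only [baseOK, Bool.and_eq_true, allLt_iff, Nat.beq_eq, Bool.or_eq_true, Bool.not_eq_true',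
    ← Bool.not_eq_true] at h1
  obtain ⟨⟨h2, h3⟩, h4⟩ := h1.1.1.1.2 k hk
  rw [runH_one F G.ok] at h3
  rw [F.run_one G.ok, h3] at h2
  exact ⟨F.cd_inj G.ok (le F (D.e t cs em k).2) (F.wd_mem _) h2, h3, fun h5 => h4.resolve_right fun h6 => h6 (by
    rw [h3, show D.hw t cs em _ = 1 from h5]; exact cd_one G.ok)⟩

theorem Good.cj (G : D.Good t T) (F : Fit cs h ψ t em J w) {a : D.H t cs em} {fa : ℕ → ℕ}
    (hf : ∀ u ∈ WJ cs J, fa (cd cs h t em u) = cd cs h t em (a * u)) {c : ℕ} (hc : D.cj t T fa c = true) :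
    c % 256 < T.K ∧ IsConj a (D.e t cs em (c % 256)) := by
  rw [Gp.cj, Bool.and_eq_true, Nat.blt_eq, Nat.beq_eq] at hc
  have h1 : fa (D.runH t (c >>> 8) t.n0) = D.runH t (c >>> 8) (nth 0 D.cod (c % 256)) := hc.2
  rw [(G.rep F (k := c % 256) hc.1).2.1, runH_one F G.ok, hf _ (le F (Subtype.prop _)), runH_cd F G.ok _ (le F (Subtype.prop _))] at h1
  have h2 := F.cd_inj G.ok (le F (a * D.hw t cs em (c >>> 8)).2)
    (le F (D.hw t cs em (c >>> 8) * D.e t cs em (c % 256)).2) h1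
  exact ⟨hc.1, (isConj_iff.2 ⟨_, mul_inv_eq_iff_eq_mul.2 (Subtype.ext h2).symm⟩).symm⟩

theorem vv_lin (F : Fit cs h ψ t em J w) (hi : injOK t = true) (u : W) {x : W} (hx : x ∈ WJ cs J) :
    ∀ i < t.r, vv cs h em (x * u) i = ∑ j ∈ range t.r, vv cs h em u j * vc cs h em j x i := by
  refine WJ_ind (P := fun x => ∀ i < t.r, vv cs h em (x * u) i = ∑ j ∈ range t.r, vv cs h em u j * vc cs h em j x i)
    (fun i h1 => ?_) (fun s hs x _ ih i h1 => ?_) hx
  · rw [one_mul, sum_eq_single i (fun j hj e => ?_) fun e => absurd (mem_range.2 h1) e, vc, inv_one, map_one,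
      Module.End.one_apply, Tits.Roots.sr_self, mul_one]
    rw [vc, inv_one, map_one, Module.End.one_apply, Tits.Roots.sr_ne fun e' => e (em_inj F hi (mem_range.1 hj) h1 e'), mul_zero]
  · obtain ⟨a, ha, rfl⟩ := (F.mem s).1 hs
    rw [mul_assoc, F.vv_step _ ha h1, ih i h1, ih a ha, mul_sum, ← sum_sub_distrib]
    exact sum_congr rfl fun j _ => by rw [vc_step F j x ha h1]; ring

theorem act_cd (F : Fit cs h ψ t em J w) (ht : t.ok = true) (hi : injOK t = true) (n : ℕ) {u : W} (hu : u ∈ WJ cs J) :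
    act (mat t.r t.tab n) (cd cs h t em u) = cd cs h t em (wd cs em t.r n * u) := by
  have hr := (Ty.ok_iff ht).1
  have hx := F.wd_mem n
  have b0 : ∀ a < t.r, |(if a = t.r then 1 else 0 : ℤ)| < 64 := fun a _ => by split_ifs <;> norm_num
  have h0 : (st' t.r t.r : ℤ) = ∑ i ∈ range t.r, 64 * 256 ^ i := by
    rw [st_eq]
    refine (pk_cast b0).trans ?_
    exact sum_congr rfl fun a ha => by rw [if_neg (mem_range.1 ha).ne, zero_add]
  have h1 : st' t.r t.r < 340282366920938463463374607431768211456 := by rw [st_eq]; exact pk_lt hr b0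
  have hb := F.bound (Ty.ok_iff ht).2.2.2.1 (mul_mem hx hu)
  generalize hf : (fun j => Nat.sub (Nat.add (run t.tab n (st' t.r j)) 340282366920938463463374607431768211456)
    (st' t.r t.r)) = f
  obtain ⟨g, hg⟩ : ∃ g : ℕ → ℕ → ℤ, ∀ j, vc cs h em j (wd cs em t.r n) = g j := ⟨_, fun _ => rfl⟩
  have h2 : ∀ j ∈ range t.r, (f j : ℤ) = ∑ i ∈ range t.r, g j i * 256 ^ i +
      340282366920938463463374607431768211456 := fun j hj => by
    rw [← hf]
    show ((run t.tab n (st' t.r j) + 340282366920938463463374607431768211456 - st' t.r t.r : ℕ) : ℤ) = _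
    rw [Nat.cast_sub (h1.le.trans (Nat.le_add_left _ _)), Nat.cast_add, h0, ← cw_one F hi (mem_range.1 hj),
      run_cw F ht j n (one_mem _), mul_one, cw, pk_cast (vc_lt F ht j hx), hg]
    simp only [add_mul, sum_add_distrib, Nat.cast_ofNat]
    ring
  have h3 : act (mat t.r t.tab n) (cd cs h t em u) = ac (st' t.r t.r + 340282366920938463463374607431768211392 *
      ∑ j ∈ range t.r, f j) ((List.range t.r).map f) (cd cs h t em u) % 340282366920938463463374607431768211456 := by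
    rw [← hf]; rfl
  refine Int.ofNat_inj.1 ?_
  rw [h3, ac_eq, List.length_map, List.length_range, sum_congr rfl fun j hj => by
    rw [nth_map 0 0 f (by rw [List.length_range]; exact mem_range.1 hj), nth_eq, List.getD_eq_getElem _ _
      (by rw [List.length_range]; exact mem_range.1 hj), List.getElem_range], ← Int.emod_eq_of_lt (Int.natCast_nonneg _)
        (Int.ofNat_lt.2 (pk_lt hr hb) : (cd cs h t em (wd cs em t.r n * u) : ℤ) < 340282366920938463463374607431768211456),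
    ← Int.add_mul_emod_self_left _ _ (∑ j ∈ range t.r, ((f j : ℤ) + vv cs h em u j)), Int.natCast_emod]
  refine congrArg (· % _) ?_
  have h4 : ∑ j ∈ range t.r, ((dg (cd cs h t em u) j : ℕ) : ℤ) * f j = ∑ i ∈ range t.r, vv cs h em (wd cs em t.r n * u) i * 256 ^ i +
      340282366920938463463374607431768211456 * ∑ j ∈ range t.r, vv cs h em u j + 64 * ∑ j ∈ range t.r, (f j : ℤ) := by
    rw [sum_congr rfl fun i hi' => congrArg (· * 256 ^ i) ((vv_lin F hi u hx i (mem_range.1 hi')).trans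
      (sum_congr rfl fun j _ => congrArg (vv cs h em u j * ·) (congrFun (hg j) i)))]
    simp only [sum_mul, mul_sum, mul_assoc]
    rw [sum_comm, ← sum_add_distrib, ← sum_add_distrib]
    refine sum_congr rfl fun j hj => ?_
    rw [F.cd_dig ht hu (mem_range.1 hj), ← mul_sum, add_mul, h2 j hj]
    ring
  rw [show (cd cs h t em (wd cs em t.r n * u) : ℤ) = _ from pk_cast hb]
  simp only [Nat.cast_add, Nat.cast_mul, Nat.cast_sum, Nat.cast_ofNat, h0, h4, add_mul, sum_add_distrib, ← mul_sum]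
  ring

theorem runM_cd (F : Fit cs h ψ t em J w) (ht : t.ok = true) (hi : injOK t = true) (n : ℕ) {u : W} (hu : u ∈ WJ cs J) :
    runM (D.Ls.map (mat t.r t.tab)) 256 n (cd cs h t em u) = D.runH t n (cd cs h t em u) := by
  show _ = runG t.tab D.Ls 256 n _
  generalize 256 = f
  induction f generalizing n u with
  | zero => rfl
  | succ f ih =>
    show cond _ _ (runM _ f (n >>> 4) (act (fN (n % 16) (nth [] (D.Ls.map (mat t.r t.tab)))) _)) =
      cond _ _ (runG t.tab D.Ls f (n >>> 4) (run t.tab (nth 1 D.Ls (n % 16)) _))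
    rw [F.run_cd ht _ hu, ← ih _ (mul_mem (F.wd_mem _) hu), fN_eq]
    by_cases h1 : n % 16 < D.Ls.length
    · rw [nth_map 1 _ _ h1, act_cd F ht hi _ hu]
    · rw [nth_eq, nth_eq, List.getD_eq_default _ _ (by rw [List.length_map]; exact not_lt.1 h1),
        List.getD_eq_default _ _ (not_lt.1 h1), ← F.run_cd ht _ hu]
      rfl

theorem Good.cjM (G : D.Good t T) (F : Fit cs h ψ t em J w) (hi : injOK t = true) {fa : ℕ → ℕ} {c : ℕ}
    (hc : D.cjM t T fa c = true) : D.cj t T fa c = true := by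
  rw [Gp.cjM, Bool.and_eq_true, fN_eq] at hc
  have h1 := (G.rep F (k := Nat.mod c 256) (Nat.blt_eq.mp hc.1)).2.1
  rw [Gp.cj, hc.1, Bool.true_and, h1, ← cd_one (cs := cs) (h := h) (em := em) G.ok, ← runM_cd F G.ok hi _ (one_mem _),
    ← runM_cd F G.ok hi _ (le F (Subtype.prop _)), ← h1, cd_one G.ok]
  exact hc.2

theorem set_spec (F : Fit cs h ψ t em J w) (ht : t.ok = true) {x y : List ℕ} (hs : D.setOK t x y = true) :
    x.map (wd cs em t.r) = (y.map (D.hw t cs em)).map Subtype.val ∧ (y.map (D.hw t cs em)).Nodup ∧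
      ∀ g, ∀ u ∈ y.map (D.hw t cs em), g * u * g⁻¹ ∈ y.map (D.hw t cs em) := by
  simp only [setOK, Bool.and_eq_true, all2_iff, Nat.beq_eq, List.all_eq_true, mem_iff] at hs
  obtain ⟨h1, h2, h3⟩ := hs
  have h4 : x.map (wd cs em t.r) = (y.map (D.hw t cs em)).map Subtype.val := by
    rw [List.map_map, ← List.forall₂_eq_eq_eq, List.forall₂_map_left_iff, List.forall₂_map_right_iff]
    refine h1.imp fun a b e => ?_
    rw [F.run_one ht, runH_one F ht] at e
    exact F.cd_inj ht (F.wd_mem _) (le F (Subtype.prop _)) e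
  have h5 : ∀ u : D.H t cs em, u ∈ y.map (D.hw t cs em) ↔ ∃ a ∈ x, wd cs em t.r a = u := fun u => by
    rw [← List.mem_map, h4, List.mem_map_of_injective Subtype.val_injective]
  refine ⟨h4, ?_, fun g => ?_⟩
  · have h6 : (x.map fun a => run t.tab a t.n0) = (y.map (D.hw t cs em)).map fun u : D.H t cs em => cd cs h t em u := by
      rw [show (fun u : D.H t cs em => cd cs h t em u) = cd cs h t em ∘ Subtype.val from rfl, ← List.map_map, ← h4,
        List.map_map]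
      exact List.map_congr_left fun a _ => F.run_one ht a
    exact (h6 ▸ ndp_spec h2).of_map _
  · obtain ⟨g, hg⟩ := g
    have h6 : g ∈ (Subgroup.closure {x | ∃ a ∈ D.Ls, wd cs em t.r a = x}).toSubmonoid := hg
    rw [Subgroup.closure_toSubmonoid_of_finite] at h6
    simp only [h5, Subgroup.coe_mul, Subgroup.coe_inv]
    suffices h7 : ∀ a ∈ x, ∃ b ∈ x, wd cs em t.r b = g * wd cs em t.r a * g⁻¹ by
      rintro u ⟨a, ha, e⟩
      exact e ▸ h7 a ha
    clear hg
    induction h6 using Submonoid.closure_induction_left with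
    | one => exact fun a ha => ⟨a, ha, by simp⟩
    | mul_left s hs g _ ih =>
      obtain ⟨l, hl, rfl⟩ := hs
      intro a ha
      obtain ⟨b, hb, e⟩ := ih a ha
      obtain ⟨c, hc, e'⟩ := List.mem_map.1 (h3 l hl _ (List.mem_map_of_mem hb))
      rw [F.run_one ht, F.run_one ht, F.run_cd ht _ (F.wd_mem _), F.run_cd ht _ (F.wd_mem _)] at e'
      refine ⟨c, hc, ?_⟩
      rw [← mul_inv_eq_iff_eq_mul.2 (F.cd_inj ht (mul_mem (F.wd_mem _) (F.wd_mem _))
        (mul_mem (F.wd_mem _) (F.wd_mem _)) e').symm, e]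
      group

/-- **the character table of `H`** -/
theorem Good.tab (G : D.Good t T) (F : Fit cs h ψ t em J w) : ∃ ζ χ, T.f.Ok ζ ∧ Tab T ζ (D.e t cs em) χ := by
  classical
  obtain ⟨out, G1, h1⟩ := G.tb
  simp only [baseOK, Bool.and_eq_true, allLt_iff, Nat.beq_eq, List.all_eq_true, Bool.not_eq_true',
    ← Bool.not_eq_true, mem_iff] at h1
  obtain ⟨⟨⟨⟨⟨h1, h2⟩, -⟩, h3⟩, h4⟩, h5⟩ := h1
  have h6 := fun o ho => set_spec F G.ok (h3 o ho)
  refine G1.tab (tl := fun o => (nth [] D.th o).map (D.hw t cs em)) ⟨?_, fun k hk => (G.rep F hk).2.2,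
    fun o ho => (h6 o ho).2.1, fun o ho => (h6 o ho).2.2, fun o ho k hk => ?_, fun S hS => ?_⟩ fun ζ l hl => ?_
  · rw [e, h1]; rfl
  · have h7 := all2_iff.1 (G.rows o ho k hk)
    have h8 := (h6 o ho).1
    generalize nth [] D.tw o = x, (nth [] D.th o).map (D.hw t cs em) = y, T.row o k = r at h7 h8
    induction h7 generalizing y with
    | nil => rw [List.map_eq_nil_iff.1 h8.symm]; exact List.Forall₂.nil
    | cons hab _ ih =>
      cases y with
      | nil => simp at h8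
      | cons u y =>
        rw [List.map_cons, List.map_cons, List.cons.injEq] at h8
        refine List.Forall₂.cons (G.cj F (fun v hv => ?_) (G.cjM F h2 hab)).2 (ih y h8.2)
        rw [act_cd F G.ok h2 _ hv, act_cd F G.ok h2 _ (mul_mem (F.wd_mem _) hv), h8.1, ← (G.rep F hk).1, Subgroup.coe_mul,
          mul_assoc]
  · have h7 : D.H t cs em ≤ S.map (D.H t cs em).subtype := (Subgroup.closure_le _).2 (by
      rintro _ ⟨a, ha, rfl⟩
      have h8 := h4 a ha
      push Not at h8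
      obtain ⟨o, ho, h8⟩ := h8
      obtain ⟨b, hb, e⟩ := List.mem_map.1 h8
      rw [F.run_one G.ok, F.run_one G.ok] at e
      have h9 := List.mem_map_of_mem (f := wd cs em t.r) hb
      rw [(h6 o ho).1, F.cd_inj G.ok (F.wd_mem _) (F.wd_mem _) e] at h9
      obtain ⟨u, hu, e'⟩ := List.mem_map.1 h9
      exact ⟨u, hS o ho u hu, e'⟩)
    intro g
    obtain ⟨u, hu, e'⟩ := h7 g.2
    exact Subtype.ext e' ▸ hu
  · obtain ⟨π, ⟨a, b, ha, hb, rfl⟩, h7⟩ := refl_char F G.ok h2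
    rw [List.mem_singleton.1 hl]
    refine ⟨fun u => (a - b) (Subgroup.inclusion (le F) u), ⟨_, _, isCharacter_comp _ ha, isCharacter_comp _ hb, rfl⟩,
      fun k hk => ?_⟩
    have h8 : k < D.rw.length := by
      rw [Tb.valOK, Bool.and_eq_true, all2_iff] at h5
      rw [← List.length_map, h5.2.length_eq, G1.len]; exact hk
    rw [← Tb.valOK_spec ζ G1.len h5 hk, nth_map 1 _ _ h8, ev_z]
    refine h7 _ (run t.tab (nth 1 D.rw k)) fun j u hu => ?_
    rw [run_cw F G.ok j _ hu, ← (G.rep F hk).1]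
    rfl

end Gp

end Cfsg.Agent.MO.WC
end

-- part: MO/WC/Cen
section
/-!
# MO/WC: the degrees of the characters of twisted centralisers (helper27)

* `Cen cs ψ J x` : the twisted centraliser;  `Dg H ds` : `ds` is the list of the degrees of the irreducible characters;
* `CenK nd k ds` : the centralisers of the class `k`;  `CenA nd nd' k ds` : the characters fixed by a graph automorphism;
* `cenK_of`, `cenK_cyc`, `cenK_top`, `cenA_of` : the checks.
-/

set_option autoImplicit false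
set_option linter.unusedSectionVars false

namespace Cfsg.Agent.MO.WC

open Cfsg CoxeterSystem Cfsg.Agent.Tits.Exchange Cfsg.Agent.Tits.Core Cfsg.Agent.ChevalleyStructure.CoxeterGeom
  Cfsg.Agent.LV.T Cfsg.Agent.LV.W Cfsg.Agent.Characters.Core Cfsg.Agent.MO.WT Finset Q

/-- the degrees of the irreducible characters with the property `p` -/
def DgP (H : Type) [Group H] (p : (H → ℂ) → Prop) (ds : List ℕ) : Prop :=
  ∀ n : ℕ, Nat.card {η : H → ℂ // IsIrrCharacter H η ∧ η 1 = n ∧ p η} = ds.count n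

/-- the degrees of the irreducible characters -/
def Dg (H : Type) [Group H] (ds : List ℕ) : Prop :=
  ∀ n : ℕ, Nat.card {η : H → ℂ // IsIrrCharacter H η ∧ η 1 = n} = ds.count n

section

variable {H H' : Type} [Group H] [Group H'] {ds : List ℕ}

theorem dg_iff : Dg H ds ↔ DgP H (fun _ => True) ds := by simp only [Dg, DgP, and_true]

theorem DgP.map {p : (H → ℂ) → Prop} {p' : (H' → ℂ) → Prop} (h : DgP H p ds) (ε : H ≃* H')
    (hp : ∀ η, IsIrrCharacter H' η → (p' η ↔ p fun x => η (ε x))) : DgP H' p' ds := fun n => by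
  rw [← h n]
  refine Nat.card_congr ((ε.toEquiv.arrowCongr (Equiv.refl ℂ)).symm.subtypeEquiv fun η => ?_)
  show _ ↔ IsIrrCharacter H (fun x => η (ε x)) ∧ η (ε 1) = n ∧ p fun x => η (ε x)
  rw [map_one]
  refine ⟨fun h1 => ⟨isIrr_comp ε.toMonoidHom ε.surjective h1.1, h1.2.1, (hp η h1.1).1 h1.2.2⟩, fun h1 => ?_⟩
  have h2 : IsIrrCharacter H' η := by
    convert isIrr_comp ε.symm.toMonoidHom ε.symm.surjective h1.1 using 1
    funext x; simp
  exact ⟨h2, h1.2.1, (hp η h2).2 h1.2.2⟩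

theorem Dg.map (h : Dg H ds) (ε : H ≃* H') : Dg H' ds := dg_iff.2 ((dg_iff.1 h).map ε fun _ _ => Iff.rfl)

/-- the list of the degrees with the property `q` -/
def dgl (K : ℕ) (d : ℕ → ℤ) (q : ℕ → Bool) : List ℕ := ((List.range K).filter q).map fun φ => (d φ).toNat

theorem dgP_of {K : ℕ} {χ : ℕ → H → ℂ} {d : ℕ → ℤ} (irr : ∀ φ < K, IsIrrCharacter H (χ φ))
    (deg : ∀ φ < K, χ φ 1 = d φ) (inj : ∀ φ < K, ∀ φ' < K, χ φ = χ φ' → φ = φ')
    (sur : ∀ f, IsIrrCharacter H f → ∃ φ < K, χ φ = f) {p : (H → ℂ) → Prop} {q : ℕ → Bool}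
    (hq : ∀ φ < K, p (χ φ) ↔ q φ = true) : DgP H p (dgl K d q) := fun n => by
  have h1 : ∀ φ < K, χ φ 1 = n ↔ (d φ).toNat = n := fun φ hφ => by
    obtain ⟨m, -, h2⟩ := isIrr_apply_one (irr φ hφ)
    have h3 : d φ = m := by exact_mod_cast (deg φ hφ).symm.trans h2
    rw [h2, h3, Int.toNat_natCast, Nat.cast_inj]
  rw [dgl, List.count_eq_countP, List.countP_map, List.countP_filter, List.countP_eq_length_filter,
    ← List.toFinset_card_of_nodup (List.nodup_range.filter _), ← Fintype.card_coe, ← Nat.card_eq_fintype_card]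
  generalize hs : List.toFinset (α := ℕ) _ = s
  have h2 : ∀ φ, φ ∈ s ↔ φ < K ∧ (d φ).toNat = n ∧ q φ = true := fun φ => by simp [← hs]
  refine (Nat.card_eq_of_bijective (fun φ => ⟨χ φ.1, irr _ ((h2 _).1 φ.2).1, (h1 _ ((h2 _).1 φ.2).1).2 ((h2 _).1 φ.2).2.1,
    (hq _ ((h2 _).1 φ.2).1).2 ((h2 _).1 φ.2).2.2⟩) ⟨fun φ φ' e => Subtype.ext
      (inj _ ((h2 _).1 φ.2).1 _ ((h2 _).1 φ'.2).1 (congrArg Subtype.val e)), fun η => ?_⟩).symm
  obtain ⟨φ, hφ, e⟩ := sur _ η.2.1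
  exact ⟨⟨φ, (h2 φ).2 ⟨hφ, (h1 φ hφ).1 (e ▸ η.2.2.1), (hq φ hφ).1 (e ▸ η.2.2.2)⟩⟩, Subtype.ext e⟩

theorem dg_comm [Finite H] (h : ∀ a b : H, a * b = b * a) : Dg H (List.replicate (Nat.card H) 1) := fun n => by
  rw [List.count_replicate]
  split_ifs with h1
  · rw [← beq_iff_eq.1 h1, Nat.card_congr (Equiv.subtypeEquivRight fun η => and_iff_left_of_imp fun h2 => by
      rw [Characters.CCBasic.irr_apply_one_of_comm h h2, Nat.cast_one]), card_irr]
    refine (Nat.card_eq_of_bijective ConjClasses.mk ⟨fun a b e => ?_, ConjClasses.mk_surjective⟩).symm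
    obtain ⟨c, rfl⟩ := isConj_iff.1 (ConjClasses.mk_eq_mk_iff_isConj.1 e)
    rw [h c, mul_inv_cancel_right]
  · refine Nat.card_eq_zero.2 (Or.inl ⟨fun η => h1 (beq_iff_eq.2 ?_)⟩)
    exact_mod_cast (Characters.CCBasic.irr_apply_one_of_comm h η.2.1).symm.trans η.2.2

end

variable {I W : Type} [Fintype I] [DecidableEq I] [Group W] [Fintype W] {M : CoxeterMatrix I}
  (cs : CoxeterSystem M W) {A : I → I → ℤ} {h : IsCartan M A} (ψ : MulAut W) {em : ℕ → I} (J : Set I) {w : W}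

/-- the twisted centraliser -/
def Cen (x : W) : Subgroup W where
  carrier := {v | v ∈ WJ cs J ∧ v * x = x * ψ v}
  one_mem' := ⟨one_mem _, by simp⟩
  mul_mem' := fun {a b} ha hb => ⟨mul_mem ha.1 hb.1, by rw [map_mul, mul_assoc, hb.2, ← mul_assoc, ha.2, mul_assoc]⟩
  inv_mem' := fun {a} ha => ⟨inv_mem ha.1, by rw [map_inv, inv_mul_eq_iff_eq_mul, ← mul_assoc, ha.2, mul_inv_cancel_right]⟩

variable {cs ψ J}

theorem mem_Cen {x v : W} : v ∈ Cen cs ψ J x ↔ v ∈ WJ cs J ∧ v * x = x * ψ v := Iff.rfl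

theorem cen_conj {g x x' : W} (hg : g ∈ WJ cs J) (e : x * ψ g = g * x') (v : W) :
    v ∈ Cen cs ψ J x' ↔ g * v * g⁻¹ ∈ Cen cs ψ J x := by
  rw [mem_Cen, mem_Cen, Subgroup.mul_mem_cancel_right _ (inv_mem hg), Subgroup.mul_mem_cancel_left _ hg, map_mul, map_mul,
    map_inv, ← mul_assoc, ← mul_assoc, e, eq_mul_inv_iff_mul_eq, mul_assoc _ x, e, mul_assoc, mul_assoc, mul_assoc,
    inv_mul_cancel_left, mul_right_inj]

/-- conjugate elements have isomorphic centralisers -/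
def cenEq {g x x' : W} (hg : g ∈ WJ cs J) (e : x * ψ g = g * x') : Cen cs ψ J x' ≃* Cen cs ψ J x where
  toFun v := ⟨g * v * g⁻¹, (cen_conj hg e v).1 v.2⟩
  invFun v := ⟨g⁻¹ * v * g, (cen_conj hg e _).2 (by simp only [mul_assoc, _root_.mul_inv_cancel_left, _root_.mul_inv_cancel, _root_.mul_one, _root_.SetLike.coe_mem])⟩
  left_inv v := Subtype.ext (by simp [mul_assoc])
  right_inv v := Subtype.ext (by simp [mul_assoc])
  map_mul' a b := Subtype.ext (by simp only [mul_assoc, _root_.Subgroup.coe_mul, _root_.MulMemClass.mk_mul_mk, _root_.inv_mul_cancel_left])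

variable {nd : Nd}

theorem card_cen_le (F : Fit cs h ψ nd.toTy em J w) (G : nd.Good) (hn : ∀ x ∈ nd.nW, 0 ≤ x) {k : ℕ} (hk : k < nd.K) :
    nd.n k * Nat.card (Cen cs ψ J (el cs nd em w k)) ≤ nd.ν 0 := by
  classical
  let act : MulAction (WJ cs J) W :=
    { smul := fun g u => g * u * (ψ g)⁻¹
      one_smul := fun u => by show (1 : W) * u * (ψ 1)⁻¹ = u; simp only [_root_.one_mul, _root_.map_one, _root_.inv_one, _root_.mul_one]
      mul_smul := fun a b u => by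
        show (a * b : W) * u * (ψ (a * b))⁻¹ = a * (b * u * (ψ b)⁻¹) * (ψ a)⁻¹
        simp only [mul_assoc, _root_.map_mul, _root_.mul_inv_rev] }
  have e0 : ∀ (g : WJ cs J) (u : W), g • u = g * u * (ψ g)⁻¹ := fun _ _ => rfl
  have h1 := MulAction.card_orbit_mul_card_stabilizer_eq_card_group (WJ cs J) (el cs nd em w k)
  have h2 : Fintype.card (MulAction.stabilizer (WJ cs J) (el cs nd em w k)) = Nat.card (Cen cs ψ J (el cs nd em w k)) := by
    rw [← Nat.card_eq_fintype_card]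
    exact Nat.card_congr ⟨fun g => ⟨g.1, g.1.2, mul_inv_eq_iff_eq_mul.1 g.2⟩,
      fun g => ⟨⟨g, g.2.1⟩, mul_inv_eq_iff_eq_mul.2 g.2.2⟩, fun _ => rfl, fun _ => rfl⟩
  have h3 := F.mass G (y := fun u => if u ∈ MulAction.orbit (WJ cs J) (el cs nd em w k) then 1 else 0) fun g hg u =>
    if_congr (by
      rw [← MulAction.orbitRel_apply, ← MulAction.orbitRel_apply]
      exact ⟨(MulAction.orbitRel _ _).trans ⟨⟨g, hg⟩⁻¹, by simp only [e0, _root_.InvMemClass.coe_inv, _root_.inv_mul_cancel_left, _root_.map_inv, _root_.inv_inv]⟩,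
        (MulAction.orbitRel _ _).trans ⟨⟨g, hg⟩, by simp [e0, mul_assoc]⟩⟩) rfl rfl
  have h4 : (univ.filter fun x : WJ cs J => x * w ∈ MulAction.orbit (WJ cs J) (el cs nd em w k)).card ≤
      Fintype.card (MulAction.orbit (WJ cs J) (el cs nd em w k)) := by
    rw [← Set.toFinset_card]
    exact card_le_card_of_injOn (fun x => x * w) (fun x hx => by simpa only [_root_.Set.coe_toFinset, _root_.Finset.coe_filter, _root_.Finset.mem_univ, _root_.true_and, _root_.Set.mem_ofPred_eq] using hx)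
      fun _ _ _ _ e => Subtype.ext (mul_right_cancel e)
  have h5 : nd.n k ≤ ∑ j ∈ range nd.K,
      nd.n j * if el cs nd em w j ∈ MulAction.orbit (WJ cs J) (el cs nd em w k) then 1 else 0 := by
    refine le_trans (by rw [if_pos (MulAction.mem_orbit_self _), mul_one]) (single_le_sum (f := fun j => nd.n j *
      if el cs nd em w j ∈ MulAction.orbit (WJ cs J) (el cs nd em w k) then 1 else 0) (fun j _ => ?_) (mem_range.2 hk))
    exact mul_nonneg ((nth_or 0 nd.nW j).elim (hn _) Eq.ge) (by split_ifs <;> simp)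
  have h6 := (G.orth G.spec.2.1).1
  rw [sum_boole, ← mul_div_assoc, eq_div_iff (Int.cast_ne_zero.2 h6.ne'), Nat.card_eq_fintype_card, ← h1, h2] at h3
  have h7 : ((univ.filter fun x : WJ cs J => x * w ∈ MulAction.orbit (WJ cs J) (el cs nd em w k)).card : ℤ) * nd.ν 0 =
      (Fintype.card (MulAction.orbit (WJ cs J) (el cs nd em w k)) * Nat.card (Cen cs ψ J (el cs nd em w k)) : ℕ) *
        ∑ j ∈ range nd.K, nd.n j * if el cs nd em w j ∈ MulAction.orbit (WJ cs J) (el cs nd em w k) then 1 else 0 := by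
    apply Int.cast_injective (α := ℂ)
    push_cast at h3 ⊢
    exact h3
  have h8 : (0 : ℤ) < Fintype.card (MulAction.orbit (WJ cs J) (el cs nd em w k)) :=
    Int.natCast_pos.2 (Fintype.card_pos_iff.2 ⟨⟨_, MulAction.mem_orbit_self _⟩⟩)
  refine le_of_mul_le_mul_left (le_trans ?_ (h7.ge.trans (mul_le_mul_of_nonneg_right (Int.ofNat_le.2 h4) h6.le))) h8
  push_cast
  rw [mul_assoc, mul_comm (nd.n k)]
  exact mul_le_mul_of_nonneg_left (mul_le_mul_of_nonneg_left h5 (Int.natCast_nonneg _)) h8.le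

/-- **the centralisers of the class `k`** -/
def CenK (nd : Nd) (k : ℕ) (ds : List ℕ) : Prop :=
  ∀ {I W : Type} [Fintype I] [DecidableEq I] [Group W] [Fintype W] {M : CoxeterMatrix I} {cs : CoxeterSystem M W}
    {A : I → I → ℤ} {h : IsCartan M A} {ψ : MulAut W} {em : ℕ → I} {J : Set I} {w : W}
    (_ : Fit cs h ψ nd.toTy em J w) (x : W), (∃ g ∈ WJ cs J, x * ψ g = g * el cs nd em w k) → Dg (Cen cs ψ J x) ds

/-- **the characters which are fixed by the graph automorphism** -/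
def CenA (nd nd' : Nd) (k : ℕ) (ds : List ℕ) : Prop :=
  ∀ {I W : Type} [Fintype I] [DecidableEq I] [Group W] [Fintype W] {M : CoxeterMatrix I} {cs : CoxeterSystem M W}
    {A : I → I → ℤ} {h : IsCartan M A} {a : MulAut W} {em : ℕ → I} {J : Set I}
    (_ : Fit cs h 1 nd.toTy em J 1) (_ : Fit cs h a nd'.toTy em J 1) (x : W),
    (∃ g ∈ WJ cs J, x * g = g * el cs nd em 1 k) → ∀ n ∈ WJ cs J, n * a x * n⁻¹ = x →
      DgP (Cen cs 1 J x) (fun η => ∀ v v' : Cen cs 1 J x, (v' : W) = n * a v * n⁻¹ → η v' = η v) ds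

/-- the words `Ls` centralise `x`, which belongs to the class `c % 256` with centralisers of order `N` -/
def cenOK (nd : Nd) (Ls : List ℕ) (x c N : ℕ) : Bool :=
  nd.nW.all (fun m => decide (0 ≤ m)) && Nat.blt (Nat.mod c 256) nd.K && nd.cj (run nd.tab x) c &&
  decide (nd.ν 0 = nd.n (Nat.mod c 256) * N) &&
  Ls.all fun a => Nat.beq (run nd.tab a (run nd.tab x nd.n0)) (run nd.tab x (run nd.tbs a nd.n0))

theorem cen_spec (F : Fit cs h ψ nd.toTy em J w) (G : nd.Good) {Ls : List ℕ} {x c N : ℕ} (hc : cenOK nd Ls x c N = true) :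
    (∃ g ∈ WJ cs J, wd cs em nd.r x * w * ψ g = g * el cs nd em w (c % 256)) ∧
      Nat.card (Cen cs ψ J (wd cs em nd.r x * w)) ≤ N ∧ ∀ a ∈ Ls, wd cs em nd.r a ∈ Cen cs ψ J (wd cs em nd.r x * w) := by
  simp only [cenOK, Bool.and_eq_true, List.all_eq_true, decide_eq_true_eq, Nat.blt_eq, Nat.beq_eq] at hc
  obtain ⟨⟨⟨⟨h1, h2⟩, h3⟩, h4⟩, h5⟩ := hc
  have h6 := F.cj G (F.wd_mem x) (fun u hu => F.run_cd G.ok x hu) h3 h2
  have h7 : wd cs em nd.r x * w * ψ (wd cs em nd.r (c >>> 8)) = wd cs em nd.r (c >>> 8) * el cs nd em w (c % 256) := by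
    rw [mul_assoc, F.tw_wd, ← mul_assoc, h6, el, mul_assoc]
  refine ⟨⟨_, F.wd_mem _, h7⟩, ?_, fun a ha => ⟨F.wd_mem a, ?_⟩⟩
  · have h8 := card_cen_le F G h1 (k := c % 256) h2
    have h9 := (G.orth G.spec.2.1).1
    have h10 : 0 ≤ nd.n (c % 256) := (nth_or 0 nd.nW _).elim (h1 _) Eq.ge
    have h11 : nd.ν 0 = nd.n (c % 256) * N := h4
    rw [Nat.card_congr (cenEq (F.wd_mem _) h7).toEquiv, h11] at h8
    rw [h11] at h9
    exact Int.ofNat_le.1 (le_of_mul_le_mul_left h8 (h10.lt_of_ne fun h12 => by simp [← h12] at h9))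
  · have h8 := h5 a ha
    rw [F.run_one G.ok, F.runs_one G.ok, F.run_cd G.ok _ (F.wd_mem _), F.run_cd G.ok _ (F.ws_mem G.ok _)] at h8
    rw [mul_assoc _ w, F.tw_wd, ← mul_assoc, ← mul_assoc,
      F.cd_inj G.ok (mul_mem (F.wd_mem _) (F.wd_mem _)) (mul_mem (F.wd_mem _) (F.ws_mem G.ok _)) h8]

theorem conj_trans {x x' y : W} (h1 : ∃ g ∈ WJ cs J, x * ψ g = g * y) (h2 : ∃ g ∈ WJ cs J, x' * ψ g = g * y) :
    ∃ g ∈ WJ cs J, x * ψ g = g * x' := by
  obtain ⟨a, ha, e1⟩ := h1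
  obtain ⟨b, hb, e2⟩ := h2
  exact ⟨a * b⁻¹, mul_mem ha (inv_mem hb), by
    rw [map_mul, map_inv, ← mul_assoc, e1, mul_inv_eq_iff_eq_mul, mul_assoc, mul_assoc, e2, inv_mul_cancel_left]⟩

variable {D : Gp} {T : Tb}

theorem Gp.Good.cen (G : D.Good nd.toTy T) (Gn : nd.Good) (F : Fit cs h ψ nd.toTy em J w) {x c : ℕ}
    (hc : cenOK nd D.Ls x c T.nu = true) : D.H nd.toTy cs em = Cen cs ψ J (wd cs em nd.r x * w) := by
  obtain ⟨-, h1, h2⟩ := cen_spec F Gn hc
  obtain ⟨ζ, χ, -, h3⟩ := G.tab F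
  refine Subgroup.eq_of_le_of_card_ge ((Subgroup.closure_le _).2 ?_) (h3.card ▸ h1)
  rintro _ ⟨a, ha, rfl⟩
  exact h2 a ha

theorem Gp.Good.ty {t t' : Ty} (G : D.Good t T) (ht : t'.ok = true) (h1 : t'.r = t.r) (h2 : t'.AL = t.AL)
    (h3 : t'.tab = t.tab) (h4 : t'.n0 = t.n0) : D.Good t' T := by
  cases t
  cases t'
  cases h1
  cases h2
  cases h3
  cases h4
  exact ⟨ht, G.tb, G.rows⟩

theorem Gp.Good.dg {t : Ty} (G : D.Good t T) (F : Fit cs h ψ t em J w) {ds : List ℕ}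
    (hd : dgl T.K T.dg (fun _ => true) = ds) : Nat.card (D.H t cs em) = T.nu ∧ Dg (D.H t cs em) ds := by
  obtain ⟨ζ, χ, -, h1⟩ := G.tab F
  exact ⟨h1.card, hd ▸ dg_iff.2 (dgP_of h1.irr h1.deg h1.inj h1.sur fun _ _ => by simp)⟩

theorem cenK_of (G : D.Good nd.toTy T) (Gn : nd.Good) (x c : ℕ) {k : ℕ} {ds : List ℕ}
    (hc : (cenOK nd D.Ls x c T.nu && Nat.beq (Nat.mod c 256) k && decide (dgl T.K T.dg (fun _ => true) = ds)) = true) :
    CenK nd k ds := by
  intro I W _ _ _ _ M cs A h ψ em J w F y hy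
  simp only [Bool.and_eq_true, Nat.beq_eq, decide_eq_true_eq] at hc
  obtain ⟨g, hg, e⟩ := conj_trans hy ((show c % 256 = k from hc.1.2) ▸ (cen_spec F Gn hc.1.1).1)
  exact ((G.dg F hc.2).2.map (MulEquiv.subgroupCongr (G.cen Gn F hc.1.1))).map (cenEq hg e)

/-- the first `n` iterates are different from `N₀` -/
def ordOK (f : ℕ → ℕ) (N₀ n : ℕ) : ℕ → Bool := Nat.rec (fun _ => true) (fun _ ih N => !Nat.beq (f N) N₀ && ih (f N)) n

theorem ord_spec {f : ℕ → ℕ} {N₀ n N : ℕ} (h : ordOK f N₀ n N = true) : ∀ i < n, f^[i + 1] N ≠ N₀ := by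
  induction n generalizing N with
  | zero => exact fun i hi => absurd hi (Nat.not_lt_zero i)
  | succ n ih =>
    have h1 : (!Nat.beq (f N) N₀ && ordOK f N₀ n (f N)) = true := h
    rw [Bool.and_eq_true, Bool.not_eq_true', ← Bool.not_eq_true, Nat.beq_eq] at h1
    intro i hi
    cases i with
    | zero => exact h1.1
    | succ i => exact ih h1.2 i (Nat.lt_of_succ_lt_succ hi)

theorem cenK_cyc (Gn : nd.Good) (z : ℕ) {k N : ℕ}
    (hc : (cenOK nd [z] (nd.e k) (256 + k) N && Nat.blt k 256 && ordOK (run nd.tab z) nd.n0 (N - 1) nd.n0) = true) :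
    CenK nd k (List.replicate N 1) := by
  intro I W _ _ _ _ M cs A h ψ em J w F y ⟨g, hg, e⟩
  simp only [Bool.and_eq_true, Nat.blt_eq] at hc
  obtain ⟨-, h1, h2⟩ := cen_spec F Gn hc.1.1
  have h3 : ∀ i, (run nd.tab z)^[i] nd.n0 = cd cs h nd.toTy em (wd cs em nd.r z ^ i) := fun i => by
    induction i with
    | zero => rw [Function.iterate_zero_apply, pow_zero, cd_one Gn.ok]
    | succ i ih => rw [Function.iterate_succ_apply', ih, F.run_cd Gn.ok _ (pow_mem (F.wd_mem _) _), pow_succ']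
  have h4 : N ≤ orderOf (wd cs em nd.r z) := by
    by_contra h4
    have h5 := orderOf_pos (wd cs em nd.r z)
    refine ord_spec hc.2 (orderOf (wd cs em nd.r z) - 1) (by omega) ?_
    rw [h3, Nat.sub_add_cancel h5, pow_orderOf_eq_one, cd_one Gn.ok]
  have h5 := Subgroup.zpowers_le.2 (h2 z List.mem_cons_self)
  have h6 := Subgroup.eq_of_le_of_card_ge h5 (by rw [Nat.card_zpowers]; exact h1.trans h4)
  have h7 : Nat.card (Subgroup.zpowers (wd cs em nd.r z)) = N :=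
    le_antisymm (h6 ▸ h1) (Nat.card_zpowers (wd cs em nd.r z) ▸ h4)
  exact ((h7 ▸ dg_comm fun a b => Subtype.ext (by
    obtain ⟨a, i, rfl⟩ := a
    obtain ⟨b, j, rfl⟩ := b
    exact (zpow_add _ i j).symm.trans ((congrArg _ (add_comm i j)).trans (zpow_add _ j i)))).map (MulEquiv.subgroupCongr h6)).map (cenEq hg e)

theorem cenK_top {nd0 : Nd} (Gn : nd.Good) (G0 : nd0.Good) (h0 : IrrT nd0) {k : ℕ} {ds : List ℕ}
    (hc : (decide (nd0.r = nd.r) && decide (nd0.AL = nd.AL) && decide (dgl nd0.K (fun φ => nd0.X φ 0) (fun _ => true) = ds) &&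
      allLt nd.r fun i => Nat.beq (nd0.σ i) i &&
        Nat.beq (step nd.tab i (run nd.tab (nd.e k) nd.n0)) (run nd.tab (nd.e k) (step nd.tab (nd.σ i) nd.n0))) = true) :
    CenK nd k ds := by
  intro I W _ _ _ _ M cs A h ψ em J w F y ⟨g, hg, e⟩
  simp only [Bool.and_eq_true, decide_eq_true_eq, allLt_iff, Nat.beq_eq] at hc
  obtain ⟨⟨⟨h1, h2⟩, h3⟩, h4⟩ := hc
  have F0 : Fit cs h 1 nd0.toTy em J 1 := ⟨h1 ▸ h2 ▸ F.car, h1 ▸ F.mem, fun i => ⟨i, rfl⟩, _root_.Cfsg.Agent.LV.T.min_one, fun i hi => by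
    rw [(h4 i (h1 ▸ hi)).1, one_mul, mul_one]; rfl⟩
  obtain ⟨χ, h5⟩ := h0 F0
  have h6 : WJ cs J = Cen cs ψ J (el cs nd em w k) := le_antisymm ((Subgroup.closure_le _).2 (by
    rintro _ ⟨i, hi, rfl⟩
    obtain ⟨a, ha, rfl⟩ := (F.mem i).1 hi
    have h7 := (h4 a ha).2
    have s1 := Ty.σ_lt Gn.ok ha
    rw [F.run_one Gn.ok, F.step_simple Gn.ok ha (F.wd_mem _), ← cd_one (cs := cs) (h := h) (em := em) Gn.ok,
      F.step_simple Gn.ok s1 (one_mem _), mul_one, F.run_cd Gn.ok _ (simple_mem_WJ cs (F.em_mem s1))] at h7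
    refine ⟨simple_mem_WJ cs hi, ?_⟩
    rw [el, mul_assoc _ w, F.tw a ha, ← mul_assoc, ← mul_assoc, F.cd_inj Gn.ok (mul_mem (simple_mem_WJ cs hi) (F.wd_mem _))
      (mul_mem (F.wd_mem _) (simple_mem_WJ cs (F.em_mem s1))) h7])) fun _ hv => hv.1
  have h7 : rp F0 0 = 1 := Subtype.ext (by show wd cs em nd0.r (nd0.e 0) = 1; rw [G0.spec.2.2.1, wd_one])
  exact ((h3 ▸ dg_iff.2 (dgP_of h5.irr (fun φ hφ => h7 ▸ h5.val φ hφ 0 G0.spec.2.1) h5.inj h5.sur
    fun _ _ => by simp)).map (MulEquiv.subgroupCongr h6)).map (cenEq hg e)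

/-- `η` is fixed by `v ↦ n a(v) n⁻¹` -/
def Fx (H : Subgroup W) (a : MulAut W) (n : W) (η : H → ℂ) : Prop := ∀ v v' : H, (v' : W) = n * a v * n⁻¹ → η v' = η v

theorem map_mem {t : Ty} (F : Fit cs h ψ t em J 1) (ht : t.ok = true) {u : W} (hu : u ∈ WJ cs J) : ψ u ∈ WJ cs J :=
  WJ_ind (P := fun u => ψ u ∈ WJ cs J) (by rw [map_one]; exact one_mem _) (fun i hi u _ ih => by
    obtain ⟨b, hb, rfl⟩ := (F.mem i).1 hi
    rw [map_mul, ← one_mul (ψ _), F.tw b hb, mul_one]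
    exact mul_mem (simple_mem_WJ cs (F.em_mem (Ty.σ_lt ht hb))) ih) hu

theorem fx_conj {a : MulAut W} (ha : ∀ u ∈ WJ cs J, a u ∈ WJ cs J) {g x x' n n' : W} (hg : g ∈ WJ cs J) (hn : n ∈ WJ cs J)
    (hn' : n' ∈ WJ cs J) (e : x * g = g * x') (e1 : n * a x * n⁻¹ = x) (e2 : n' * a x' * n'⁻¹ = x') {ds : List ℕ}
    (H : DgP (Cen cs 1 J x') (Fx _ a n') ds) : DgP (Cen cs 1 J x) (Fx _ a n) ds := by
  obtain rfl := eq_mul_inv_iff_mul_eq.2 e
  have h1 : g⁻¹ * n * a g * n'⁻¹ ∈ Cen cs 1 J x' := ⟨mul_mem (mul_mem (mul_mem (inv_mem hg) hn) (ha g hg)) (inv_mem hn'), by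
    show _ = x' * (g⁻¹ * n * a g * n'⁻¹)
    rw [map_mul, map_mul, map_inv] at e1
    calc g⁻¹ * n * a g * n'⁻¹ * x' = g⁻¹ * n * a g * n'⁻¹ * (n' * a x' * n'⁻¹) := by rw [e2]
      _ = g⁻¹ * (n * (a g * a x' * (a g)⁻¹) * n⁻¹) * (n * a g * n'⁻¹) := by group
      _ = _ := by rw [e1]; group⟩
  let ε := cenEq (ψ := 1) hg e
  have h2 : ∀ v v' : Cen cs 1 J x', (v' : W) = n' * a v * n'⁻¹ ↔
      (ε (⟨_, h1⟩ * v' * ⟨_, h1⟩⁻¹) : W) = n * a (ε v) * n⁻¹ := fun v v' => by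
    show _ ↔ g * (g⁻¹ * n * a g * n'⁻¹ * v' * (g⁻¹ * n * a g * n'⁻¹)⁻¹) * g⁻¹ = n * a (g * v * g⁻¹) * n⁻¹
    rw [map_mul, map_mul, map_inv]
    refine ⟨fun h2 => by rw [h2]; group, fun h2 => ?_⟩
    calc (v' : W) = n' * (a g)⁻¹ * n⁻¹ * (g * (g⁻¹ * n * a g * n'⁻¹ * v' * (g⁻¹ * n * a g * n'⁻¹)⁻¹) * g⁻¹) *
        (n * a g * n'⁻¹) := by group
      _ = _ := by rw [h2]; group
  refine H.map ε fun η hη => ?_
  have h3 : ∀ u v, η (ε (u * v * u⁻¹)) = η (ε v) := fun u v => by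
    rw [map_mul, map_mul, map_inv, isIrr_isClassFunction hη]
  refine ⟨fun h4 v v' e3 => (h3 _ _).symm.trans (h4 _ _ ((h2 v v').1 e3)), fun h4 v v' e3 => ?_⟩
  obtain ⟨v, rfl⟩ := ε.surjective v
  obtain ⟨v', rfl⟩ := ((MulAut.conj (⟨_, h1⟩ : Cen cs 1 J x')).trans ε).surjective v'
  exact (h3 _ _).trans (h4 v v' ((h2 v v').2 e3))

/-- the checks for the action of `v ↦ m a(v) m⁻¹` -/
def autOK (nd nd' : Nd) (D : Gp) (T : Tb) (x m mi : ℕ) (pc ρ : List ℕ) : Bool :=
  Nat.beq nd'.r nd.r && Nat.beq (run nd.tab m (run nd.tab mi nd.n0)) nd.n0 &&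
  Nat.beq (run nd.tab m (run nd'.tbs x nd.n0)) (run nd.tab x (run nd.tab m nd.n0)) &&
  allLt T.K (fun k => D.cj nd.toTy T (fun N => run nd.tab m (run nd'.tbs (nth 1 D.rw k) (run nd.tab mi N))) (nth 0 pc k)) &&
  allLt T.K fun φ => Nat.blt (nth 0 ρ φ) T.K &&
    allLt T.K fun k => (T.X φ (Nat.mod (nth 0 pc k) 256)).eq (T.X (nth 0 ρ φ) k)

theorem cenA_of {nd' : Nd} (G : D.Good nd.toTy T) (Gn : nd.Good) (Gn' : nd'.Good) (x c m mi : ℕ) (pc ρ : List ℕ) {k : ℕ}
    {ds : List ℕ} (hc : (cenOK nd D.Ls x c T.nu && Nat.beq (Nat.mod c 256) k && autOK nd nd' D T x m mi pc ρ &&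
      decide (dgl T.K T.dg (fun φ => Nat.beq (nth 0 ρ φ) φ) = ds)) = true) : CenA nd nd' k ds := by
  intro I W _ _ _ _ M cs A h a em J F F' y hy n hn e1
  classical
  simp only [autOK, Bool.and_eq_true, Nat.beq_eq, decide_eq_true_eq, allLt_iff, Nat.blt_eq, eq_iff] at hc
  obtain ⟨⟨⟨h1, h2⟩, ⟨⟨⟨h3, h4⟩, h5⟩, h6⟩, h7⟩, h8⟩ := hc
  obtain ⟨g, hg, e⟩ := conj_trans (ψ := 1) hy ((show c % 256 = k from h2) ▸ (cen_spec F Gn h1).1)
  have h9 := G.cen Gn F h1
  rw [mul_one] at e h9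
  have ha := fun u => map_mem F' Gn'.ok (u := u)
  have h10 : ∀ z, ∀ u ∈ WJ cs J, run nd'.tbs z (cd cs h nd.toTy em u) = cd cs h nd.toTy em (a (wd cs em nd.r z) * u) :=
    fun z u hu => by
      have h10 := F'.tw_wd z
      have h11 := F'.runs_cd Gn'.ok z hu
      rw [one_mul, mul_one] at h10
      rwa [← h10, cd, cd, h3] at h11
  rw [F.run_one Gn.ok, F.run_cd Gn.ok _ (F.wd_mem _), ← cd_one (cs := cs) (h := h) (em := em) Gn.ok] at h4
  rw [F.run_one Gn.ok, F.run_cd Gn.ok _ (F.wd_mem _), ← cd_one (cs := cs) (h := h) (em := em) Gn.ok, h10 _ _ (one_mem _),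
    mul_one, F.run_cd Gn.ok _ (ha _ (F.wd_mem _))] at h5
  have h11 := eq_inv_of_mul_eq_one_right (F.cd_inj Gn.ok (mul_mem (F.wd_mem _) (F.wd_mem _)) (one_mem _) h4)
  have h12 := mul_inv_eq_iff_eq_mul.2 (F.cd_inj Gn.ok (mul_mem (F.wd_mem _) (ha _ (F.wd_mem _)))
    (mul_mem (F.wd_mem _) (F.wd_mem _)) h5)
  refine fx_conj ha hg hn (F.wd_mem m) e e1 h12 (h9 ▸ ?_)
  let α : D.H nd.toTy cs em →* D.H nd.toTy cs em := (((MulAut.conj (wd cs em nd.r m)).toMonoidHom.comp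
    (a.toMonoidHom.comp (D.H nd.toTy cs em).subtype)).codRestrict (D.H nd.toTy cs em) fun ⟨v, hv⟩ => by
      show wd cs em nd.r m * a v * (wd cs em nd.r m)⁻¹ ∈ _
      rw [h9] at hv ⊢
      refine ⟨mul_mem (mul_mem (F.wd_mem m) (ha v hv.1)) (inv_mem (F.wd_mem m)), ?_⟩
      have h13 : a v * a (wd cs em nd.r x) = a (wd cs em nd.r x) * a v := by rw [← map_mul, hv.2, map_mul]; rfl
      show wd cs em nd.r m * a v * (wd cs em nd.r m)⁻¹ * _ = _ * (wd cs em nd.r m * a v * (wd cs em nd.r m)⁻¹)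
      rw [← h12, conj_mul, conj_mul, h13])
  obtain ⟨ζ, χ, -, h13⟩ := G.tab F
  have h14 : ∀ φ < T.K, ∀ v, χ φ (α v) = χ (nth 0 ρ φ) v := fun φ hφ =>
    h13.comp α (π := fun j => nth 0 pc j % 256) (fun j hj => G.cj F (fun u hu => by
      rw [F.run_cd Gn.ok _ hu, h10 _ _ (mul_mem (F.wd_mem _) hu),
        F.run_cd Gn.ok _ (mul_mem (ha _ (F.wd_mem _)) (mul_mem (F.wd_mem _) hu)), h11, ← (G.rep F hj).1, ← mul_assoc,
        ← mul_assoc]; rfl) (h6 j hj)) hφ (h7 φ hφ).1 (h7 φ hφ).2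
  refine h8 ▸ dgP_of h13.irr h13.deg h13.inj h13.sur fun φ hφ => ⟨fun h15 => Nat.beq_eq ▸ h13.inj _ (h7 φ hφ).1 _ hφ
    (funext fun v => (h14 φ hφ v).symm.trans (h15 v (α v) rfl)), fun h15 v v' e3 => ?_⟩
  rw [show v' = α v from Subtype.ext e3, h14 φ hφ, Nat.eq_of_beq_eq_true h15]

/-! ### decoding of the data -/

def q4 (s n : ℕ) : List Q :=
  Nat.rec (motive := fun _ => List ℤ → List Q) (fun _ => []) (fun _ ih l => List.casesOn l [] fun a l =>
    List.casesOn l [] fun b l => List.casesOn l [] fun c l => List.casesOn l [] fun d l => ⟨a, b, c, d⟩ :: ih l) 1000 (unz s n)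

def q2 (f : ℤ → ℤ → Q) (s n : ℕ) : List Q :=
  Nat.rec (motive := fun _ => List ℤ → List Q) (fun _ => []) (fun _ ih l => List.casesOn l [] fun a l =>
    List.casesOn l [] fun b l => f a b :: ih l) 1000 (unz s n)

def qc : ℕ → ℕ → List Q := q2 fun a c => ⟨a, 0, c, 0⟩

def qd : ℕ → ℕ → List Q := q2 fun a d => ⟨a, 0, 0, d⟩

def q1 (s n : ℕ) : List Q := (unz s n).map z

end Cfsg.Agent.MO.WC
end

-- part: MO/WT/T3
section
/-! MO/WT: generated data (helper27; tools/P3/h27/wt3.py) -/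

set_option autoImplicit false
set_option maxRecDepth 100000

namespace Cfsg.Agent.MO.WT

open Cfsg.Agent.LV.W

theorem T0_irr : IrrT T0 := irrT_of T0_good [
   ]
  (by decide +kernel)

theorem A1_irr : IrrT A1 := irrT_of A1_good [
    .ref (unz 2 0x28), .unit 1 [(1, 0)]]
  (by decide +kernel)

theorem G2_irr : IrrT G2 := irrT_of G2_good [
    .ref (unz 2 0xa00),
    .orb 0 (unp 5 0x808085620211808362098161) (unp 4 0x807ffea0f433eff50ba19ffc041f) (unz 2 0xaa0aa), .unit 4 [(1, 1)],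
    .prod 4 4 (unz 2 0x28a0a), .unit 3 [(1, 0)], .unit 5 [(1, 0)], .unit 1 [(1, 1)], .prod 1 3 (unz 2 0xa0),
    .unit 2 [(1, 0)]]
  (by decide +kernel)

theorem A2_irr : IrrT A2 := irrT_of A2_good [
    .ref (unz 2 0xa0), .unit 2 [(1, 0)], .prod 2 2 (unz 2 0xaaa), .unit 1 [(1, 0)]]
  (by decide +kernel)

theorem A1A1_irr : IrrT A1A1 := irrT_of A1A1_good [
    .ref (unz 2 0x2a8), .unit 2 [(1, 0)], .unit 1 [(1, 0)], .prod 1 2 (unz 2 0x280), .unit 3 [(1, 0)]]
  (by decide +kernel)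

theorem B2_irr : IrrT B2 := irrT_of B2_good [
    .ref (unz 2 0xa00), .orb 0 (unp 4 0x8086c4260b1) (unp 4 0x403fffd07a09ffc041f) (unz 2 0xa0aa), .unit 4 [(1, 1)],
    .unit 1 [(1, 0)], .prod 4 4 (unz 2 0xaaaa), .unit 3 [(1, 0)], .unit 2 [(1, 0)]]
  (by decide +kernel)

theorem C3_irr : IrrT C3 := irrT_of C3_good [
    .ref (unz 2 0xa000), .unit 6 [(1, 0)], .prod 6 6 (unz 2 0xaa0280a), .unit 9 [(1, 0)], .unit 8 [(1, 0)],
    .unit 4 [(1, 0)], .prod 6 8 (unz 2 0xaaa0a0), .unit 5 [(1, 0)], .unit 7 [(1, 0)], .unit 2 [(1, 0)],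
    .prod 4 4 (unz 2 0xa0aa), .unit 1 [(1, 0)], .prod 1 2 (unz 2 0x280), .unit 3 [(1, 0)]]
  (by decide +kernel)

theorem A2A1_irr : IrrT A2A1 := irrT_of A2A1_good [
    .ref (unz 2 0x2828), .unit 4 [(1, 0)], .unit 1 [(1, 0)], .prod 1 4 (unz 2 0x2800), .unit 5 [(1, 0)],
    .prod 4 4 (unz 2 0xa28a), .unit 2 [(1, 0)], .prod 1 2 (unz 2 0x280), .unit 3 [(1, 0)]]
  (by decide +kernel)

theorem B3_irr : IrrT B3 := irrT_of B3_good [
    .ref (unz 2 0xa000), .unit 6 [(1, 0)], .prod 6 6 (unz 2 0xaa0280a), .unit 9 [(1, 0)], .unit 8 [(1, 0)],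
    .unit 4 [(1, 0)], .prod 6 8 (unz 2 0xaaa0a0), .unit 5 [(1, 0)], .unit 7 [(1, 0)], .unit 2 [(1, 0)],
    .prod 4 4 (unz 2 0xa0aa), .unit 1 [(1, 0)], .prod 1 2 (unz 2 0x280), .unit 3 [(1, 0)]]
  (by decide +kernel)

theorem A3_irr : IrrT A3 := irrT_of A3_good [
    .ref (unz 2 0x280), .unit 3 [(1, 0)], .prod 3 3 (unz 2 0x2aa8a), .unit 4 [(1, 0)], .unit 2 [(1, 0)],
    .prod 2 2 (unz 2 0xaaa), .unit 1 [(1, 0)]]
  (by decide +kernel)

theorem A1A1A1_irr : IrrT A1A1A1 := irrT_of A1A1A1_good [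
    .ref (unz 2 0xa2a8), .unit 4 [(1, 0)], .unit 2 [(1, 0)], .unit 1 [(1, 0)], .prod 1 2 (unz 2 0x280),
    .unit 3 [(1, 0)], .prod 1 4 (unz 2 0x2800), .unit 5 [(1, 0)], .prod 2 4 (unz 2 0xa000), .unit 6 [(1, 0)],
    .prod 1 6 (unz 2 0x28000), .unit 7 [(1, 0)]]
  (by decide +kernel)

private noncomputable def _root_.Cfsg.Agent.LsF.fe5162c_0 : {f // @Cfsg.Agent.LV.W.allLt = f} := ⟨_, by first | (delta Cfsg.Agent.LV.W.allLt; rewrite [Cfsg.Agent.LsF.and_eq]; exact rfl) | exact rfl⟩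
private noncomputable def _root_.Cfsg.Agent.LsF.fe5162c_1 : {f // @Cfsg.Agent.MO.WT.injOK = f} := ⟨_, by first | (delta Cfsg.Agent.MO.WT.injOK; rewrite [Cfsg.Agent.LsF.fe5162c_0.2, Cfsg.Agent.LsF.or_eq, Cfsg.Agent.LsF.instIDecEq_eq, Cfsg.Agent.LsF.dNot_eq, Cfsg.Agent.LsF.decide_eq]; exact rfl) | exact rfl⟩
private noncomputable def _root_.Cfsg.Agent.LsF.fe5162c_2 : {f // @Cfsg.Agent.LV.W.all2 = f} := ⟨_, by first | (delta Cfsg.Agent.LV.W.all2; rewrite [Cfsg.Agent.LsF.and_eq, Cfsg.Agent.LsF.isEmpty_eq]; (try delta List.casesOn); exact rfl) | exact rfl⟩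
private noncomputable def _root_.Cfsg.Agent.LsF.fe5162c_3 : {f // @Cfsg.Agent.LV.W.runF = f} := ⟨_, by first | (delta Cfsg.Agent.LV.W.runF; rewrite [Cfsg.Agent.LsF.cond_eq]; exact rfl) | exact rfl⟩
private noncomputable def _root_.Cfsg.Agent.LsF.fe5162c_4 : {f // @Cfsg.Agent.LV.W.run = f} := ⟨_, by first | (delta Cfsg.Agent.LV.W.run; rewrite [Cfsg.Agent.LsF.fe5162c_3.2]; exact rfl) | exact rfl⟩
private noncomputable def _root_.Cfsg.Agent.LsF.fe5162c_5 : {f // @Cfsg.Agent.MO.WT.st' = f} := ⟨_, by first | (delta Cfsg.Agent.MO.WT.st'; rewrite [Cfsg.Agent.LsF.cond_eq]; exact rfl) | exact rfl⟩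
private noncomputable def _root_.Cfsg.Agent.LsF.fe5162c_6 : {f // @Cfsg.Agent.MO.WT.mem = f} := ⟨_, by first | (delta Cfsg.Agent.MO.WT.mem; rewrite [Cfsg.Agent.LsF.cond_eq]; exact rfl) | exact rfl⟩
private noncomputable def _root_.Cfsg.Agent.LsF.fe5162c_7 : {f // @Cfsg.Agent.MO.WT.ndp = f} := ⟨_, by first | (delta Cfsg.Agent.MO.WT.ndp; rewrite [Cfsg.Agent.LsF.fe5162c_6.2, Cfsg.Agent.LsF.cond_eq]; exact rfl) | exact rfl⟩
private noncomputable def _root_.Cfsg.Agent.LsF.fe5162c_8 : {f // @Cfsg.Agent.MO.WT.orbOK = f} := ⟨_, by first | (delta Cfsg.Agent.MO.WT.orbOK; rewrite [Cfsg.Agent.LsF.fe5162c_1.2, Cfsg.Agent.LsF.fe5162c_2.2, Cfsg.Agent.LsF.fe5162c_4.2, Cfsg.Agent.LsF.fe5162c_5.2, Cfsg.Agent.LsF.fe5162c_6.2, Cfsg.Agent.LsF.fe5162c_7.2, Cfsg.Agent.LsF.fe5162c_0.2, Cfsg.Agent.LsF.and_eq, Cfsg.Agent.LsF.all_eq]; exact rfl) | exact rfl⟩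
private noncomputable def _root_.Cfsg.Agent.LsF.fe5162c_9 : {f // @Cfsg.Agent.LV.W.sumAbs = f} := ⟨_, by first | (delta Cfsg.Agent.LV.W.sumAbs; rewrite [Cfsg.Agent.LsF.natAbs_eq]; exact rfl) | exact rfl⟩
private noncomputable def _root_.Cfsg.Agent.LsF.fe5162c_10 : {f // @Cfsg.Agent.LV.W.dotP = f} := ⟨_, by first | (delta Cfsg.Agent.LV.W.dotP; rewrite [Cfsg.Agent.LsF.iadd_pat, Cfsg.Agent.LsF.imul_pat]; exact rfl) | exact rfl⟩
private noncomputable def _root_.Cfsg.Agent.LsF.fe5162c_11 : {f // @Cfsg.Agent.LV.W.pkz = f} := ⟨_, by first | (delta Cfsg.Agent.LV.W.pkz; rewrite [Cfsg.Agent.LsF.iadd_pat, Cfsg.Agent.LsF.imul_pat]; exact rfl) | exact rfl⟩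
private noncomputable def _root_.Cfsg.Agent.LsF.fe5162c_12 : {f // @Cfsg.Agent.LV.W.linP = f} := ⟨_, by first | (delta Cfsg.Agent.LV.W.linP; rewrite [Cfsg.Agent.LsF.fe5162c_9.2, Cfsg.Agent.LsF.fe5162c_10.2, Cfsg.Agent.LsF.fe5162c_11.2, Cfsg.Agent.LsF.nadd_pat, Cfsg.Agent.LsF.nmul_pat, Cfsg.Agent.LsF.icast_pat, Cfsg.Agent.LsF.and_eq, Cfsg.Agent.LsF.all_eq, Cfsg.Agent.LsF.map_eq, Cfsg.Agent.LsF.instIDecEq_eq, Cfsg.Agent.LsF.idecLt_eq, Cfsg.Agent.LsF.length_eq, Cfsg.Agent.LsF.decide_eq]; exact rfl) | exact rfl⟩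
private noncomputable def _root_.Cfsg.Agent.LsF.fe5162c_13 : {f // @Cfsg.Agent.LV.W.Nd.lin = f} := ⟨_, by first | (delta Cfsg.Agent.LV.W.Nd.lin; rewrite [Cfsg.Agent.LsF.fe5162c_12.2]; exact rfl) | exact rfl⟩
private noncomputable def _root_.Cfsg.Agent.LsF.fe5162c_14 : {f // @Cfsg.Agent.MO.WT.zm = f} := ⟨_, by first | (delta Cfsg.Agent.MO.WT.zm; rewrite [Cfsg.Agent.LsF.imul_pat]; (try delta List.casesOn); exact rfl) | exact rfl⟩
private noncomputable def _root_.Cfsg.Agent.LsF.fe5162c_15 : {f // @Cfsg.Agent.MO.WT.valOK = f} := ⟨_, by first | (delta Cfsg.Agent.MO.WT.valOK; rewrite [Cfsg.Agent.LsF.fe5162c_13.2, Cfsg.Agent.LsF.fe5162c_14.2]; exact rfl) | exact rfl⟩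
private noncomputable def _root_.Cfsg.Agent.LsF.fe5162c_16 : {f // @Cfsg.Agent.MO.WT.fixN = f} := ⟨_, by first | (delta Cfsg.Agent.MO.WT.fixN; rewrite [Cfsg.Agent.LsF.cond_eq]; exact rfl) | exact rfl⟩
private noncomputable def _root_.Cfsg.Agent.LsF.fe5162c_17 : {f // @Cfsg.Agent.LV.W.sumLt = f} := ⟨_, by first | (delta Cfsg.Agent.LV.W.sumLt; rewrite [Cfsg.Agent.LsF.iadd_pat]; exact rfl) | exact rfl⟩
private noncomputable def _root_.Cfsg.Agent.LsF.fe5162c_18 : {f // @Cfsg.Agent.MO.WT.trN = f} := ⟨_, by first | (delta Cfsg.Agent.MO.WT.trN; rewrite [Cfsg.Agent.LsF.fe5162c_17.2, Cfsg.Agent.LsF.fe5162c_5.2, Cfsg.Agent.LsF.isub_pat, Cfsg.Agent.LsF.icast_pat]; exact rfl) | exact rfl⟩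
private noncomputable def _root_.Cfsg.Agent.LsF.fe5162c_19 : {f // @Cfsg.Agent.MO.WT.same = f} := ⟨_, by first | (delta Cfsg.Agent.MO.WT.same; rewrite [Cfsg.Agent.LsF.all_eq, Cfsg.Agent.LsF.instIDecEq_eq, Cfsg.Agent.LsF.decide_eq]; exact rfl) | exact rfl⟩
private noncomputable def _root_.Cfsg.Agent.LsF.fe5162c_20 : {f // @Cfsg.Agent.MO.WT.unitOK = f} := ⟨_, by first | (delta Cfsg.Agent.MO.WT.unitOK; rewrite [Cfsg.Agent.LsF.fe5162c_0.2, Cfsg.Agent.LsF.fe5162c_19.2, Cfsg.Agent.LsF.fe5162c_10.2, Cfsg.Agent.LsF.and_eq, Cfsg.Agent.LsF.or_eq, Cfsg.Agent.LsF.not_eq, Cfsg.Agent.LsF.cond_eq, Cfsg.Agent.LsF.testBit_eq, Cfsg.Agent.LsF.all_eq, Cfsg.Agent.LsF.instIDecEq_eq, Cfsg.Agent.LsF.length_eq, Cfsg.Agent.LsF.decide_eq]; exact rfl) | exact rfl⟩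
private noncomputable def _root_.Cfsg.Agent.LsF.fe5162c_21 : {f // @Cfsg.Agent.MO.WT.go = f} := ⟨_, by first | (delta Cfsg.Agent.MO.WT.go; rewrite [Cfsg.Agent.LsF.fe5162c_0.2, Cfsg.Agent.LsF.fe5162c_8.2, Cfsg.Agent.LsF.fe5162c_15.2, Cfsg.Agent.LsF.fe5162c_16.2, Cfsg.Agent.LsF.fe5162c_4.2, Cfsg.Agent.LsF.fe5162c_1.2, Cfsg.Agent.LsF.fe5162c_18.2, Cfsg.Agent.LsF.fe5162c_20.2, Cfsg.Agent.LsF.imul_pat, Cfsg.Agent.LsF.and_eq, Cfsg.Agent.LsF.testBit_eq, Cfsg.Agent.LsF.map_eq, Cfsg.Agent.LsF.range_eq, Cfsg.Agent.LsF.instIDecEq_eq, Cfsg.Agent.LsF.idecLt_eq, Cfsg.Agent.LsF.decide_eq]; (try delta Cfsg.Agent.MO.WT.Ins.casesOn); exact rfl) | exact rfl⟩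
private noncomputable def _root_.Cfsg.Agent.LsF.fe5162c_22 : {f // @Cfsg.Agent.LV.W.dz = f} := ⟨_, by first | (delta Cfsg.Agent.LV.W.dz; rewrite [Cfsg.Agent.LsF.cond_eq]; exact rfl) | exact rfl⟩
private noncomputable def _root_.Cfsg.Agent.LsF.fe5162c_24 : {f // @Cfsg.Agent.LV.W.unz = f} := ⟨_, by first | (delta Cfsg.Agent.LV.W.unz; rewrite [Cfsg.Agent.LsF.fe5162c_22.2, Cfsg.Agent.LsF.map_eq]; exact rfl) | exact rfl⟩
private noncomputable def _root_.Cfsg.Agent.LsF.fe5162c_25 : {f // @Cfsg.Agent.LV.W.F4 = f} := ⟨_, by first | (delta Cfsg.Agent.LV.W.F4; rewrite [Cfsg.Agent.LsF.fe5162c_24.2, Cfsg.Agent.LsF.ineg_pat, Cfsg.Agent.LsF.map_eq]; exact rfl) | exact rfl⟩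
private noncomputable def _root_.Cfsg.Agent.LsF.fe5162c_26 : {f // @Cfsg.Agent.LV.W.Nd.XP = f} := ⟨_, by first | (delta Cfsg.Agent.LV.W.Nd.XP; rewrite [Cfsg.Agent.LsF.fe5162c_11.2, Cfsg.Agent.LsF.map_eq]; exact rfl) | exact rfl⟩
theorem F4_irr : IrrT F4 := irrT_of F4_good [
    .ref (unz 2 0xa0000),
    .orb 0 (unp 6 0x8091890091809087b12312012301210e64624024602421acc48048c048431990091809085b12012301210b664246024214c8048c0484299091809084b01230121096024624210c48c04842189189083b230121076462420ccc048419989082b012105664208c484119081b102602c1) (unp 5 0x2020201ffe0201fa0fe01f20a07fe423f40f7c80827fe84807e81ff9010107d08f904fff08f90107f0108fcfff010104fbf0108f907f0100fd0bf00f908fff00f90507ff21201ffbe423f41f4240403fffc808281e84807e83f847c8281f80847e81f8080827ff80808083f) (unz 2 0x280a000a0280a),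
    .unit 15 [(1, 0)], .unit 19 [(1, 0)], .unit 8 [(1, 1)], .unit 4 [(1, 0)], .prod 8 19 (unz 2 0x28000aa000a0000),
    .unit 24 [(1, 0)], .unit 16 [(1, 0)], .prod 15 19 (unz 2 0x9800554c00aa0000), .unit 17 [(1, 0)], .unit 9 [(1, 0)],
    .prod 8 17 (unz 2 0xaa28000000a000), .unit 6 [(1, 0)], .unit 22 [(1, 0)],
    .prod 24 24 (unz 3 0xa912244880019e6048094a5294a52), .unit 3 [(1, 0)], .unit 7 [(1, 0)], .unit 5 [(1, 0)],
    .prod 7 15 (unz 2 0xa002a800000), .unit 12 [(1, 0)], .unit 18 [(1, 0)], .unit 11 [(1, 0)],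
    .prod 4 4 (unz 2 0xa0aa), .unit 1 [(1, 0)], .prod 1 3 (unz 2 0xa0), .unit 2 [(1, 0)], .prod 4 5 (unz 2 0xa00000),
    .unit 10 [(1, 0)], .prod 8 8 (unz 2 0x2800a000000a), .unit 13 [(1, 0)], .prod 1 13 (unz 2 0xa0000000),
    .unit 14 [(1, 0)], .prod 4 13 (unz 2 0x2800000000000), .unit 23 [(1, 0)], .unit 20 [(1, 8)],
    .prod 8 11 (unz 2 0x28002800000a0), .unit 21 [(1, 0)]]
  (by ((try (rewrite [Cfsg.Agent.LsF.fe5162c_21.2, Cfsg.Agent.LsF.fe5162c_25.2, Cfsg.Agent.LsF.fe5162c_26.2, Cfsg.Agent.LsF.fe5162c_24.2])); decide +kernel))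

theorem A4_irr : IrrT A4 := irrT_of A4_good [
    .ref (unz 2 0xa0), .unit 2 [(1, 0)], .prod 2 2 (unz 2 0x28a28a), .unit 6 [(1, 0)], .unit 4 [(1, 0)],
    .prod 2 6 (unz 2 0xaaaaa0), .unit 3 [(1, 0)], .unit 5 [(1, 0)], .prod 2 3 (unz 2 0x2a8a28), .unit 1 [(1, 0)]]
  (by decide +kernel)

theorem A2A1A1_irr : IrrT A2A1A1 := irrT_of A2A1A1_good [
    .ref (unz 2 0xa002a8), .unit 8 [(1, 0)], .unit 2 [(1, 0)], .unit 1 [(1, 0)], .prod 1 2 (unz 2 0x280),
    .unit 3 [(1, 0)], .prod 1 8 (unz 2 0x280000), .unit 9 [(1, 0)], .prod 2 8 (unz 2 0xa00000), .unit 10 [(1, 0)],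
    .prod 9 10 (unz 2 0x280a0280), .unit 7 [(1, 0)], .unit 11 [(1, 0)], .prod 1 7 (unz 2 0xa000), .unit 6 [(1, 0)],
    .prod 2 6 (unz 2 0xa00), .unit 4 [(1, 0)], .prod 1 4 (unz 2 0x2800), .unit 5 [(1, 0)]]
  (by decide +kernel)

theorem A3A1_irr : IrrT A3A1 := irrT_of A3A1_good [
    .ref (unz 2 0x28028), .unit 6 [(1, 0)], .unit 1 [(1, 0)], .prod 6 6 (unz 2 0x28a280a), .unit 8 [(1, 0)],
    .unit 4 [(1, 0)], .prod 1 4 (unz 2 0x2800), .unit 5 [(1, 0)], .prod 5 6 (unz 2 0xa28000), .unit 9 [(1, 0)],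
    .unit 7 [(1, 0)], .prod 4 4 (unz 2 0xa28a), .unit 2 [(1, 0)], .prod 1 2 (unz 2 0x280), .unit 3 [(1, 0)]]
  (by decide +kernel)

theorem D4_irr : IrrT D4 := irrT_of D4_good [
    .ref (unz 2 0x280000),
    .orb 0 (unp 5 0x80990866264215990846620d908362098161) (unp 5 0x2020201ffe0201fa0fff3f4140f7e828081e827e8081f82827e81f8080827ff80808083f) (unz 2 0x280280a),
    .orb 2 (unp 5 0x90980966260255980946624d809362499161) (unp 5 0x201fa0207e0209fa07ff40413ff7e808083e8280807ff82807e83f807e8281f80828081f) (unz 2 0x280a00a),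
    .unit 4 [(1, 1)], .unit 9 [(1, 2)], .unit 5 [(1, 0)], .prod 4 4 (unz 2 0xa0a28a), .unit 7 [(1, 0)],
    .unit 2 [(1, 0)], .prod 4 5 (unz 2 0xa000280), .unit 11 [(1, 0)], .unit 3 [(1, 0)], .prod 7 9 (unz 2 0x28a00000),
    .unit 10 [(1, 0)], .unit 12 [(1, 0)], .prod 2 2 (unz 2 0xaaa), .unit 1 [(1, 0)], .prod 1 3 (unz 2 0xa000),
    .unit 6 [(1, 0)], .prod 1 5 (unz 2 0xa0000), .unit 8 [(1, 0)]]
  (by decide +kernel)

theorem A2A2_irr : IrrT A2A2 := irrT_of A2A2_good [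
    .ref (unz 2 0xaa00), .unit 5 [(1, 0)], .unit 4 [(1, 0)], .prod 4 4 (unz 2 0xa0aa), .unit 1 [(1, 0)],
    .prod 1 5 (unz 2 0xa000), .unit 6 [(1, 0)], .prod 4 5 (unz 2 0xa0000), .unit 8 [(1, 0)],
    .prod 8 8 (unz 2 0xaaaaaaaaa), .unit 3 [(1, 0)], .unit 7 [(1, 0)], .unit 2 [(1, 0)]]
  (by decide +kernel)

theorem D5_irr : IrrT D5 := irrT_of D5_good [
    .ref (unz 2 0xa00), .unit 4 [(1, 0)], .prod 4 4 (unz 2 0x2a80028a), .unit 10 [(1, 0)], .unit 9 [(1, 0)],
    .unit 2 [(1, 0)], .prod 10 10 (unz 2 0xaaa02aa8a2828a), .unit 7 [(1, 0)], .unit 15 [(1, 0)], .unit 17 [(1, 0)],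
    .unit 11 [(1, 0)], .unit 16 [(1, 0)], .unit 5 [(1, 0)], .prod 4 7 (unz 2 0xaa0000a28), .unit 1 [(1, 0)],
    .unit 3 [(1, 0)], .unit 13 [(1, 0)], .unit 12 [(1, 0)], .prod 9 17 (unz 2 0x4e73aaaaaaaaaa280), .unit 6 [(1, 0)],
    .unit 8 [(1, 0)], .unit 14 [(1, 0)]]
  (by decide +kernel)

theorem A4A1_irr : IrrT A4A1 := irrT_of A4A1_good [
    .ref (unz 2 0x2828), .unit 4 [(1, 0)], .unit 1 [(1, 0)], .prod 4 4 (unz 2 0x280a0280a), .unit 12 [(1, 0)],
    .unit 8 [(1, 0)], .prod 4 12 (unz 2 0xa28a28a00), .unit 6 [(1, 0)], .unit 10 [(1, 0)], .prod 1 4 (unz 2 0x2800),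
    .unit 5 [(1, 0)], .prod 5 6 (unz 2 0xa280a0280), .unit 3 [(1, 0)], .unit 7 [(1, 0)], .unit 11 [(1, 0)],
    .unit 13 [(1, 0)], .prod 1 3 (unz 2 0xa0), .unit 2 [(1, 0)], .prod 1 8 (unz 2 0x280000), .unit 9 [(1, 0)]]
  (by decide +kernel)

private noncomputable def _root_.Cfsg.Agent.LsF.fe5162c_27 : {f // @Cfsg.Agent.LV.W.A2A2A1 = f} := ⟨_, by first | (delta Cfsg.Agent.LV.W.A2A2A1; rewrite [Cfsg.Agent.LsF.fe5162c_24.2, Cfsg.Agent.LsF.ineg_pat, Cfsg.Agent.LsF.map_eq]; exact rfl) | exact rfl⟩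
theorem A2A2A1_irr : IrrT A2A2A1 := irrT_of A2A2A1_good [
    .ref (unz 2 0xa280028), .unit 10 [(1, 0)], .unit 8 [(1, 0)], .unit 1 [(1, 0)], .prod 1 8 (unz 2 0x280000),
    .unit 9 [(1, 0)], .prod 1 10 (unz 2 0x2800000), .unit 11 [(1, 0)], .prod 8 8 (unz 2 0xa0028a), .unit 2 [(1, 0)],
    .prod 1 2 (unz 2 0x280), .unit 3 [(1, 0)], .prod 2 10 (unz 2 0xa000000), .unit 12 [(1, 0)],
    .prod 11 12 (unz 2 0x2800a0280), .unit 7 [(1, 0)], .unit 13 [(1, 0)], .prod 1 7 (unz 2 0xa000), .unit 6 [(1, 0)],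
    .prod 2 6 (unz 2 0xa00), .unit 4 [(1, 0)], .prod 1 4 (unz 2 0x2800), .unit 5 [(1, 0)],
    .prod 4 8 (unz 2 0xa0000000), .unit 14 [(1, 0)], .prod 4 9 (unz 2 0x280000000), .unit 15 [(1, 0)],
    .prod 8 10 (unz 2 0xa00000000), .unit 16 [(1, 0)], .prod 1 16 (unz 2 0x2800000000), .unit 17 [(1, 0)]]
  (by ((try (rewrite [Cfsg.Agent.LsF.fe5162c_21.2, Cfsg.Agent.LsF.fe5162c_27.2, Cfsg.Agent.LsF.fe5162c_26.2, Cfsg.Agent.LsF.fe5162c_24.2])); decide +kernel))

theorem A5_irr : IrrT A5 := irrT_of A5_good [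
    .ref (unz 2 0xa0), .unit 2 [(1, 0)], .prod 2 2 (unz 2 0x28a028a), .unit 8 [(1, 0)], .unit 6 [(1, 0)],
    .prod 6 8 (unz 2 0x2753aa0aa0), .unit 7 [(1, 0)], .unit 9 [(1, 0)], .unit 3 [(1, 0)], .prod 2 7 (unz 2 0xaa28aa00),
    .unit 5 [(1, 0)], .unit 4 [(1, 0)], .unit 10 [(1, 0)], .prod 2 5 (unz 2 0xa28a028), .unit 1 [(1, 0)]]
  (by decide +kernel)

private noncomputable def _root_.Cfsg.Agent.LsF.fe5162c_28 : {f // @Cfsg.Agent.LV.W.E6 = f} := ⟨_, by first | (delta Cfsg.Agent.LV.W.E6; rewrite [Cfsg.Agent.LsF.fe5162c_24.2, Cfsg.Agent.LsF.ineg_pat, Cfsg.Agent.LsF.map_eq]; exact rfl) | exact rfl⟩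
theorem E6_irr : IrrT E6 := irrT_of E6_good [
    .ref (unz 2 0xa0), .unit 2 [(1, 0)], .prod 2 2 (unz 2 0x280a00a), .unit 5 [(1, 0)], .unit 9 [(1, 0)],
    .prod 5 9 (unz 2 0x28a0a00a00a02800), .unit 24 [(1, 0)], .unit 22 [(1, 0)], .unit 19 [(1, 0)], .unit 14 [(1, 0)],
    .prod 5 19 (unz 2 0x554e75b2a8a02a8280a0), .unit 20 [(1, 0)], .unit 23 [(1, 0)], .unit 16 [(1, 0)],
    .unit 6 [(1, 0)], .prod 6 6 (unz 2 0xa00a02a8282800a), .unit 13 [(1, 0)], .unit 17 [(1, 0)], .unit 12 [(1, 0)],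
    .prod 12 13 (unz 2 0x2aa6055013aa0a0a028), .unit 1 [(1, 0)], .unit 11 [(1, 0)], .unit 8 [(1, 0)],
    .unit 18 [(1, 0)], .prod 2 11 (unz 2 0x280280a000280), .unit 3 [(1, 0)], .unit 15 [(1, 0)],
    .prod 5 18 (unz 2 0x139d5513aaa2a8028000), .unit 7 [(1, 0)], .unit 21 [(1, 0)], .unit 10 [(1, 4)],
    .prod 2 17 (unz 2 0x28282aa800000a00), .unit 4 [(1, 0)]]
  (by ((try (rewrite [Cfsg.Agent.LsF.fe5162c_21.2, Cfsg.Agent.LsF.fe5162c_28.2, Cfsg.Agent.LsF.fe5162c_26.2, Cfsg.Agent.LsF.fe5162c_24.2])); decide +kernel))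

end Cfsg.Agent.MO.WT
end

-- part: MO/WC/D6
section
/-! MO/WC: generated data (helper27; tools/P3/h27/gen.py) -/

set_option autoImplicit false
set_option maxRecDepth 100000

namespace Cfsg.Agent.MO.WC

open Cfsg.Agent.LV.W Cfsg.Agent.MO.WT

theorem cenK_E6_0 : CenK E6 0
    [1, 1, 6, 6, 10, 15, 15, 15, 15, 20, 20, 20, 24, 24, 30, 30, 60, 60, 60, 64, 64, 80, 81, 81, 90] :=
  cenK_top E6_good E6_good E6_irr (by decide +kernel)

theorem cenK_E6_514320_24 : CenK E6_514320 24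
    [1, 1, 6, 6, 10, 15, 15, 15, 15, 20, 20, 20, 24, 24, 30, 30, 60, 60, 60, 64, 64, 80, 81, 81, 90] :=
  cenK_top E6_514320_good E6_good E6_irr (by decide +kernel)

noncomputable def F6_T : Tb where
  f := F12
  K := 25
  nu := 1152
  n := (unz 4 0x2281a43e1603e1603e1606904c8448448d81181181181181101e43c8461603e162)
  XC := (List.map (q1 3) [0x20d8b2b2b2b2b0b0b0b0b9324489122448e38e394a52, 0x19e75d7100ec08e31ad4606a5332,
    0x680004733181296a528e66394a52, 0x19d79d62276008f423d08f426532, 0x253320008f400000026652,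
    0x94cc800351c7a1a8c0026652, 0x680004c71c81296a5298e3994a52, 0x948026426426426532, 0x990025225226426532,
    0x480902644a5204a5332, 0x48120252133204a5332, 0x24000001320480999994a52, 0x77294a4001ad011008e38e394a52,
    0x26652000000004606a5332, 0x265320000000008f426532, 0x132948000000000026652, 0x11d6001ad6b59e71c728e3999994a52,
    0x19d79d63b8800d4635188f426532, 0x8c0004b5a90133a9998e3994a52, 0x19e75d7d81100d68471c606a5332,
    0x8c0006a52d0133a998e66394a52, 0x22575d75800471811008e38e394a52, 0x94cc800351ea311e80026652,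
    0xd560011c71c79e7ad4b5a999994a52, 0x1fb8b2b2b2b2bf3e7cf993277dc4efb8e38e394a52])
  rows := [(List.map (unp 5) [0xa00b6864a039a91880e664a0359a00c6a02d9880c64680359280c6462035880b6029,
    0x801378460558878156684195980146818d98136460055a10646460518126009,
    0x880b6c02e1b9b21906e722641b986a6201b18086c641ad90806d64021b580a6802d,
    0xa02369e091f88247e08db82b68e0b1b802c6640b1a1902d66400b588236089,
    0x803b69e0f188783d6642319908456861d1b8436640115aa07466411183a6069,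
    0x9281c70421d5dc0447601119181c7010d80436421d1da0447610da0436109,
    0x885361462139d1884d74620159918546ae81559180556149d1a0556014d808546129,
    0x88237022d1a8b36682d189807d60261f5987b7021f19a07c6461f18226808d,
    0x909825722641f9e1007d60c41f5802b668460999182464201f5a90087e6641f1a02b60a9,
    0x885b62e980bb66425191805d62499185c6016d9189461698085c60c9,
    0x88337042255ba805d64620179b083468c1718088460c9b0836016da05b6169,
    0x884b6f02135ae84c6468135b205463213191a0556014d9e8546129a0536149,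
    0x9a00c7026dd886c761ada00b621ad86a6269d986c76021b5986b6021b1,
    0xa813706291898ac6682918126600518626289a18a4622ada0636c04d,
    0x9a0246322d18b807d664a1f59082c601edb07b6a8091e007c6e21f1b007c61e9,
    0x98290466860f1c13003e664a01d9b11845601cd918446e260f5e007468c4115983b61c9,
    0x91880566a52155b0536c201558805464a0155ae8546c02155ba80557a6151e005460c151,
    0x9a118266842d1908b4642cda1182564609190982568642d5990b462642d599098266a46095,
    0xc84b632131a304c6658135940855612992808566ea8135e04b6f02135b04b6ae8155,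
    0x99064630988a3628990636462919a0a4618998a3626291a0a3602291,
    0xa906c664a027999086d6269906b7841b1d86b61a996106d6c41b1a09b60a41b5,
    0x99006d626401b99186c63c1b1e1906d7661b1c1906d686421b9886b620c41b9b1086d66161b5,
    0xd2183d6e260f5bc03c6422df283c784231da183d6860f1c88746a0edea83c6a4681d9,
    0xd404c6129851884e68462139b211884f6f02135da04c714131c884c632131b11a04e7462135,
    0x99409d6269809b6826d9409c646827592809d7026d9a09c6a0271992809e6a468279]), (List.map (unp 5)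
    [0x9181c78607196181d64a071a1181d7006de01b7206da81b6c06d981b6069,
    0x918247860919618256200b1a02b6840b1e02366840b590802d664200b998236089,
    0x84272260f5948983e6201119843646111c8b845722641199080456c864119904360e9,
    0x903366580d5fa0346420d1a1034680cda19065664019588336641918326009,
    0x904b6658135be04c6420155a10546814da09b664021b98805466421b584a6029,
    0xa00b7046155d806c668031806b7014dc098557041518985464615190536149,
    0x981b6c4a01d9a91a07661c9807366021d5d18807664021d5a8736421d181a646071,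
    0x905b6c2eda80bc6a16db85b602171880a46022918805c628985a6049,
    0x81272421759300a56a04d98136402118c85c64617189805d6220d905b6169,
    0x98236462d18b2601ed87a6461f1990b46641f1c07b66401f5822646091,
    0x902b766021f9b8087d6a80918c87c6a021f58c907d6841f19902c6468095a02360a9,
    0x90437cc0f1bc03c6a0eda31045664111a9403d6460f1d04361611183a6109,
    0x9281c7061d1d88b64607188a7801d1c0737021d1872661cd88736a1cd,
    0x9098256c1ed930b4600ad99098267221f1c8987d6621f18b807d62601f58807c7021f1,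
    0xb0336262b1d889460c9892602adc0936e22518626420d1990646a0cd,
    0xc8854602e1b5c504c6ae815584a6021b1c04b684151d986c664a135990086e6e8151,
    0x88310466a401159d004564011182b8457a2111d88045641e1159908456210dca90456216115,
    0xa0636624d8c26018d8626a24d8926224dc0936824db893646251,
    0xc8736861d1e108c601cd8726a01d188a7501d1c0737e01d19908c6521d1,
    0xa128256c82d1a190b56468095a10b4682cdaa0b46682d19a0246808daa0246c8091,
    0x9283c6ea0f199283d616111c1283d7aa0f188783d7e0ed83104560e9a83b6c864119,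
    0x9a10757401d1a10746521d1d188076781cda8736ba1d180736501d199280877701cd,
    0x96104d646827584a6ba131c504c6c41b1be04c7412d83106d7a12da09b784131,
    0x961183e6520f1a183c6a520f5b8983d6c0ed9a1183e64260f5c38983e7ac0f1a783c78460f5,
    0xa588c6422d88a7c22dd88b6c42319908c6a4231c908c704231e108c7864235])]
  lev := (List.map (q1 3) [0x112277de402e019320b973140bdc5bdbdc5, 0x113b89d8c9700192e0c97062de8bdc5bdc5])
  b := 16
  B := 1024

noncomputable def F6_D : Gp where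
  Ls := [0x11, 0x13, 0x105, 0x124, 0x1131, 0x13243, 0x123432, 0x1020454, 0x1132431, 0x11234312, 0x103204543, 0x1023454320,
    0x1312343123, 0x10132045431, 0x101234543120, 0x1203243205432]
  rw := (unp 8
    0x10120312032431203243154312032431543209180919021891a2a18901921aa30c048c50d50c480c90c550d56062406864a862406489302032432054312034181019021902a1901ec4c48d0c480c950e6246246862468632320432054313189902192a12cc810c9508646862463b232432198092a18cc0950c56024a82b124311809a88c0950464861b0150d8284c4c2620b01)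
  rh := (unp 5
    0x3fac5039eb1182e7ca46039d411c7e4031f90b784611e1836c4a118291c6a46db00b6c299180c6462d91836602d900b646998a64099160298161)
  cod := (unp 6
    0xfcfcfcfcfcfeef9051104d4faee1051104fce2ef120d52114f2efcf504f528feefcfcfcfd28fee8e8276827e8f7c73f3f3f3f47be11f9e1fa5a15f09051104dd0af8482768292857c63d413d4346be21f9f9fa2a25fea0a2a09f1eddea0a1a0a11eddf20a2209f9f5d0cf914f8f90effd0d050cf8feef9050d0504fae867c867c84877fe8484847e7f77e848284827f7414241423e41be0a0a1209fa0df050505050506f)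
  tw := (List.map (unp 7)
    [0x985899021891a2a189019218d599021891a2a18901921cd9021891a2a18901924591a19159891a1891a5891a1891d811a2a1902581891a2a18901b58091a2a18902d8988d885,
    0x9209918a189019218aa1891a518118a1902a189019218aa19061992191899218998099022a18a998901921902a1891c18901921902a18939819022a1a1901921902a193181022a198289])
  th := (List.map (unp 5) [0x897170daf2b6658475b1785c976596137c5a1605, 0x996dacddc5b6a5c17a5aeab67a6dd17e5b9645])

private noncomputable def _root_.Cfsg.Agent.LsF.fe5162c_29 : {f // @Cfsg.Agent.MO.WC.Q.eq = f} := ⟨_, by first | (delta Cfsg.Agent.MO.WC.Q.eq; rewrite [Cfsg.Agent.LsF.and_eq, Cfsg.Agent.LsF.instIDecEq_eq, Cfsg.Agent.LsF.decide_eq]; exact rfl) | exact rfl⟩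
private noncomputable def _root_.Cfsg.Agent.LsF.fe5162c_30 : {f // @Cfsg.Agent.MO.WC.nab = f} := ⟨_, by first | (delta Cfsg.Agent.MO.WC.nab; rewrite [Cfsg.Agent.LsF.natAbs_eq]; exact rfl) | exact rfl⟩
private noncomputable def _root_.Cfsg.Agent.LsF.fe5162c_31 : {f // @Cfsg.Agent.MO.WC.Q.add = f} := ⟨_, by first | (delta Cfsg.Agent.MO.WC.Q.add; rewrite [Cfsg.Agent.LsF.iadd_eq]; exact rfl) | exact rfl⟩
private noncomputable def _root_.Cfsg.Agent.LsF.fe5162c_32 : {f // @Cfsg.Agent.MO.WC.Q.sm = f} := ⟨_, by first | (delta Cfsg.Agent.MO.WC.Q.sm; rewrite [Cfsg.Agent.LsF.imul_eq]; exact rfl) | exact rfl⟩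
private noncomputable def _root_.Cfsg.Agent.LsF.fe5162c_33 : {f // @Cfsg.Agent.MO.WC.Q.ax = f} := ⟨_, by first | (delta Cfsg.Agent.MO.WC.Q.ax; rewrite [Cfsg.Agent.LsF.fe5162c_31.2, Cfsg.Agent.LsF.fe5162c_32.2, Cfsg.Agent.LsF.cond_eq, Cfsg.Agent.LsF.instIDecEq_eq, Cfsg.Agent.LsF.decide_eq]; exact rfl) | exact rfl⟩
private noncomputable def _root_.Cfsg.Agent.LsF.fe5162c_34 : {f // @Cfsg.Agent.MO.WC.dotQ = f} := ⟨_, by first | (delta Cfsg.Agent.MO.WC.dotQ; rewrite [Cfsg.Agent.LsF.fe5162c_33.2]; (try delta List.casesOn); exact rfl) | exact rfl⟩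
private noncomputable def _root_.Cfsg.Agent.LsF.fe5162c_35 : {f // @Cfsg.Agent.MO.WC.Tb.valOK = f} := ⟨_, by first | (delta Cfsg.Agent.MO.WC.Tb.valOK; rewrite [Cfsg.Agent.LsF.fe5162c_2.2, Cfsg.Agent.LsF.fe5162c_29.2, Cfsg.Agent.LsF.fe5162c_34.2, Cfsg.Agent.LsF.and_eq, Cfsg.Agent.LsF.length_eq]; exact rfl) | exact rfl⟩
private noncomputable def _root_.Cfsg.Agent.LsF.fe5162c_36 : {f // @Cfsg.Agent.MO.WC.Tb.baseOK = f} := ⟨_, by first | (delta Cfsg.Agent.MO.WC.Tb.baseOK; rewrite [Cfsg.Agent.LsF.fe5162c_17.2, Cfsg.Agent.LsF.fe5162c_29.2, Cfsg.Agent.LsF.fe5162c_30.2, Cfsg.Agent.LsF.fe5162c_0.2, Cfsg.Agent.LsF.fe5162c_35.2, Cfsg.Agent.LsF.nsub_pat, Cfsg.Agent.LsF.icast_pat, Cfsg.Agent.LsF.and_eq, Cfsg.Agent.LsF.all_eq, Cfsg.Agent.LsF.map_eq, Cfsg.Agent.LsF.replicate_eq, Cfsg.Agent.LsF.instIDecEq_eq, Cfsg.Agent.LsF.idecLt_eq, Cfsg.Agent.LsF.length_eq, Cfsg.Agent.LsF.decide_eq]; exact rfl) | exact rfl⟩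
private noncomputable def _root_.Cfsg.Agent.LsF.fe5162c_37 : {f // @Cfsg.Agent.MO.WC.sum2 = f} := ⟨_, by first | (delta Cfsg.Agent.MO.WC.sum2; rewrite [Cfsg.Agent.LsF.iadd_eq, Cfsg.Agent.LsF.imul_eq]; (try delta List.casesOn); exact rfl) | exact rfl⟩
private noncomputable def _root_.Cfsg.Agent.LsF.fe5162c_38 : {f // @Cfsg.Agent.MO.WC.Tb.massOK = f} := ⟨_, by first | (delta Cfsg.Agent.MO.WC.Tb.massOK; rewrite [Cfsg.Agent.LsF.fe5162c_9.2, Cfsg.Agent.LsF.fe5162c_37.2, Cfsg.Agent.LsF.fe5162c_11.2, Cfsg.Agent.LsF.imul_pat, Cfsg.Agent.LsF.icast_pat, Cfsg.Agent.LsF.and_eq, Cfsg.Agent.LsF.all_eq, Cfsg.Agent.LsF.instIDecEq_eq, Cfsg.Agent.LsF.length_eq, Cfsg.Agent.LsF.decide_eq]; exact rfl) | exact rfl⟩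
private noncomputable def _root_.Cfsg.Agent.LsF.fe5162c_39 : {f // @Cfsg.Agent.MO.WC.addZ = f} := ⟨_, by first | (delta Cfsg.Agent.MO.WC.addZ; rewrite [Cfsg.Agent.LsF.iadd_eq, Cfsg.Agent.LsF.imul_eq]; (try delta List.casesOn); exact rfl) | exact rfl⟩
private noncomputable def _root_.Cfsg.Agent.LsF.fe5162c_40 : {f // @Cfsg.Agent.MO.WC.accZ = f} := ⟨_, by first | (delta Cfsg.Agent.MO.WC.accZ; rewrite [Cfsg.Agent.LsF.fe5162c_39.2]; (try delta List.casesOn); exact rfl) | exact rfl⟩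
private noncomputable def _root_.Cfsg.Agent.LsF.fe5162c_41 : {f // @Cfsg.Agent.MO.WC.Fd.nq = f} := ⟨_, by first | (delta Cfsg.Agent.MO.WC.Fd.nq; rewrite [Cfsg.Agent.LsF.fe5162c_31.2, Cfsg.Agent.LsF.fe5162c_32.2, Cfsg.Agent.LsF.iadd_eq, Cfsg.Agent.LsF.imul_eq]; exact rfl) | exact rfl⟩
private noncomputable def _root_.Cfsg.Agent.LsF.fe5162c_42 : {f // @Cfsg.Agent.MO.WC.Tb.nrmOK = f} := ⟨_, by first | (delta Cfsg.Agent.MO.WC.Tb.nrmOK; rewrite [Cfsg.Agent.LsF.fe5162c_0.2, Cfsg.Agent.LsF.fe5162c_40.2, Cfsg.Agent.LsF.fe5162c_41.2, Cfsg.Agent.LsF.icast_pat, Cfsg.Agent.LsF.instIDecEq_eq, Cfsg.Agent.LsF.decide_eq]; exact rfl) | exact rfl⟩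
private noncomputable def _root_.Cfsg.Agent.LsF.fe5162c_43 : {f // @Cfsg.Agent.MO.WC.sab = f} := ⟨_, by first | (delta Cfsg.Agent.MO.WC.sab; rewrite [Cfsg.Agent.LsF.fe5162c_30.2]; exact rfl) | exact rfl⟩
private noncomputable def _root_.Cfsg.Agent.LsF.fe5162c_44 : {f // @Cfsg.Agent.MO.WC.dotS = f} := ⟨_, by first | (delta Cfsg.Agent.MO.WC.dotS; rewrite [Cfsg.Agent.LsF.cond_eq, Cfsg.Agent.LsF.iadd_eq, Cfsg.Agent.LsF.imul_eq, Cfsg.Agent.LsF.instIDecEq_eq, Cfsg.Agent.LsF.decide_eq]; (try delta List.casesOn); exact rfl) | exact rfl⟩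
private noncomputable def _root_.Cfsg.Agent.LsF.fe5162c_45 : {f // @Cfsg.Agent.MO.WC.zpk = f} := ⟨_, by first | (delta Cfsg.Agent.MO.WC.zpk; rewrite [Cfsg.Agent.LsF.map_eq, Cfsg.Agent.LsF.iadd_eq, Cfsg.Agent.LsF.imul_eq]; (try delta List.casesOn); exact rfl) | exact rfl⟩
private noncomputable def _root_.Cfsg.Agent.LsF.fe5162c_46 : {f // @Cfsg.Agent.MO.WC.pkR = f} := ⟨_, by first | (delta Cfsg.Agent.MO.WC.pkR; rewrite [Cfsg.Agent.LsF.fe5162c_45.2]; exact rfl) | exact rfl⟩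
private noncomputable def _root_.Cfsg.Agent.LsF.fe5162c_47 : {f // @Cfsg.Agent.MO.WC.en = f} := ⟨_, by first | (delta Cfsg.Agent.MO.WC.en; rewrite [Cfsg.Agent.LsF.iadd_eq, Cfsg.Agent.LsF.imul_eq]; exact rfl) | exact rfl⟩
private noncomputable def _root_.Cfsg.Agent.LsF.fe5162c_48 : {f // @Cfsg.Agent.MO.WC.pkE = f} := ⟨_, by first | (delta Cfsg.Agent.MO.WC.pkE; rewrite [Cfsg.Agent.LsF.iadd_eq, Cfsg.Agent.LsF.imul_eq]; exact rfl) | exact rfl⟩
private noncomputable def _root_.Cfsg.Agent.LsF.fe5162c_49 : {f // @Cfsg.Agent.MO.WC.Tb.valF = f} := ⟨_, by first | (delta Cfsg.Agent.MO.WC.Tb.valF; rewrite [Cfsg.Agent.LsF.fe5162c_9.2, Cfsg.Agent.LsF.fe5162c_43.2, Cfsg.Agent.LsF.fe5162c_44.2, Cfsg.Agent.LsF.fe5162c_46.2, Cfsg.Agent.LsF.fe5162c_47.2, Cfsg.Agent.LsF.fe5162c_48.2, Cfsg.Agent.LsF.and_eq, Cfsg.Agent.LsF.instIDecEq_eq, Cfsg.Agent.LsF.length_eq, Cfsg.Agent.LsF.decide_eq]; exact rfl) | exact rfl⟩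
private noncomputable def _root_.Cfsg.Agent.LsF.fe5162c_50 : {f // @Cfsg.Agent.MO.WC.Q.mul' = f} := ⟨_, by first | (delta Cfsg.Agent.MO.WC.Q.mul'; rewrite [Cfsg.Agent.LsF.fe5162c_33.2]; exact rfl) | exact rfl⟩
private noncomputable def _root_.Cfsg.Agent.LsF.fe5162c_51 : {f // @Cfsg.Agent.MO.WC.Q.mx = f} := ⟨_, by first | (delta Cfsg.Agent.MO.WC.Q.mx; rewrite [Cfsg.Agent.LsF.iadd_eq, Cfsg.Agent.LsF.imul_eq]; exact rfl) | exact rfl⟩
private noncomputable def _root_.Cfsg.Agent.LsF.fe5162c_52 : {f // @Cfsg.Agent.MO.WC.Q.pw = f} := ⟨_, by first | (delta Cfsg.Agent.MO.WC.Q.pw; rewrite [Cfsg.Agent.LsF.fe5162c_51.2]; exact rfl) | exact rfl⟩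
private noncomputable def _root_.Cfsg.Agent.LsF.fe5162c_53 : {f // @Cfsg.Agent.MO.WC.same = f} := ⟨_, by first | (delta Cfsg.Agent.MO.WC.same; rewrite [Cfsg.Agent.LsF.fe5162c_0.2, Cfsg.Agent.LsF.fe5162c_29.2, Cfsg.Agent.LsF.length_eq]; exact rfl) | exact rfl⟩
private noncomputable def _root_.Cfsg.Agent.LsF.fe5162c_54 : {f // @Cfsg.Agent.MO.WC.unitF = f} := ⟨_, by first | (delta Cfsg.Agent.MO.WC.unitF; rewrite [Cfsg.Agent.LsF.fe5162c_0.2, Cfsg.Agent.LsF.fe5162c_10.2, Cfsg.Agent.LsF.fe5162c_53.2, Cfsg.Agent.LsF.and_eq, Cfsg.Agent.LsF.or_eq, Cfsg.Agent.LsF.not_eq, Cfsg.Agent.LsF.cond_eq, Cfsg.Agent.LsF.all_eq, Cfsg.Agent.LsF.instIDecEq_eq, Cfsg.Agent.LsF.length_eq, Cfsg.Agent.LsF.decide_eq]; exact rfl) | exact rfl⟩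
private noncomputable def _root_.Cfsg.Agent.LsF.fe5162c_55 : {f // @Cfsg.Agent.MO.WC.go = f} := ⟨_, by first | (delta Cfsg.Agent.MO.WC.go; rewrite [Cfsg.Agent.LsF.fe5162c_0.2, Cfsg.Agent.LsF.fe5162c_49.2, Cfsg.Agent.LsF.fe5162c_50.2, Cfsg.Agent.LsF.fe5162c_52.2, Cfsg.Agent.LsF.fe5162c_54.2, Cfsg.Agent.LsF.and_eq, Cfsg.Agent.LsF.testBit_eq, Cfsg.Agent.LsF.map_eq]; (try delta Cfsg.Agent.MO.WC.Is.casesOn); exact rfl) | exact rfl⟩
private noncomputable def _root_.Cfsg.Agent.LsF.fe5162c_56 : {f // @Cfsg.Agent.MO.WC.runG = f} := ⟨_, by first | (delta Cfsg.Agent.MO.WC.runG; rewrite [Cfsg.Agent.LsF.fe5162c_4.2, Cfsg.Agent.LsF.cond_eq]; exact rfl) | exact rfl⟩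
private noncomputable def _root_.Cfsg.Agent.LsF.fe5162c_57 : {f // @Cfsg.Agent.MO.WC.Gp.runH = f} := ⟨_, by first | (delta Cfsg.Agent.MO.WC.Gp.runH; rewrite [Cfsg.Agent.LsF.fe5162c_56.2]; exact rfl) | exact rfl⟩
private noncomputable def _root_.Cfsg.Agent.LsF.fe5162c_58 : {f // @Cfsg.Agent.MO.WC.Gp.setOK = f} := ⟨_, by first | (delta Cfsg.Agent.MO.WC.Gp.setOK; rewrite [Cfsg.Agent.LsF.fe5162c_2.2, Cfsg.Agent.LsF.fe5162c_4.2, Cfsg.Agent.LsF.fe5162c_57.2, Cfsg.Agent.LsF.fe5162c_7.2, Cfsg.Agent.LsF.fe5162c_6.2, Cfsg.Agent.LsF.and_eq, Cfsg.Agent.LsF.all_eq, Cfsg.Agent.LsF.map_eq]; exact rfl) | exact rfl⟩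
private noncomputable def _root_.Cfsg.Agent.LsF.fe5162c_59 : {f // @Cfsg.Agent.MO.WC.Gp.baseOK = f} := ⟨_, by first | (delta Cfsg.Agent.MO.WC.Gp.baseOK; rewrite [Cfsg.Agent.LsF.fe5162c_1.2, Cfsg.Agent.LsF.fe5162c_0.2, Cfsg.Agent.LsF.fe5162c_4.2, Cfsg.Agent.LsF.fe5162c_57.2, Cfsg.Agent.LsF.fe5162c_58.2, Cfsg.Agent.LsF.fe5162c_6.2, Cfsg.Agent.LsF.fe5162c_35.2, Cfsg.Agent.LsF.fe5162c_18.2, Cfsg.Agent.LsF.and_eq, Cfsg.Agent.LsF.or_eq, Cfsg.Agent.LsF.not_eq, Cfsg.Agent.LsF.all_eq, Cfsg.Agent.LsF.map_eq, Cfsg.Agent.LsF.length_eq]; exact rfl) | exact rfl⟩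
private noncomputable def _root_.Cfsg.Agent.LsF.fe5162c_60 : {f // @Cfsg.Agent.MO.WC.smZ = f} := ⟨_, by first | (delta Cfsg.Agent.MO.WC.smZ; rewrite [Cfsg.Agent.LsF.iadd_eq]; exact rfl) | exact rfl⟩
private noncomputable def _root_.Cfsg.Agent.LsF.fe5162c_61 : {f // @Cfsg.Agent.MO.WC.zq = f} := ⟨_, by first | (delta Cfsg.Agent.MO.WC.zq; rewrite [Cfsg.Agent.LsF.fe5162c_50.2]; (try delta List.casesOn); exact rfl) | exact rfl⟩
private noncomputable def _root_.Cfsg.Agent.LsF.fe5162c_62 : {f // @Cfsg.Agent.MO.WC.Tb.eig1 = f} := ⟨_, by first | (delta Cfsg.Agent.MO.WC.Tb.eig1; rewrite [Cfsg.Agent.LsF.fe5162c_43.2, Cfsg.Agent.LsF.fe5162c_60.2, Cfsg.Agent.LsF.fe5162c_48.2, Cfsg.Agent.LsF.fe5162c_47.2, Cfsg.Agent.LsF.fe5162c_61.2, Cfsg.Agent.LsF.nadd_pat, Cfsg.Agent.LsF.nmul_pat, Cfsg.Agent.LsF.icast_pat, Cfsg.Agent.LsF.and_eq, Cfsg.Agent.LsF.instIDecEq_eq, Cfsg.Agent.LsF.idecLt_eq, Cfsg.Agent.LsF.length_eq, Cfsg.Agent.LsF.decide_eq];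 exact rfl) | exact rfl⟩
private noncomputable def _root_.Cfsg.Agent.LsF.fe5162c_63 : {f // @Cfsg.Agent.MO.WC.Tb.eigOK = f} := ⟨_, by first | (delta Cfsg.Agent.MO.WC.Tb.eigOK; rewrite [Cfsg.Agent.LsF.fe5162c_0.2, Cfsg.Agent.LsF.fe5162c_62.2, Cfsg.Agent.LsF.fe5162c_48.2, Cfsg.Agent.LsF.fe5162c_47.2, Cfsg.Agent.LsF.fe5162c_52.2, Cfsg.Agent.LsF.nadd_pat, Cfsg.Agent.LsF.iadd_pat, Cfsg.Agent.LsF.map_eq]; exact rfl) | exact rfl⟩
private noncomputable def _root_.Cfsg.Agent.LsF.fe5162c_64 : {f // @Cfsg.Agent.MO.WC.runM = f} := ⟨_, by first | (delta Cfsg.Agent.MO.WC.runM; rewrite [Cfsg.Agent.LsF.cond_eq]; exact rfl) | exact rfl⟩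
private noncomputable def _root_.Cfsg.Agent.LsF.fe5162c_65 : {f // @Cfsg.Agent.MO.WC.mat = f} := ⟨_, by first | (delta Cfsg.Agent.MO.WC.mat; rewrite [Cfsg.Agent.LsF.fe5162c_5.2, Cfsg.Agent.LsF.fe5162c_4.2, Cfsg.Agent.LsF.map_eq, Cfsg.Agent.LsF.range_eq, Cfsg.Agent.LsF.sum_eq]; exact rfl) | exact rfl⟩
private noncomputable def _root_.Cfsg.Agent.LsF.fe5162c_66 : {f // @Cfsg.Agent.MO.WC.Gp.cjM = f} := ⟨_, by first | (delta Cfsg.Agent.MO.WC.Gp.cjM; rewrite [Cfsg.Agent.LsF.fe5162c_64.2, Cfsg.Agent.LsF.fe5162c_65.2, Cfsg.Agent.LsF.and_eq, Cfsg.Agent.LsF.map_eq]; exact rfl) | exact rfl⟩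
private noncomputable def _root_.Cfsg.Agent.LsF.fe5162c_67 : {f // @Cfsg.Agent.MO.WC.Gp.row1 = f} := ⟨_, by first | (delta Cfsg.Agent.MO.WC.Gp.row1; rewrite [Cfsg.Agent.LsF.fe5162c_2.2, Cfsg.Agent.LsF.fe5162c_66.2, Cfsg.Agent.LsF.fe5162c_65.2]; exact rfl) | exact rfl⟩
private noncomputable def _root_.Cfsg.Agent.LsF.fe5162c_68 : {f // @Cfsg.Agent.MO.WC.Gp.rowOK = f} := ⟨_, by first | (delta Cfsg.Agent.MO.WC.Gp.rowOK; rewrite [Cfsg.Agent.LsF.fe5162c_0.2, Cfsg.Agent.LsF.fe5162c_67.2, Cfsg.Agent.LsF.nadd_pat]; exact rfl) | exact rfl⟩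
private noncomputable def _root_.Cfsg.Agent.LsF.fe5162c_69 : {f // @Cfsg.Agent.MO.WC.Gp.full = f} := ⟨_, by first | (delta Cfsg.Agent.MO.WC.Gp.full; rewrite [Cfsg.Agent.LsF.fe5162c_36.2, Cfsg.Agent.LsF.fe5162c_38.2, Cfsg.Agent.LsF.fe5162c_42.2, Cfsg.Agent.LsF.fe5162c_55.2, Cfsg.Agent.LsF.fe5162c_59.2, Cfsg.Agent.LsF.fe5162c_0.2, Cfsg.Agent.LsF.fe5162c_63.2, Cfsg.Agent.LsF.fe5162c_68.2, Cfsg.Agent.LsF.and_eq, Cfsg.Agent.LsF.length_eq]; exact rfl) | exact rfl⟩
private noncomputable def _root_.Cfsg.Agent.LsF.fe5162c_70 : {f // @Cfsg.Agent.MO.WC.F6_D = f} := ⟨_, by first | (delta Cfsg.Agent.MO.WC.F6_D; rewrite [Cfsg.Agent.LsF.map_eq]; exact rfl) | exact rfl⟩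
private noncomputable def _root_.Cfsg.Agent.LsF.fe5162c_71 : {f // @Cfsg.Agent.MO.WC.q1 = f} := ⟨_, by first | (delta Cfsg.Agent.MO.WC.q1; rewrite [Cfsg.Agent.LsF.fe5162c_24.2, Cfsg.Agent.LsF.map_eq]; exact rfl) | exact rfl⟩
private noncomputable def _root_.Cfsg.Agent.LsF.fe5162c_72 : {f // @Cfsg.Agent.MO.WC.F6_T = f} := ⟨_, by first | (delta Cfsg.Agent.MO.WC.F6_T; rewrite [Cfsg.Agent.LsF.fe5162c_24.2, Cfsg.Agent.LsF.fe5162c_71.2, Cfsg.Agent.LsF.map_eq]; exact rfl) | exact rfl⟩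
theorem F6_good : F6_D.Good E6.toTy F6_T := Gp.good_of_full E6_good.ok ok12 (unz 2 0x28028000)
    [.unit 12 [(1, 0)], .unit 7 [(1, 0)], .prod 12 12 (unz 2 0xa0000a000000a), .unit 13 [(1, 0)], .unit 22 [(1, 0)],
    .prod 13 22 (unz 2 0xaaaaa0028000000), .unit 19 [(1, 0)], .unit 20 [(1, 0)], .unit 23 [(1, 0)], .unit 21 [(1, 0)],
    .prod 23 23 (unz 2 0x9ce739804e61b0aaaaaaaa), .unit 1 [(1, 0)], .unit 4 [(1, 0)], .unit 2 [(1, 0)], .unit 5 [(1,
    0)], .unit 6 [(1, 0)], .unit 3 [(1, 0)], .prod 12 23 (unz 2 0xa002aaa80000000), .unit 15 [(1, 0)], .unit 16 [(1,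
    0)], .unit 24 [(1, 0)], .unit 17 [(1, 0)], .unit 18 [(1, 0)], .prod 13 24 (unz 2 0x1b002aaa82a8aa0000), .unit 8 [(1,
    0)], .unit 9 [(1, 0)], .unit 11 [(1, 0)], .prod 2 13 (unz 2 0xa0000000), .unit 14 [(1, 0)], .prod 4 5 (unz 2
    0xa00000), .unit 10 [(1, 0)]]
  (by ((try (rewrite [Cfsg.Agent.LsF.fe5162c_69.2, Cfsg.Agent.LsF.fe5162c_70.2, Cfsg.Agent.LsF.fe5162c_28.2, Cfsg.Agent.LsF.fe5162c_72.2, Cfsg.Agent.LsF.fe5162c_24.2])); decide +kernel))

theorem cenK_E6_13 : CenK E6 13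
    [1, 1, 1, 1, 2, 2, 2, 2, 4, 4, 4, 4, 4, 6, 6, 8, 8, 8, 8, 9, 9, 9, 9, 12, 16] :=
  cenK_of F6_good E6_good 0x1012031203243120324315431203243154320 0x10203123432050d
    (by decide +kernel)

theorem cenK_E6_514320_0 : CenK E6_514320 0
    [1, 1, 1, 1, 2, 2, 2, 2, 4, 4, 4, 4, 4, 6, 6, 8, 8, 8, 8, 9, 9, 9, 9, 12, 16] :=
  cenK_of (F6_good.ty E6_514320_good.ok rfl rfl rfl rfl) E6_514320_good 0x1 0x100
    (by decide +kernel)

noncomputable def G25_T : Tb where
  f := F12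
  K := 24
  nu := 648
  n := (unz 4 0x8b0b858a4b21e43c964b21e43c844846c790fb1e43ec7c2e1706c2e162)
  XC := (List.map (qc 3) [0x6544a88510a2146419064190641906633198cc66331988c4623121212,
    0xc7a11ea6394b528e6665a98e52d4808e6665a994809912912, 0xc71eb425298e39d4a5a9994a638e40d4a5a9990990994c812,
    0x644890000000000000066000008c4623121212, 0xc7a11ea665a94a638e7528e75296809998e52994809912912,
    0xc71eb425a9998e52d4a39d4a3999025a94a6390990994c812, 0x9948000000000000012991204ca653200000121212,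
    0x26520244c84ca652024013213291291294c812, 0x909900000000000001225329132244a40000121212,
    0x24264244cca42426424013329094c812912912, 0x64480000000000000242424244848480000121212,
    0xccca40000000000000000000090990994c812, 0xcc84c80000000000000000000994809912912,
    0xc899099484ca652132024048994c812912912, 0xc8999484ca4242652004c848991291294c812,
    0xaf3cc00001a11ea3d686847a9948480ce6532901a1a1a121212, 0xcc579800011eb43423d47ad090994c8672121321a1a1a121212,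
    0x2652132901224489900265213294c812912912, 0x2426521321224489990121329091291294c812,
    0x6b1580000231188c46231189122466244891a1a1a121212,
    0x4ac6c6810a21442dc192e64b9705c192e675d62b033cebcebac08c4623121212,
    0xc71eb43528e6665a94a6396a66630252d4a3990990994c812, 0xc7a11ea39d4a5a9998e529996a5202638e752994809912912,
    0x468958d10a21442e4b9705c192e64b9705633af3ac6758ac67588c4623121212])
  rows := [(List.map (unp 5) [0x900b6460318a00c6802d8900c6204035b00b604031980b6c40318180c6029,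
    0x8a083d6480b181803d62400f5b03b6600f19003c6280f1a083c60a9a03b6049,
    0xc05364428079b0536282155980546620155a08546a01519080556c407190880566009,
    0x888006662c98063622019580064618988064622191880065602988636089,
    0x88800766462b1807362201d58007461c9880746221d1880075604988736c4051,
    0x8004462e9880446010d8800456210d888045610988800466069888446c4071,
    0x8884c6220023988a622419581006568819188636408d8226129984b606131,
    0x8426a10d818845681ed908446269818446214d887b6422155890546010d,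
    0xa063682cd890b46822d8008c6622d8888c621adb086c618988864640191,
    0x81262240017db285c6280f18885c641cdb85b6404d800746169985b604051,
    0x8890656821b19108656422195c006c60403186a60613188900666042135b100c601ad,
    0x90805566001158843640111b101c62200159981b6a040758883460c99833622151,
    0xb003c62e25188a095622e1758726060175a088956600f190005d680ed98074601cd,
    0x90a005e6040b181085d6024d8a02c6280f18805c6042017988803d62042017d82a6200175,
    0x887b6240d19888472215190885562200d5888103666201559088005764220159b88360422159,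
    0x9886c7422d8808c7001b181806d604221b9a06b6229888008e701ada086c6a01b1,
    0xa084c6c21b1886b62201358004c64213181804d6001b188806d6a0131884b6c2131,
    0x88b85d6282b198ab6ca17198894606171a0094601cd918ac6e16d8105c6004175,
    0x8033610990436400d18a09c6420d189a62098804462400d5883360420d5,
    0x8888c6622da88b642223588a6061319888c6060135888b7212d81084d606231,
    0x81824608990236608d810246808d890246c08d8810256480918a024646091,
    0xb0034606990034720cd810035680cd89003566000d588100366480718a0346289,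
    0x8b89462a99088096662025588b89568222559000956c2251b8936480b1a00946462b1,
    0x8a0b46482d1818b462042d5b0b3662cd810b46242d1a0b362c990b36c42d1])]
  lev := (List.map (qc 3) [0x39d633af51238fb8e26b5a8fbee16244f910085efbee27cb99320172f462de8c5])
  b := 18
  B := 1024

noncomputable def G25_D : Gp where
  Ls := [0x145, 0x120, 0x131234312, 0x10231203431, 0x13124543123, 0x1203120343120, 0x1023245431203, 0x1343123454312,
    0x120312454312032, 0x102343120345431, 0x12034312034543120, 0x132043123454312032431]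
  rw := (unp 7
    0x90190218901a2a189019218ae181190218901a2a189019218ae1809190218901a2a18901921ae180919021891a2a18901921aa6180901890192189019218d18989021891aa193991921890192a18b9809902192a1931919021902a18b19018901a18aa31809a18901922b1901890218aa980901892a1a9809a18901929891892a1a19890218aa198901a18a1809892a1a1902291812a11812291aa09a28981)
  rh := (unp 5
    0xd8837622119b09256c28047998936cc20558901c6cc20459a81b6242015998846242118801156662d801146420d90a62200459882622011888360098161)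
  cod := (unp 6
    0x104f8ecf92906f827c7482947d7c13e4541353ebfe414441353eba59f9f9f9f9fdf0d0cfd0cdd0ef8e767e768e8f7fe848a846c7f7423f3c3f4b42be1229f9ca2a15f24e90518f4f6f86867e748c877fa8c887a7a7b7483c41453c3fbfd46413d3d46ba1a19ca1a321df1110e9051112ff518f918f4f6e827c8a7c82837fc828682827d7413e4441413ebfe4142414141ba09f21a0a0a0df050505050506f)
  tw := (List.map (unp 7)
    [0x98922a1891a999021891a2a189019218d1901a18901a2a1890419a1891a2a189319018922a189019399018901a189031811a18901a2a18b99891a18921811922a18901b190098118901a18a9a289])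
  th := (List.map (unp 3) [0xa5ddd5bdc5adcd95b58d9d85])

private noncomputable def _root_.Cfsg.Agent.LsF.fe5162c_73 : {f // @Cfsg.Agent.MO.WC.G25_D = f} := ⟨_, by first | (delta Cfsg.Agent.MO.WC.G25_D; rewrite [Cfsg.Agent.LsF.map_eq]; exact rfl) | exact rfl⟩
private noncomputable def _root_.Cfsg.Agent.LsF.fe5162c_74 : {f // @Cfsg.Agent.MO.WC.q2 = f} := ⟨_, by first | (delta Cfsg.Agent.MO.WC.q2; rewrite [Cfsg.Agent.LsF.fe5162c_24.2]; (try delta List.casesOn); exact rfl) | exact rfl⟩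
private noncomputable def _root_.Cfsg.Agent.LsF.fe5162c_75 : {f // @Cfsg.Agent.MO.WC.qc = f} := ⟨_, by first | (delta Cfsg.Agent.MO.WC.qc; rewrite [Cfsg.Agent.LsF.fe5162c_74.2]; exact rfl) | exact rfl⟩
private noncomputable def _root_.Cfsg.Agent.LsF.fe5162c_76 : {f // @Cfsg.Agent.MO.WC.G25_T = f} := ⟨_, by first | (delta Cfsg.Agent.MO.WC.G25_T; rewrite [Cfsg.Agent.LsF.fe5162c_24.2, Cfsg.Agent.LsF.fe5162c_75.2, Cfsg.Agent.LsF.map_eq]; exact rfl) | exact rfl⟩
theorem G25_good : G25_D.Good E6.toTy G25_T := Gp.good_of_full E6_good.ok ok12 (unz 2 0x2a800000)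
    [.unit 11 [(1, 0)], .unit 12 [(1, 0)], .prod 11 11 (unz 2 0xa0000a0000), .unit 8 [(1, 0)], .unit 17 [(1, 0)], .prod
    8 17 (unz 2 0xa000a0000a000), .unit 6 [(1, 0)], .unit 15 [(1, 0)], .unit 22 [(1, 0)], .prod 8 22 (unz 2
    0xaaa0000280000), .unit 19 [(1, 0)], .unit 20 [(1, 0)], .unit 9 [(1, 0)], .unit 21 [(1, 0)], .prod 8 19 (unz 2
    0xa000a0a0028000), .unit 7 [(1, 0)], .unit 13 [(1, 0)], .unit 23 [(1, 0)], .unit 16 [(1, 0)], .prod 6 19 (unz 2
    0x280a0280a00000), .unit 14 [(1, 0)], .unit 10 [(1, 0)], .unit 18 [(1, 0)], .prod 13 22 (unz 2 0x4e730000002aa80),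
    .unit 3 [(1, 0)], .unit 4 [(1, 0)], .unit 5 [(1, 0)], .prod 9 9 (unz 2 0x13000aaa), .unit 1 [(1, 0)], .unit 2 [(1,
    0)]]
  (by ((try (rewrite [Cfsg.Agent.LsF.fe5162c_69.2, Cfsg.Agent.LsF.fe5162c_73.2, Cfsg.Agent.LsF.fe5162c_28.2, Cfsg.Agent.LsF.fe5162c_76.2, Cfsg.Agent.LsF.fe5162c_24.2])); decide +kernel))

theorem cenK_E6_24 : CenK E6 24
    [1, 1, 1, 2, 2, 2, 3, 3, 3, 3, 3, 3, 3, 6, 6, 6, 6, 6, 6, 8, 8, 8, 9, 9] :=
  cenK_of G25_good E6_good 0x1203204312034543120324315 0x118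
    (by decide +kernel)

theorem cenK_E6_514320_19 : CenK E6_514320 19
    [1, 1, 1, 2, 2, 2, 3, 3, 3, 3, 3, 3, 3, 6, 6, 6, 6, 6, 6, 8, 8, 8, 9, 9] :=
  cenK_of (G25_good.ty E6_514320_good.ok rfl rfl rfl rfl) E6_514320_good 0x1013204325432 0x1134513
    (by decide +kernel)

noncomputable def G8e_T : Tb where
  f := F12
  K := 16
  nu := 96
  n := (unz 3 0x250b9324a59217262e2c2c2e4c92)
  XC := (List.map (qd 3) [0xc41106633198cc46231188c462312121212, 0x3290902652990004a6664240912,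
    0x3291202665290004cca64480912, 0x24240000004848121322404891212, 0x24480000004890121321204891212,
    0x332120480000000024480912, 0x332240480000000024240912, 0x64484848000d08c0004891212,
    0x32240000004848489121212121212, 0xc891224000462300012121212, 0x883b033158ac67a1181a11c63404891212,
    0xec44033158ac6718d01a11e84604891212, 0x3290902666520013294a4240912, 0x329120265332001294ca4480912,
    0xc848000000489122448912121212, 0x3d8ec6633198cc686846231a1a12121212])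
  rows := [(List.map (unp 5) [0x880b602031a00b622031900b6029, 0x901b6069801b61698001c640ed, 0x8426010d8004462213198436009,
    0x8802c620ad806b61a9a06b60a9, 0x8126204d882b6200b182a602051, 0x8884c600111904b641cd880746610d,
    0x903b608983a6069801b6008d, 0x82a602051982b620ad806b6020b1, 0x8833660cd8880c62200d5880b602031,
    0x90336200d1832602980336818d, 0xa0136404d8813604980814622051, 0x86a601ad8006c621ada86b681ad,
    0x852624091a83b6408d8226208d, 0xa04b61c987a661cd91074641cd, 0x90034640cda063600cd800646a18d,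
    0x800646a18d8626818d80636218d])]
  lev := (List.map (qd 3) [0xc718d01acf3af3000cebaebc82e017064])
  b := 4
  B := 128

noncomputable def G8e_D : Gp where
  Ls := [0x132431, 0x10204543, 0x1123431205, 0x1203204320543123, 0x1231431203245431, 0x1204312345431203]
  rw := (unp 8
    0x80901890192189019218aa189019218aa19048c08c810c48d150c480c90c55186040862468a8624064862aab01320431234543120324555901a18901922a18901a4c04c480d0d50c480c9126062406864a862406489312320432054331811922a19014c0c48d50c89646862406a4b0132541990218a8cc4c90c56648622b01)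
  rh := (unp 5 0xa900c62241189036400235a82644002398891460003188a64440158083600022398826000d8161)
  cod := (unp 6
    0x7e7e7e7e7e7f77c827282947d77e729272827f77e8682866a7f7453845384545bfb483b483b3bbbc483548453cba11fa39f9b215fe211fa1239e5de239da3a09e5d18f104f1151aff9110510f0fae86788c7882877c34142413b43be2209e20a2a25f050505050506f)
  tw := (List.map (unp 6) [0x224686240b2c081150dd9019021902a1891fb204312345431203f646286240648a863ecc90c55])
  th := (List.map (unp 3) [0x958d9dada585])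

private noncomputable def _root_.Cfsg.Agent.LsF.fe5162c_77 : {f // @Cfsg.Agent.MO.WC.G8e_D = f} := ⟨_, by first | (delta Cfsg.Agent.MO.WC.G8e_D; rewrite [Cfsg.Agent.LsF.map_eq]; exact rfl) | exact rfl⟩
private noncomputable def _root_.Cfsg.Agent.LsF.fe5162c_78 : {f // @Cfsg.Agent.MO.WC.qd = f} := ⟨_, by first | (delta Cfsg.Agent.MO.WC.qd; rewrite [Cfsg.Agent.LsF.fe5162c_74.2]; exact rfl) | exact rfl⟩
private noncomputable def _root_.Cfsg.Agent.LsF.fe5162c_79 : {f // @Cfsg.Agent.MO.WC.G8e_T = f} := ⟨_, by first | (delta Cfsg.Agent.MO.WC.G8e_T; rewrite [Cfsg.Agent.LsF.fe5162c_24.2, Cfsg.Agent.LsF.fe5162c_78.2, Cfsg.Agent.LsF.map_eq]; exact rfl) | exact rfl⟩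
theorem G8e_good : G8e_D.Good E6.toTy G8e_T := Gp.good_of_full E6_good.ok ok12 (unz 2 0x2a8a000)
    [.unit 6 [(1, 0)], .unit 8 [(1, 0)], .unit 9 [(1, 0)], .prod 8 8 (unz 2 0xa0000a0), .unit 2 [(1, 0)], .unit 11 [(1,
    0)], .prod 11 11 (unz 2 0xa0a028028), .unit 1 [(1, 0)], .unit 10 [(1, 0)], .unit 13 [(1, 0)], .prod 10 11 (unz 2
    0x2a80a0280), .unit 7 [(1, 0)], .unit 12 [(1, 0)], .unit 3 [(1, 0)], .prod 8 10 (unz 2 0xa00002800), .unit 5 [(1,
    0)], .unit 15 [(1, 0)], .prod 5 12 (unz 2 0x280000a00), .unit 4 [(1, 0)], .unit 14 [(1, 0)]]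
  (by ((try (rewrite [Cfsg.Agent.LsF.fe5162c_69.2, Cfsg.Agent.LsF.fe5162c_77.2, Cfsg.Agent.LsF.fe5162c_28.2, Cfsg.Agent.LsF.fe5162c_79.2, Cfsg.Agent.LsF.fe5162c_24.2])); decide +kernel))

theorem cenK_E6_9 : CenK E6 9
    [1, 1, 1, 1, 2, 2, 2, 2, 2, 2, 3, 3, 3, 3, 4, 4] :=
  cenK_of G8e_good E6_good 0x1013120343543120324 0x1023143120324509
    (by decide +kernel)

theorem cenK_E6_514320_23 : CenK E6_514320 23
    [1, 1, 1, 1, 2, 2, 2, 2, 2, 2, 3, 3, 3, 3, 4, 4] :=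
  cenK_of (G8e_good.ty E6_514320_good.ok rfl rfl rfl rfl) E6_514320_good 0x1203431203245431203 0x1123517
    (by decide +kernel)

noncomputable def G5e_T : Tb where
  f := F12
  K := 21
  nu := 72
  n := (unz 3 0x4a512244892c912592244892c912244892)
  XC := (List.map (qc 2) [0x1d9b364c993264c993264ca28a28a28a28a, 0xb56ad514505294a2a94a55ab54a,
    0xa28a2d5ab45294a2aad5ab4a50a, 0xa52956ad528a28a2aad5ab4a50a, 0xab56ad29428a28a2a94a55ab54a,
    0xd294000000000a28a28a28a28a, 0xecd9b38e38e38e38e38a28a28a28a28a, 0xb5416d505b5416954aa552a954a,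
    0xa2d168b45a2d16ad0aab42aad0a, 0xa1554aab4ab42a956954aaa550a, 0xb5414000000002956a954a5528a,
    0xddee1b3ba73261dd3e9cc3a956a954a5528a, 0xaa550aa55a552aad2ad0aa1554a, 0xa2d14000000002ad28555ab428a,
    0xb9bb9b3a674fa674c99d33aad28555ab428a, 0xab42aad0aab42a954aa552a954a, 0xa552a954aa552aad0aab42aad0a,
    0xa0b68b6a8b5416956954aaa550a, 0xb45a0b45aa2d16ad2ad0aa1554a, 0xddee1b273ee38273e9f704e956a954a5528a,
    0xb9bb9b27c4fa7c4f8e27c4ead28555ab428a])
  rows := [(List.map (unp 5) [0x2169, 0x21e9, 0x2612d, 0x2022d, 0x20e9, 0x240151, 0x2269, 0x2218d, 0x2069, 0x2010d, 0x2201b1,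
    0x2289, 0x2202d, 0x2200b1, 0x2009, 0x2424d, 0x2204d, 0x2020d, 0x2408d, 0x21c9, 0x20c9]), (List.map (unp 5)
    [0x900b6202d980b6029, 0x801b6406d81a6049, 0x802b6000b182a6009, 0x83260a98802c600ad, 0x81a604988136604d,
    0x88236602d80236402d, 0x8226008d90236208d, 0x808b6612d84a6012d, 0x8a2641ad86a6201b1, 0x9005461698526014d,
    0x987b61e983a600ed, 0x907b621ed987b61e9, 0x9043620988436109, 0x98936218d98636249, 0x8863618980636618d,
    0x988b6229808b6612d, 0x906b61c98006c61a9, 0x8853614989a640151, 0x98836220d90436209, 0x83a600ed903b620ed,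
    0x80936624d8926424d])]
  lev := (List.map (qc 3) [0x94c812133290901332994809912994894891291212, 0xd47a8f51c6231181a1a1a11044ec763b113b89dc4ec44])
  b := 6
  B := 128

noncomputable def G5e_D : Gp where
  Ls := [0x11343, 0x11231, 0x12432, 0x112343123, 0x101203143120354312345]
  rw := (unp 7
    0x891a1891aa189019218aa1906181189019218901922a1891a2e189921891aa189019218aa1906181018901a18901922a1891a2e19921892a189019218aa1905980918a18901921aa1891a2d998922a189019218aa190518918aa189019218aa190519a18aa189019218aa19051809018a18901aa1891a2d180918901a1902a1891a2d180901891a1902a1891a2d1aa189019218aa190418118a1902a1891a2c1891891a1891a31918a18999892118921919a189189a19181)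
  rh := (unp 5 0x2889a09046882da103688031a026882415a2100568822019a1684411a113688671a110056240d880364401188260098161)
  cod := (unp 6
    0x3a3d443d3d46ba2a11da1211cdfd1f20a11e225d1504f8f50ceefe4fcf5051512e8c7686827e6f7ec867886868576a86847a7e897707c7e8884837433e453e3e37be0a21fa11f1b5f050d08f4fce2fd50505050506e82828282826b7c73f3f3f3f47be21fa19da0a35f090cf10d0d0af867c8a7c7c877c43e3f444241be19fa1219ea0df050505050506f)
  tw := (List.map (unp 7) [0x809018a18901aa1891a2d1, 0x891a1891a192191189189189a191])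
  th := (List.map (unp 3) [0xa5, 0x9d958d85])

private noncomputable def _root_.Cfsg.Agent.LsF.fe5162c_80 : {f // @Cfsg.Agent.MO.WC.G5e_D = f} := ⟨_, by first | (delta Cfsg.Agent.MO.WC.G5e_D; rewrite [Cfsg.Agent.LsF.map_eq]; exact rfl) | exact rfl⟩
private noncomputable def _root_.Cfsg.Agent.LsF.fe5162c_81 : {f // @Cfsg.Agent.MO.WC.G5e_T = f} := ⟨_, by first | (delta Cfsg.Agent.MO.WC.G5e_T; rewrite [Cfsg.Agent.LsF.fe5162c_24.2, Cfsg.Agent.LsF.fe5162c_75.2, Cfsg.Agent.LsF.map_eq]; exact rfl) | exact rfl⟩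
theorem G5e_good : G5e_D.Good E6.toTy G5e_T := Gp.good_of_full E6_good.ok ok12 (unz 2 0x28a002a8000)
    [.unit 7 [(1, 0)], .unit 8 [(1, 0)], .unit 14 [(1, 0)], .unit 16 [(1, 0)], .prod 14 14 (unz 2 0x2800000000a0), .unit
    2 [(1, 0)], .unit 20 [(1, 0)], .prod 14 20 (unz 2 0x280a0280000), .unit 9 [(1, 0)], .unit 13 [(1, 0)], .unit 17 [(1,
    0)], .prod 9 13 (unz 2 0x28000002800), .unit 5 [(1, 0)], .unit 18 [(1, 0)], .prod 9 14 (unz 2 0xa0000000a00), .unit
    4 [(1, 0)], .unit 19 [(1, 0)], .prod 9 19 (unz 2 0x2a80a00000), .unit 10 [(1, 0)], .unit 15 [(1, 0)], .prod 9 20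
    (unz 2 0xa02a800000), .unit 11 [(1, 0)], .unit 12 [(1, 0)], .prod 2 7 (unz 2 0x280), .unit 3 [(1, 0)], .prod 2 8
    (unz 2 0x28), .unit 1 [(1, 0)], .prod 1 2 (unz 2 0xa000), .unit 6 [(1, 0)]]
  (by ((try (rewrite [Cfsg.Agent.LsF.fe5162c_69.2, Cfsg.Agent.LsF.fe5162c_80.2, Cfsg.Agent.LsF.fe5162c_28.2, Cfsg.Agent.LsF.fe5162c_81.2, Cfsg.Agent.LsF.fe5162c_24.2])); decide +kernel))

theorem cenK_E6_22 : CenK E6 22
    [1, 1, 1, 1, 1, 1, 1, 1, 1, 2, 2, 2, 2, 2, 2, 2, 2, 2, 3, 3, 3] :=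
  cenK_of G5e_good E6_good 0x131245431203243154320 0x102343125431203416
    (by decide +kernel)

theorem cenK_E6_514320_21 : CenK E6_514320 21
    [1, 1, 1, 1, 1, 1, 1, 1, 1, 2, 2, 2, 2, 2, 2, 2, 2, 2, 3, 3, 3] :=
  cenK_of (G5e_good.ty E6_514320_good.ok rfl rfl rfl rfl) E6_514320_good 0x10120312431203243 0x10231415
    (by decide +kernel)

theorem cenK_E6_15 : CenK E6 15 (List.replicate 8 1) := cenK_cyc E6_good 0x102314 (by decide +kernel)

theorem cenK_E6_21 : CenK E6 21 (List.replicate 9 1) := cenK_cyc E6_good 0x102314315 (by decide +kernel)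

theorem cenK_E6_20 : CenK E6 20 (List.replicate 12 1) := cenK_cyc E6_good 0x1023145 (by decide +kernel)

theorem cenK_E6_514320_12 : CenK E6_514320 12 (List.replicate 8 1) := cenK_cyc E6_514320_good 0x1023123431205431203243154320 (by decide +kernel)

theorem cenK_E6_514320_17 : CenK E6_514320 17 (List.replicate 12 1) := cenK_cyc E6_514320_good 0x10312043205 (by decide +kernel)

theorem cenK_E6_514320_16 : CenK E6_514320 16 (List.replicate 9 1) := cenK_cyc E6_514320_good 0x102315431 (by decide +kernel)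

end Cfsg.Agent.MO.WC
end

-- part: MO/WC/D8b
section
/-! MO/WC: generated data (helper27; tools/P3/h27/gen.py) -/

set_option autoImplicit false
set_option maxRecDepth 100000

namespace Cfsg.Agent.MO.WC

open Cfsg.Agent.LV.W Cfsg.Agent.MO.WT

namespace G31

noncomputable section

def a0 : Q := ⟨0, 0, 0, 0⟩
def b0 : Q := ⟨1, 0, 0, 0⟩
def c0 : Q := ⟨-1, 0, 0, 0⟩
def d0 : Q := ⟨2, 0, 0, 0⟩
def e0 : Q := ⟨-2, 0, 0, 0⟩
def f0 : Q := ⟨-3, 0, 0, 0⟩
def g0 : Q := ⟨3, 0, 0, 0⟩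
def h0 : Q := ⟨0, 0, 0, 1⟩
def i0 : Q := ⟨0, 0, 0, -1⟩
def j0 : Q := ⟨0, 0, 0, 2⟩
def k0 : Q := ⟨0, 0, 0, -2⟩
def l0 : Q := ⟨-1, 0, 0, 1⟩
def m0 : Q := ⟨-1, 0, 0, -1⟩
def n0 : Q := ⟨1, 0, 0, 1⟩
def o0 : Q := ⟨1, 0, 0, -1⟩
def p0 : Q := ⟨0, 0, 0, -4⟩
def q0 : Q := ⟨0, 0, 0, 4⟩
def r0 : Q := ⟨4, 0, 0, 0⟩
def s0 : Q := ⟨-4, 0, 0, 0⟩
def t0 : Q := ⟨5, 0, 0, 0⟩
def u0 : Q := ⟨10, 0, 0, 0⟩
def v0 : Q := ⟨6, 0, 0, 0⟩
def w0 : Q := ⟨-6, 0, 0, 0⟩
def x0 : Q := ⟨9, 0, 0, 0⟩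
def y0 : Q := ⟨15, 0, 0, 0⟩
def z0 : Q := ⟨45, 0, 0, 0⟩
def a1 : Q := ⟨30, 0, 0, 0⟩
def b1 : Q := ⟨40, 0, 0, 0⟩
def c1 : Q := ⟨-10, 0, 0, 0⟩
def d1 : Q := ⟨-40, 0, 0, 0⟩
def e1 : Q := ⟨20, 0, 0, 0⟩
def f1 : Q := ⟨-8, 0, 0, 0⟩
def g1 : Q := ⟨8, 0, 0, 0⟩
def h1 : Q := ⟨-20, 0, 0, 0⟩
def i1 : Q := ⟨0, 0, 0, 6⟩
def j1 : Q := ⟨0, 0, 0, -6⟩
def k1 : Q := ⟨0, 0, 0, 20⟩
def l1 : Q := ⟨0, 0, 0, -20⟩
def m1 : Q := ⟨-2, 0, 0, -2⟩
def n1 : Q := ⟨-2, 0, 0, 2⟩
def o1 : Q := ⟨2, 0, 0, -2⟩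
def p1 : Q := ⟨2, 0, 0, 2⟩
def q1 : Q := ⟨6, 0, 0, -6⟩
def r1 : Q := ⟨6, 0, 0, 6⟩
def s1 : Q := ⟨-6, 0, 0, -6⟩
def t1 : Q := ⟨-6, 0, 0, 6⟩
def u1 : Q := ⟨0, 0, 0, -8⟩
def v1 : Q := ⟨0, 0, 0, 8⟩
def w1 : Q := ⟨16, 0, 0, 0⟩
def x1 : Q := ⟨36, 0, 0, 0⟩
def y1 : Q := ⟨-36, 0, 0, 0⟩
def z1 : Q := ⟨-5, 0, 0, 0⟩
def a2 : Q := ⟨-30, 0, 0, 0⟩
def b2 : Q := ⟨24, 0, 0, 0⟩
def c2 : Q := ⟨-7, 0, 0, 0⟩
def d2 : Q := ⟨7, 0, 0, 0⟩
def e2 : Q := ⟨4, 0, 0, -4⟩
def f2 : Q := ⟨4, 0, 0, 4⟩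
def g2 : Q := ⟨-4, 0, 0, -4⟩
def h2 : Q := ⟨-4, 0, 0, 4⟩
def i2 : Q := ⟨-9, 0, 0, 0⟩
def j2 : Q := ⟨-24, 0, 0, 0⟩
def k2 : Q := ⟨0, 0, 0, -36⟩
def l2 : Q := ⟨0, 0, 0, 36⟩
def m2 : Q := ⟨0, 0, 0, 40⟩
def n2 : Q := ⟨0, 0, 0, -40⟩
def o2 : Q := ⟨64, 0, 0, 0⟩
def p2 : Q := ⟨0, 0, 0, 64⟩
def q2 : Q := ⟨0, 0, 0, -64⟩
def r2 : Q := ⟨-64, 0, 0, 0⟩
def s2 : Q := ⟨0, 0, 0, -12⟩
def t2 : Q := ⟨0, 0, 0, 12⟩
def u2 : Q := ⟨3, 0, 0, -3⟩
def v2 : Q := ⟨3, 0, 0, 3⟩
def w2 : Q := ⟨-3, 0, 0, -3⟩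
def x2 : Q := ⟨-3, 0, 0, 3⟩
def y2 : Q := ⟨-12, 0, 0, 0⟩
def z2 : Q := ⟨12, 0, 0, 0⟩
def a3 : Q := ⟨-15, 0, 0, -15⟩
def b3 : Q := ⟨-15, 0, 0, 15⟩
def c3 : Q := ⟨15, 0, 0, -15⟩
def d3 : Q := ⟨15, 0, 0, 15⟩
def e3 : Q := ⟨18, 0, 0, 0⟩
def f3 : Q := ⟨-18, 0, 0, 0⟩
def g3 : Q := ⟨-14, 0, 0, 0⟩
def h3 : Q := ⟨14, 0, 0, 0⟩
def i3 : Q := ⟨9, 0, 0, -9⟩
def j3 : Q := ⟨9, 0, 0, 9⟩
def k3 : Q := ⟨-9, 0, 0, -9⟩
def l3 : Q := ⟨-9, 0, 0, 9⟩
def m3 : Q := ⟨0, 0, 0, -10⟩
def n3 : Q := ⟨0, 0, 0, 10⟩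
def o3 : Q := ⟨-5, 0, 0, -5⟩
def p3 : Q := ⟨-5, 0, 0, 5⟩
def q3 : Q := ⟨5, 0, 0, -5⟩
def r3 : Q := ⟨5, 0, 0, 5⟩

def c_0 : List Q := [b0, b0, r0, r0, r0, r0, t0, t0, t0, t0, v0, v0, x0, x0, u0, u0, u0, u0, u0, u0, y0, y0, y0, y0, w1, e1, e1, e1, e1,
    e1, e1, e1, e1, e1, b2, b2, a1, a1, a1, a1, x1, x1, x1, x1, x1, b1, b1, b1, b1, b1, b1, b1, b1, z0, z0, z0, z0, o2,
    o2]
def c_1 : List Q := [b0, c0, e0, e0, d0, d0, f0, c0, b0, g0, a0, a0, f0, g0, s0, s0, e0, d0, r0, r0, f0, f0, g0, g0, a0, w0, w0, e0, e0,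
    a0, d0, d0, v0, v0, a0, a0, w0, a0, a0, v0, w0, w0, a0, v0, v0, f1, s0, s0, a0, a0, r0, r0, g1, f0, f0, g0, g0]
def c_2 : List Q := [b0, b0, d0, d0, d0, d0, b0, b0, b0, b0, d0, d0, b0, b0, d0, d0, e0, e0, d0, d0, c0, g0, c0, g0, a0, d0, d0, d0, d0,
    s0, d0, d0, d0, d0, a0, a0, d0, d0, d0, d0, d0, d0, s0, d0, d0, a0, s0, s0, a0, a0, s0, s0, a0, f0, b0, f0, b0]
def c_3 : List Q := [b0, c0, m1, n1, o1, p1, b0, g0, f0, c0, p0, q0, f0, g0, p0, q0, d0, e0, p0, q0, t0, c2, z1, d2, a0, o1, p1, q1, r1,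
    a0, s1, t1, m1, n1, u1, v1, e0, p0, q0, d0, s1, t1, a0, q1, r1, a0, e2, f2, u1, v1, g2, h2, a0, f0, x0, g0, i2]
def c_4 : List Q := [b0, c0, n1, m1, p1, o1, b0, g0, f0, c0, q0, p0, f0, g0, q0, p0, d0, e0, q0, p0, t0, c2, z1, d2, a0, p1, o1, r1, q1,
    a0, t1, s1, n1, m1, v1, u1, e0, q0, p0, d0, t1, s1, a0, r1, q1, a0, f2, e2, v1, u1, h2, g2, a0, f0, x0, g0, i2]
def c_5 : List Q := [b0, b0, a0, a0, a0, a0, b0, b0, b0, b0, e0, e0, b0, b0, d0, d0, e0, e0, d0, d0, g0, c0, g0, c0, a0, a0, a0, a0, a0,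
    s0, a0, a0, a0, a0, a0, a0, d0, e0, e0, d0, a0, a0, r0, a0, a0, a0, a0, a0, a0, a0, a0, a0, a0, b0, f0, b0, f0]
def c_6 : List Q := [b0, b0, a0, a0, a0, a0, t0, t0, t0, t0, e0, e0, x0, x0, d0, d0, u0, u0, d0, d0, c0, c0, c0, c0, w1, a0, a0, a0, a0,
    r0, a0, a0, a0, a0, f1, f1, e0, c1, c1, e0, a0, a0, y2, a0, a0, g1, a0, a0, g1, g1, a0, a0, g1, f0, f0, f0, f0]
def c_7 : List Q := [b0, b0, b0, b0, b0, b0, d0, c0, c0, d0, a0, a0, a0, a0, b0, b0, b0, b0, b0, b0, a0, a0, a0, a0, e0, d0, d0, c0, c0,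
    d0, c0, c0, d0, d0, a0, a0, a0, a0, a0, a0, a0, a0, a0, a0, a0, b0, b0, b0, e0, e0, b0, b0, b0, a0, a0, a0, a0, e0,
    e0]
def c_8 : List Q := [b0, c0, c0, c0, b0, b0, a0, c0, b0, a0, a0, a0, a0, a0, c0, c0, b0, c0, b0, b0, a0, a0, a0, a0, a0, a0, a0, c0, c0,
    a0, b0, b0, a0, a0, a0, a0, a0, a0, a0, a0, a0, a0, a0, a0, a0, b0, b0, b0, a0, a0, c0, c0, c0]
def c_9 : List Q := [b0, c0, l0, m0, n0, o0, c0, b0, c0, b0, j0, k0, b0, c0, a0, a0, a0, a0, a0, a0, b0, c0, c0, b0, a0, m0, l0, n0, o0,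
    a0, l0, m0, o0, n0, a0, a0, a0, k0, j0, a0, o0, n0, a0, m0, l0, a0, a0, a0, a0, a0, a0, a0, a0, b0, c0, c0, b0]
def c_10 : List Q := [b0, b0, n0, o0, o0, n0, c0, c0, c0, c0, a0, a0, b0, b0, j0, k0, a0, a0, k0, j0, c0, b0, c0, b0, a0, l0, m0, l0, m0,
    a0, m0, l0, m0, l0, a0, a0, a0, a0, a0, a0, n0, o0, a0, o0, n0, a0, a0, a0, a0, a0, a0, a0, a0, b0, c0, b0, c0]
def c_11 : List Q := [b0, b0, o0, n0, n0, o0, c0, c0, c0, c0, a0, a0, b0, b0, k0, j0, a0, a0, j0, k0, c0, b0, c0, b0, a0, m0, l0, m0, l0,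
    a0, l0, m0, l0, m0, a0, a0, a0, a0, a0, a0, o0, n0, a0, n0, o0, a0, a0, a0, a0, a0, a0, a0, a0, b0, c0, b0, c0]
def c_12 : List Q := [b0, c0, m0, l0, o0, n0, c0, b0, c0, b0, k0, j0, b0, c0, a0, a0, a0, a0, a0, a0, b0, c0, c0, b0, a0, l0, m0, o0, n0,
    a0, m0, l0, n0, o0, a0, a0, a0, j0, k0, a0, n0, o0, a0, l0, m0, a0, a0, a0, a0, a0, a0, a0, a0, b0, c0, c0, b0]
def c_13 : List Q := [b0, c0, a0, a0, a0, a0, b0, g0, f0, c0, a0, a0, f0, g0, a0, a0, d0, e0, a0, a0, f0, b0, g0, c0, a0, a0, a0, a0, a0,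
    a0, a0, a0, a0, a0, a0, a0, e0, a0, a0, d0, a0, a0, a0, a0, a0, a0, a0, a0, a0, a0, a0, a0, a0, t0, b0, z1, c0]
def c_14 : List Q := [b0, b0, k0, j0, j0, k0, b0, b0, b0, b0, e0, e0, b0, b0, e0, e0, e0, e0, e0, e0, c0, g0, c0, g0, a0, j0, k0, j0, k0,
    r0, k0, j0, k0, j0, a0, a0, d0, e0, e0, d0, k0, j0, r0, j0, k0, a0, p0, q0, a0, a0, q0, p0, a0, f0, b0, f0, b0]
def c_15 : List Q := [b0, b0, j0, k0, k0, j0, b0, b0, b0, b0, e0, e0, b0, b0, e0, e0, e0, e0, e0, e0, c0, g0, c0, g0, a0, k0, j0, k0, j0,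
    r0, j0, k0, j0, k0, a0, a0, d0, e0, e0, d0, j0, k0, r0, k0, j0, a0, q0, p0, a0, a0, p0, q0, a0, f0, b0, f0, b0]
def c_16 : List Q := [b0, b0, a0, a0, a0, a0, c0, d0, d0, c0, c0, c0, a0, a0, b0, b0, b0, b0, b0, b0, c0, c0, c0, c0, e0, a0, a0, a0, a0,
    d0, a0, a0, a0, a0, c0, c0, b0, b0, b0, b0, a0, a0, a0, a0, a0, e0, a0, a0, b0, b0, a0, a0, e0]
def c_17 : List Q := [b0, c0, a0, a0, a0, a0, f0, c0, b0, g0, a0, a0, f0, g0, a0, a0, e0, d0, a0, a0, b0, b0, c0, c0, a0, a0, a0, a0, a0,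
    a0, a0, a0, a0, a0, a0, a0, d0, a0, a0, e0, a0, a0, a0, a0, a0, a0, a0, a0, a0, a0, a0, a0, a0, b0, b0, c0, c0]
def c_18 : List Q := [b0, c0, l0, m0, n0, o0, b0, a0, a0, c0, h0, i0, a0, a0, h0, i0, c0, b0, h0, i0, c0, c0, b0, b0, a0, n0, o0, a0, a0,
    a0, a0, a0, l0, m0, i0, h0, b0, h0, i0, c0, a0, a0, a0, a0, a0, a0, m0, l0, i0, h0, o0, n0]
def c_19 : List Q := [b0, c0, a0, a0, a0, a0, b0, a0, a0, c0, i0, h0, a0, a0, h0, i0, c0, b0, h0, i0, b0, b0, c0, c0, a0, a0, a0, a0, a0,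
    a0, a0, a0, a0, a0, h0, i0, c0, i0, h0, b0, a0, a0, a0, a0, a0, a0, a0, a0, i0, h0]
def c_20 : List Q := [b0, b0, k0, j0, j0, k0, c0, d0, d0, c0, f0, f0, a0, a0, c0, c0, b0, b0, c0, c0, g0, g0, g0, g0, e0, k0, j0, q0, p0,
    e0, p0, q0, j0, k0, f0, f0, f0, g0, g0, f0, a0, a0, a0, a0, a0, d0, j0, k0, c0, c0, k0, j0, d0, a0, a0, a0, a0, p0,
    q0]
def c_21 : List Q := [b0, c0, m0, l0, o0, n0, b0, a0, a0, c0, i0, h0, a0, a0, i0, h0, c0, b0, i0, h0, c0, c0, b0, b0, a0, o0, n0, a0, a0,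
    a0, a0, a0, m0, l0, h0, i0, b0, i0, h0, c0, a0, a0, a0, a0, a0, a0, l0, m0, h0, i0, n0, o0]
def c_22 : List Q := [b0, b0, j0, k0, k0, j0, c0, d0, d0, c0, f0, f0, a0, a0, c0, c0, b0, b0, c0, c0, g0, g0, g0, g0, e0, j0, k0, p0, q0,
    e0, q0, p0, k0, j0, f0, f0, f0, g0, g0, f0, a0, a0, a0, a0, a0, d0, k0, j0, c0, c0, j0, k0, d0, a0, a0, a0, a0, q0,
    p0]
def c_23 : List Q := [b0, c0, a0, a0, a0, a0, b0, a0, a0, c0, h0, i0, a0, a0, i0, h0, c0, b0, i0, h0, b0, b0, c0, c0, a0, a0, a0, a0, a0,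
    a0, a0, a0, a0, a0, i0, h0, c0, h0, i0, b0, a0, a0, a0, a0, a0, a0, a0, a0, h0, i0]
def c_24 : List Q := [b0, b0, i0, h0, h0, i0, a0, a0, a0, a0, c0, c0, c0, c0, a0, a0, a0, a0, a0, a0, a0, a0, a0, a0, b0, a0, a0, a0, a0,
    a0, a0, a0, a0, a0, b0, b0, a0, a0, a0, a0, h0, i0, c0, i0, h0, a0, a0, a0, a0, a0, a0, a0, a0, a0, a0, a0, a0, h0,
    i0]
def c_25 : List Q := [b0, b0, h0, i0, i0, h0, a0, a0, a0, a0, c0, c0, c0, c0, a0, a0, a0, a0, a0, a0, a0, a0, a0, a0, b0, a0, a0, a0, a0,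
    a0, a0, a0, a0, a0, b0, b0, a0, a0, a0, a0, i0, h0, c0, h0, i0, a0, a0, a0, a0, a0, a0, a0, a0, a0, a0, a0, a0, i0,
    h0]
def c_26 : List Q := [b0, c0, a0, a0, a0, a0, c0, b0, c0, b0, a0, a0, b0, c0, a0, a0, a0, a0, a0, a0, c0, b0, b0, c0, a0, a0, a0, a0, a0,
    a0, a0, a0, a0, a0, a0, a0, a0, a0, a0, a0, a0, a0, a0, a0, a0, a0, a0, a0, a0, a0, a0, a0, a0, c0, b0, b0, c0]
def c_27 : List Q := [b0, b0, b0, b0, b0, b0, a0, a0, a0, a0, b0, b0, c0, c0, a0, a0, a0, a0, a0, a0, a0, a0, a0, a0, b0, a0, a0, a0, a0,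
    a0, a0, a0, a0, a0, c0, c0, a0, a0, a0, a0, c0, c0, b0, c0, c0, a0, a0, a0, a0, a0, a0, a0, a0, a0, a0, a0, a0, b0,
    b0]
def c_28 : List Q := [b0, c0, h0, i0, h0, i0, a0, c0, b0, a0, a0, a0, a0, a0, b0, b0, b0, c0, c0, c0, a0, a0, a0, a0, a0, a0, a0, i0, h0,
    a0, i0, h0, a0, a0, a0, a0, a0, a0, a0, a0, a0, a0, a0, a0, a0, c0, h0, i0, a0, a0, h0, i0, b0]
def c_29 : List Q := [b0, c0, b0, b0, c0, c0, a0, c0, b0, a0, a0, a0, a0, a0, c0, c0, b0, c0, b0, b0, a0, a0, a0, a0, a0, a0, a0, b0, b0,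
    a0, c0, c0, a0, a0, a0, a0, a0, a0, a0, a0, a0, a0, a0, a0, a0, b0, c0, c0, a0, a0, b0, b0, c0]
def c_30 : List Q := [b0, c0, n0, o0, l0, m0, b0, a0, a0, c0, i0, h0, a0, a0, i0, h0, c0, b0, i0, h0, c0, c0, b0, b0, a0, l0, m0, a0, a0,
    a0, a0, a0, n0, o0, h0, i0, b0, i0, h0, c0, a0, a0, a0, a0, a0, a0, o0, n0, h0, i0, m0, l0]
def c_31 : List Q := [b0, c0, o0, n0, m0, l0, b0, a0, a0, c0, h0, i0, a0, a0, h0, i0, c0, b0, h0, i0, c0, c0, b0, b0, a0, m0, l0, a0, a0,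
    a0, a0, a0, o0, n0, i0, h0, b0, h0, i0, c0, a0, a0, a0, a0, a0, a0, n0, o0, i0, h0, l0, m0]
def c_32 : List Q := [b0, c0, i0, h0, i0, h0, a0, c0, b0, a0, a0, a0, a0, a0, b0, b0, b0, c0, c0, c0, a0, a0, a0, a0, a0, a0, a0, h0, i0,
    a0, h0, i0, a0, a0, a0, a0, a0, a0, a0, a0, a0, a0, a0, a0, a0, c0, i0, h0, a0, a0, i0, h0, b0]
def c_33 : List Q := [b0, b0, i0, h0, h0, i0, d0, c0, c0, d0, a0, a0, a0, a0, c0, c0, b0, b0, c0, c0, a0, a0, a0, a0, e0, j0, k0, i0, h0,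
    e0, h0, i0, k0, j0, a0, a0, a0, a0, a0, a0, a0, a0, a0, a0, a0, c0, h0, i0, d0, d0, i0, h0, c0, a0, a0, a0, a0, k0,
    j0]
def c_34 : List Q := [b0, b0, h0, i0, i0, h0, d0, c0, c0, d0, a0, a0, a0, a0, c0, c0, b0, b0, c0, c0, a0, a0, a0, a0, e0, k0, j0, h0, i0,
    e0, i0, h0, j0, k0, a0, a0, a0, a0, a0, a0, a0, a0, a0, a0, a0, c0, i0, h0, d0, d0, h0, i0, c0, a0, a0, a0, a0, j0,
    k0]
def c_35 : List Q := [b0, b0, a0, a0, a0, a0, c0, c0, c0, c0, a0, a0, b0, b0, a0, a0, a0, a0, a0, a0, b0, c0, b0, c0, a0, a0, a0, a0, a0,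
    a0, a0, a0, a0, a0, a0, a0, a0, a0, a0, a0, a0, a0, a0, a0, a0, a0, a0, a0, a0, a0, a0, a0, a0, c0, b0, c0, b0]
def c_36 : List Q := [b0, c0, a0, a0, a0, a0, b0, g0, f0, c0, j0, k0, f0, g0, k0, j0, d0, e0, k0, j0, b0, b0, c0, c0, a0, a0, a0, a0, a0,
    a0, a0, a0, a0, a0, q0, p0, d0, j0, k0, e0, a0, a0, a0, a0, a0, a0, a0, a0, p0, q0, a0, a0, a0, f0, f0, g0, g0]
def c_37 : List Q := [b0, b0, a0, a0, a0, a0, b0, b0, b0, b0, a0, a0, b0, b0, a0, a0, e0, e0, a0, a0, c0, c0, c0, c0, a0, a0, a0, a0, a0,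
    a0, a0, a0, a0, a0, a0, a0, e0, a0, a0, e0, a0, a0, a0, a0, a0, a0, a0, a0, a0, a0, a0, a0, a0, b0, b0, b0, b0]
def c_38 : List Q := [b0, c0, a0, a0, a0, a0, b0, g0, f0, c0, k0, j0, f0, g0, j0, k0, d0, e0, j0, k0, b0, b0, c0, c0, a0, a0, a0, a0, a0,
    a0, a0, a0, a0, a0, p0, q0, d0, k0, j0, e0, a0, a0, a0, a0, a0, a0, a0, a0, q0, p0, a0, a0, a0, f0, f0, g0, g0]
def c_39 : List Q := [b0, b0, m0, l0, l0, m0, c0, c0, c0, c0, a0, a0, b0, b0, j0, k0, a0, a0, k0, j0, c0, b0, c0, b0, a0, o0, n0, o0, n0,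
    a0, n0, o0, n0, o0, a0, a0, a0, a0, a0, a0, m0, l0, a0, l0, m0, a0, a0, a0, a0, a0, a0, a0, a0, b0, c0, b0, c0]
def c_40 : List Q := [b0, c0, n0, o0, l0, m0, c0, b0, c0, b0, k0, j0, b0, c0, a0, a0, a0, a0, a0, a0, b0, c0, c0, b0, a0, o0, n0, l0, m0,
    a0, n0, o0, m0, l0, a0, a0, a0, j0, k0, a0, m0, l0, a0, o0, n0, a0, a0, a0, a0, a0, a0, a0, a0, b0, c0, c0, b0]
def c_41 : List Q := [b0, c0, o0, n0, m0, l0, c0, b0, c0, b0, j0, k0, b0, c0, a0, a0, a0, a0, a0, a0, b0, c0, c0, b0, a0, n0, o0, m0, l0,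
    a0, o0, n0, l0, m0, a0, a0, a0, k0, j0, a0, l0, m0, a0, n0, o0, a0, a0, a0, a0, a0, a0, a0, a0, b0, c0, c0, b0]
def c_42 : List Q := [b0, b0, l0, m0, m0, l0, c0, c0, c0, c0, a0, a0, b0, b0, k0, j0, a0, a0, j0, k0, c0, b0, c0, b0, a0, n0, o0, n0, o0,
    a0, o0, n0, o0, n0, a0, a0, a0, a0, a0, a0, l0, m0, a0, m0, l0, a0, a0, a0, a0, a0, a0, a0, a0, b0, c0, b0, c0]
def c_43 : List Q := [b0, c0, d0, d0, e0, e0, f0, c0, b0, g0, a0, a0, f0, g0, s0, s0, e0, d0, r0, r0, f0, f0, g0, g0, a0, v0, v0, d0, d0,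
    a0, e0, e0, w0, w0, a0, a0, w0, a0, a0, v0, v0, v0, a0, w0, w0, f1, r0, r0, a0, a0, s0, s0, g1, f0, f0, g0, g0]
def c_44 : List Q := [b0, b0, d0, d0, d0, d0, c0, d0, d0, c0, g0, g0, a0, a0, b0, b0, b0, b0, b0, b0, g0, g0, g0, g0, e0, e0, e0, r0, r0,
    d0, r0, r0, e0, e0, g0, g0, f0, f0, f0, f0, a0, a0, a0, a0, a0, e0, d0, d0, b0, b0, d0, d0, e0, a0, a0, a0, a0, s0,
    s0]
def c_45 : List Q := [b0, b0, c0, c0, c0, c0, d0, c0, c0, d0, a0, a0, a0, a0, b0, b0, b0, b0, b0, b0, a0, a0, a0, a0, e0, e0, e0, b0, b0,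
    d0, b0, b0, e0, e0, a0, a0, a0, a0, a0, a0, a0, a0, a0, a0, a0, b0, c0, c0, e0, e0, c0, c0, b0, a0, a0, a0, a0, d0,
    d0]
def c_46 : List Q := [b0, b0, a0, a0, a0, a0, c0, d0, d0, c0, b0, b0, a0, a0, c0, c0, b0, b0, c0, c0, c0, c0, c0, c0, e0, a0, a0, a0, a0,
    e0, a0, a0, a0, a0, b0, b0, b0, c0, c0, b0, a0, a0, a0, a0, a0, d0, a0, a0, c0, c0, a0, a0, d0]
def c_47 : List Q := [b0, b0, c0, c0, c0, c0, a0, a0, a0, a0, b0, b0, c0, c0, a0, a0, a0, a0, a0, a0, a0, a0, a0, a0, b0, a0, a0, a0, a0,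
    a0, a0, a0, a0, a0, c0, c0, a0, a0, a0, a0, b0, b0, b0, b0, b0, a0, a0, a0, a0, a0, a0, a0, a0, a0, a0, a0, a0, c0,
    c0]
def c_48 : List Q := [b0, b0, a0, a0, a0, a0, b0, b0, b0, b0, d0, d0, b0, b0, e0, e0, e0, e0, e0, e0, g0, c0, g0, c0, a0, a0, a0, a0, a0,
    r0, a0, a0, a0, a0, a0, a0, d0, d0, d0, d0, a0, a0, s0, a0, a0, a0, a0, a0, a0, a0, a0, a0, a0, b0, f0, b0, f0]
def c_49 : List Q := [b0, c0, k0, j0, k0, j0, f0, c0, b0, g0, a0, a0, f0, g0, r0, r0, e0, d0, s0, s0, f0, f0, g0, g0, a0, i1, j1, j0, k0,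
    a0, j0, k0, i1, j1, a0, a0, w0, a0, a0, v0, j1, i1, a0, j1, i1, g1, q0, p0, a0, a0, q0, p0, f1, f0, f0, g0, g0]
def c_50 : List Q := [b0, c0, j0, k0, j0, k0, f0, c0, b0, g0, a0, a0, f0, g0, r0, r0, e0, d0, s0, s0, f0, f0, g0, g0, a0, j1, i1, k0, j0,
    a0, k0, j0, j1, i1, a0, a0, w0, a0, a0, v0, i1, j1, a0, i1, j1, g1, p0, q0, a0, a0, p0, q0, f1, f0, f0, g0, g0]
def c_51 : List Q := [b0, b0, a0, a0, a0, a0, t0, t0, t0, t0, d0, d0, x0, x0, e0, e0, u0, u0, e0, e0, c0, c0, c0, c0, w1, a0, a0, a0, a0,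
    s0, a0, a0, a0, a0, g1, g1, e0, u0, u0, e0, a0, a0, z2, a0, a0, f1, a0, a0, f1, f1, a0, a0, f1, f0, f0, f0, f0]
def c_52 : List Q := [b0, b0, p0, q0, q0, p0, t0, t0, t0, t0, w0, w0, x0, x0, c1, c1, u0, u0, c1, c1, y0, y0, y0, y0, w1, k1, l1, k1, l1,
    h1, l1, k1, l1, k1, j2, j2, a1, a2, a2, a1, k2, l2, y1, l2, k2, d1, m2, n2, d1, d1, n2, m2, d1, z0, z0, z0, z0, p2,
    q2]
def c_53 : List Q := [b0, b0, q0, p0, p0, q0, t0, t0, t0, t0, w0, w0, x0, x0, c1, c1, u0, u0, c1, c1, y0, y0, y0, y0, w1, l1, k1, l1, k1,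
    h1, k1, l1, k1, l1, j2, j2, a1, a2, a2, a1, l2, k2, y1, k2, l2, d1, n2, m2, d1, d1, m2, n2, d1, z0, z0, z0, z0, q2,
    p2]
def c_54 : List Q := [b0, b0, e0, e0, e0, e0, b0, b0, b0, b0, d0, d0, b0, b0, d0, d0, e0, e0, d0, d0, c0, g0, c0, g0, a0, e0, e0, e0, e0,
    s0, e0, e0, e0, e0, a0, a0, d0, d0, d0, d0, e0, e0, s0, e0, e0, a0, r0, r0, a0, a0, r0, r0, a0, f0, b0, f0, b0]
def c_55 : List Q := [b0, c0, o1, p1, m1, n1, b0, g0, f0, c0, q0, p0, f0, g0, q0, p0, d0, e0, q0, p0, t0, c2, z1, d2, a0, m1, n1, s1, t1,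
    a0, q1, r1, o1, p1, v1, u1, e0, q0, p0, d0, q1, r1, a0, s1, t1, a0, g2, h2, v1, u1, e2, f2, a0, f0, x0, g0, i2]
def c_56 : List Q := [b0, c0, p1, o1, n1, m1, b0, g0, f0, c0, p0, q0, f0, g0, p0, q0, d0, e0, p0, q0, t0, c2, z1, d2, a0, n1, m1, t1, s1,
    a0, r1, q1, p1, o1, u1, v1, e0, p0, q0, d0, r1, q1, a0, t1, s1, a0, h2, g2, u1, v1, f2, e2, a0, f0, x0, g0, i2]
def c_57 : List Q := [b0, b0, e0, e0, e0, e0, c0, d0, d0, c0, g0, g0, a0, a0, b0, b0, b0, b0, b0, b0, g0, g0, g0, g0, e0, d0, d0, s0, s0,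
    d0, s0, s0, d0, d0, g0, g0, f0, f0, f0, f0, a0, a0, a0, a0, a0, e0, e0, e0, b0, b0, e0, e0, e0, a0, a0, a0, a0, r0,
    r0]
def c_58 : List Q := [b0, b0, s0, s0, s0, s0, t0, t0, t0, t0, v0, v0, x0, x0, u0, u0, u0, u0, u0, u0, y0, y0, y0, y0, w1, h1, h1, h1, h1,
    e1, h1, h1, h1, h1, b2, b2, a1, a1, a1, a1, y1, y1, x1, y1, y1, b1, d1, d1, b1, b1, d1, d1, b1, z0, z0, z0, z0, r2,
    r2]
def c_59 : List Q := [a1, a2, a3, b3, c3, d3, v0, e3, f3, w0, l1, k1, c1, u0, s2, t2, v0, w0, s2, t2, u0, g3, c1, h3, a0, u2, v2, i3, j3,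
    a0, k3, l3, w2, x2, m3, n3, e0, p0, q0, d0, o3, p3, a0, q3, r3, a0, u2, v2, j1, i1, w2, x2, a0, e0, v0, d0, w0]

end

end G31

open G31 in
noncomputable def G31_T : Tb where
  f := F12
  K := 59
  nu := 46080
  n := [1, 60, 180, 30, 30, 360, 30, 640, 1920, 720, 720, 720, 720, 360, 180, 180, 960, 720, 960, 1920, 160, 960, 160,
    1920, 2304, 2304, 2880, 2304, 1920, 1920, 960, 960, 1920, 640, 640, 2880, 240, 1440, 240, 720, 720, 720, 720, 60,
    160, 640, 960, 2304, 360, 60, 60, 30, 1, 1, 180, 30, 30, 160, 1]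
  XC := [c_0, c_1, c_2, c_3, c_4, c_5, c_6, c_7, c_8, c_9, c_10, c_11, c_12, c_13, c_14, c_15, c_16, c_17, c_18, c_19, c_20,
    c_21, c_22, c_23, c_24, c_25, c_26, c_27, c_28, c_29, c_30, c_31, c_32, c_33, c_34, c_35, c_36, c_37, c_38, c_39,
    c_40, c_41, c_42, c_43, c_44, c_45, c_46, c_47, c_48, c_49, c_50, c_51, c_52, c_53, c_54, c_55, c_56, c_57, c_58]
  rows := [(List.map (unp 6)
    [0x201006ac380d1d401a307034601406af600d1e381a3e70346ee068fc0cdc8381ab80337a066f0200d5d819bea034610068e40cdfd01a3e033614068dc0cd80381abc03374066fa40d1c381a3ba0347ee068c0c9,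
    0x2a3ec14cd614295d8540533314d0a6660e614ced420299c983853390e70a670e1e8fd54295879383140a6786614ae581c299ecb052ba3b025664ec14cf2d0295a987a33b30a566e614add45829999360533d550a56b2a14aee850299c39812be9160a67681014ccc08d,
    0x364ce2acf0820559d847863381a1156676102acf1c0d1e3986abb0a80c6634628ee88555d8400633ba231566e4142aced0203198805408ac3b080c5761182ace41c2855dc3aa86330720a1577b062aae4704559885408abb370081577f262aafaa4355eac18633e903478c1018ccc04d,
    0x21d42caf02059588a07abdc21657d222cad43cd9879b1160f566a4f24459598a07abdc16472142cad03cd90750b330f27d42c8fc0285999987a3800a1667e102cafc802859df510b2be9164701c2cac503d1a987a3160f46c1e6c189,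
    0x241c258ce4840b19f38812b0e12c5724058af1c44099ec0123a82025760066aec400b19d1d812ba20002c76e200058efdc8095d0001633b5a0257c4258af0800b19c39812b1070002c860e00058ef84b11e00162bb002c56e00058cee8091eac012be911026703a04ac009,
    0x22202eadc90d8a080bb32000176761052ac89045d990a080bbb241175772a52adc4020a5d98a08ab0001757ee488d40005d990880bb31093622e6c8845d5c3a94ab3b3095620e48ac88845d9908ba31d072466b2a12ad045d1ac988ab2500017768622eac249,
    0x3d4448ac741c919f5386abea2447a0e48af1cc355ec286abea80d566e4f0401c91df506a3f200a247774248afdd8355f8051233a93e0d67b8448ac83a8919c3a986b371f2457ee488f70911875122be007246761c48afae8355e1b986b3ea90d5789a1aac109,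
    0x2a2040ae084405dd913b0043b117372a2040cc844c05ddda88aab51602066e3840ae140815910042b82300866340102aec4c50481de1088ab320836342a8c84405d98d039033207d0866200e002f0c88c881991240043bc7211157704610ad068555a9084103b131746ce410ac80211,
    0x2281032cd041c8d9908500cbbf082357c44432ccdc291883b291bb99311b6680e000450e84065591003abaa201b67b2148c4f86d5c9852320736280e14cd02148d9c2889133637001b762386046ed20c655e608dab6c0a464c0e00370fc2008d9c21912b0a140a6740328c801d1,
    0x3dc368c4c00b19f0e8dabaa21b565c4f540006ddf10e8db321fa1b67262060cc40b918005a3aa1b4785c6f1046d5f710dab90702569c368ea8406d9ba9018339202c5660588d0f86d5d920dab1a02e57620058cc7e86d5fd0523c2411b67a4a000370e001c099,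
    0x24e040add384559880102b702046ea143ecc88081590801033202046e0062ae5041c7dd800623132002077220e3ecc444815a880103331411564464040ecc80815a898a3b0815576b42aac8c808198838103370081f66e20102aec080dc3a94ab21112066444040cd490455,
    0x24490010ec4021c49dd8d00433248008670ea2aae0c0215ec0423c920856b2622aee4c8559849348008570e662acc4c20021d9d880043ba3301562810010eecc0215ac1808b30874126610e24ae08c02198e004043b087615660e15224ec3850219fd062310072308860e4610ccdcc055,
    0x249032ac21c4159b910cb3481946102c8d64c00066188e200cbb5821019774661eac402059985134831957e102cac01f40066191240cb305262861032ec8502065d9b987ab087410662010e20ed1640006618a040cb3c081657e10e20cec284659c3a952b40a001976810a032ec014d,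
    0x386e4220ee5441c95dd8840173be60071077b20e4ace41c0b99c88397339072e56a61e8e14401c9618313f26710676b424ace441c0b9dfb3882b3023786e620ce8ca0441da1b1b751f2567664e4acf581c419e307083393e2256761d04acec200b99d199a3b1082e676105cacc50395,
    0x3ecea24cf55425593b88933e6007127676612addc8495c40892b8812470ea61acd6542558093f26712666e612addc84499fb3892b0427a4c0e24ef0983849dc386a33073096786612af581c499e30709335850957eaa12ac9dc495d219237711256ee248fa8111,
    0x3b8623ecdc020a599208fab580e1f670200e52ecc47d1a90fa31411f57d46e8e41ca559593371f1f67000e52cc4c47d5ee28fab9070d57e63a3ece8ec47d99b93b082957220e52cf9647d5fa840fb3b1082966e201052ec947d1d218a3411f46a3e6ea4f8359,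
    0x2490434cdc05d1929223263b1a67d2434ac4a4d9121b4129475482aac1c05d58a06a31c131a6600e02ecc3498e328d33e9160966226e034ec88dc069d9493b1737a40e00350c59d4069d931b80d3b820e1a67e4e0034eed020259921360d3761012ac4c791,
    0x21d44aaf04c8d583b291b3dc2275676468c41d948dde191a30a8102377846e54cc84dc08dd98a05abe591256728846ae88c08d9ca9852b326055680ec14cfc0289d9e818230733223764226e0470fc802895d98390512c323702366382646cc868c08dde1b952bf080236638646acc982d5,
    0x3c4400ecc1c946d9ba240533072501b76422380370dd202958a0892b3232547ac588c870446ddc83e85b31c100766434220370ec2002d9d928dabe90247a440eac4741d5a0892ab7251b564342236edc9406d990d08db32111a001b96444380370f18202d9c9d852bc27025727c04ac8c411,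
    0x264c032cc4c2800621d1192ab140007664e2224aecc1c8865dc08a091bb14112d666e4432cec841188a0891bb13000187644632ac014d911016b324801867000a8e88f8959b80508cbbdb2105660e4030ecdc84008e19208011bb832019664c00aae0c0061988a48011c322322366a2c0eacc200061d,
    0x201024ad801c259dc84a3e16095600e012ce19c2558921b13244710248f04c255f48b04b381236ce128e41c0259dd04a3ba044610248e448d921360709560e012adc28255870b04b3b0936e0128e581c259dac84abf70447d4088c489,
    0x320044ae3c80065dbb9095335100700019a7200e632eea8ca95bb87a37730f5769225ccf1140659c33852b822368b20032eed64295ba88000cc31253610448e0000899b3b87ab920e1966eea232cd441c000665da8800cbbb211301986e444632eee4291c40952b1325464a4c94591,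
    0x241052ac1ca51f49ba32851f57d6528fa8dd19bb94ab77294710623ecc01ca559149b7229476526c8444919d928fab2243650528ec8a51e041bab729364b452adc947d592d0fab7412957e0e52ac8c911bb914ab412946524c947d1,
    0x222640e5f0f106d1b90182b4802156226260cf044c8bdde21891b3e212256264e5ecc4200b99e211a3cc01b57826405eec4c9c959d4000113b4e1b4626e4aadd480c198990397bba402e56a1436af10c8d5a711a31370002f87060144aec2a00006e1a1f11ab43b2357ea428e5006d5,
    0x24e46002f0f148215d18880d3b271609662c834ad24007198b040000bcb449001c76a62034cccdc215e184a387412564266038ee14c255940b0d33271408666401424ec98c05d988b500e3bc11401c76227c2ecc44c5d5da1892b48811267022612cc9d0215c0b0d2ba8241266fa108c9d04259,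
    0x342c02ece0468759f9394ab072301a7626103ecf84c81587514ab762047c2652acdd88159185000bc3131f4626408e41cc699fba94ab222101d76226234cc8dca55bb1902b60801d66614002eecc2805d989f0fabc10071f76460002eec5940759c08d08fbbc2731a6644403acc44c4069d,
    0x2150005cef30c0bd9c92412b3f270018762260e5eec70b91e08880cbbc11310198626145eccc1c828961f8400c33aa310562342036ec4ca0959a70ca30e131067c0368c4c028bddc20972b8132556601420cc1ccc88ddf71011b30a902e67500036cc50dc419ba70cab40a1001887d4030ac3806d5,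
    0x250a234cd204315c118aab48000087629a18adcc069588400103b2300206642382acfc9c55588842843b10c37a0e034cd0444d588991033410001376a00026cc8dc555908d0ab30801356100018cc800021983918103b7401a574e8034cd04311a08902b2500008760e40010ed044d1,
    0x290042ac9c0001dd910d011bb7410b5768a36af5488d58840010bb99301b67450246ccc89c06dd883e8c33200007662600042ec1c002d9e211a371410b66e4630af30806d9a4291ab27321866a41436cc42cd85038011c3222101877c4a430cd042d1e600dab2500007764e430aca04c2d9,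
    0x24e4e8cc01c8d9bea91ab070a101887a45a8c828bd59249017bb0720a2777e445eacb499109b300702377e4e4eac3a89d5e91017b310701866628030cc8c28bd9880417b3d22146504e8c89cd98039011c37652356424c1c0615e969b223201876ea468ca104461d,
    0x282308c8884061d8993a31131186626428c50449598939b25254720e5cac84446198a0723410018664222030eec202d591188c33b08c0b668200030ed0406159393222118662600042eed04615889880c3b1302156260042cd838d89912abc6080b666281cac94511,
    0x3020005eed0428bd9bb95231082f5600e05ace920d95bba952b711c13677ea072ae50400bdd8929b10080002f970820005f0c4c49d5c880017bb2273722005ecc420000be1c40952b41a2f560e05aae04bd1880417b3b2d36e05a8d04951c08d1b3341274642224ace204415,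
    0x2280044cc84c00b5d90a49533f2602367020005eec21d4a99c8a00113b007d2f6643e854cc01cbd58e200cb3702d46400e44cc828508dded9152b811412376142c032ee144000be1f92152b92601967a00e5ecd8dc08d9c8a0953300a1619762c0032cf6488d591b8897bb14112d66e014232ee05048d9,
    0x2c8038af54021590509ab23081267aa00038ee4c4004ddfa00e2b521a1c66650426ce484715a9838433d500086772238af1838499f38889b3e5a1257b2010ac8710719a90509b3f530856c6038ac9dc4499e91009b3d900086638a610cfaa0495c90b0e33320708663520010eec8c495,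
    0x28343eadc844819d2000103b08001d6683e40ae1040819f98e8fb31d071f670823ead048118e9323007013862863aac4c751909890330a7001377a400026ed047d1e838fabd1d360f23aae00751922c903323007020864443aac44c4759a48902b0a0013666140026ed2084d5,
    0x2444034cf98004599180103348000866ca226adc94755f0008ab213217664620040ec44c4081d9180380e437901a5600228cc000719928ea32300136644203acf800215a88988bbb300701c77000e10ced0444d9a410babe2111d668222622f0c9482159b801033600115682226ad208715,
    0x29c224acd600c15dc8817332812e56200e005d0e8c0dd199a3d639475484aac8c4c15d8840173b84112566462060cec420b99d8801733d62c4683424ace504495988e9cab59304620e005cedc4000b9d90841733b102e56e2005cce90c1194389733f0334623a58ad044955,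
    0x200e6226ec41c8005e1bb88f2b2481a57c42834cf2500045dc386a388411f662284cac401c8005e5d520aab731135764202ecddcc8559920040d3b8812460e6226cc001cc44e1c428fab721001776650234cc9240006a192040d33f72001a77a0e400350f70cc459bb908f338670d56ee224ac909,
    0x304a6dc00155bb9082b081046a1420aec20155f503232516464a4c1c001598813008255600e000aed440dc881b142724a6c209519088b2bb00546b4208e040d804082b9510470a208ee40155c40823f706466286e20951,
    0x363a038cc8690719eea8f2bb6401c6748838afd68455d219237711e5642850ac8502871d93b88933a1411c676426038eddc449590d200e3b77141267242c38cf1c40071dbb8f233e81c569260038eda9071590e20e33921601c76cd438ac468c959bb88f33f0851166ee824ae4ec255,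
    0x3082230cc68c4061dbba082beb518564e6430cec200159c83872b77210564e4f8948619918a2323e218674422230ecc50df510c2b2514472464030ec4214461d93b888331c3118670822030ec83a8619898e8c33211c11877282230cfdd039589bb883393b0056682228ae4ec2d5,
    0x3c000e5eec741cbd9fa81cabc1002f672a2005eed0d8dd11823211d396642854af0401cbddb8e29733f072f5742000e5f0ec200b998f97a3b10802e77a00e5ecc38001cbe1e281cab71f2f56a1425ecc740bd5d080017bb8510002f86b425eae54c1188e9cab1136478c105ccc4c49d5,
    0x24a0003aec8c007598f9322101d66c0e43accac9ee008ab251f46524c8c00075da08f232501d56463a8cc78d88880eb3131e464a003acc947518888fab2301d56ce43aac8847558888eab4821d5646e03acfdd8455a8f9b42b362623cac4c4a15,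
    0x3d444eaec4209d99139bea27476104eac849d18893a31273686c6dc40209dd8713f200a2777220e4eccc49d1f80513b33140e57b844eac83a89d9d241b2b810072777000e4ecf709d187513ab7008276720e4eac4c49d5ba71b2b27262224eae41c395,
    0x2b0618ac684555c186231a1265710618af48a05599b9323280c46e6218aec28315941862bb40a0c666e62aacc02000321e381a33b0c4722282acd0684559f986231f30c5634224ccca103159f06230703466186e0684559941206330a034667618ac8210319,
    0x2442638cec2005d98d1800ebb72211766238003aee48479598f8f2bb2111c67626203aec88751a8000e3320a81d6724383ccd20c0071dd98050f3b3001c56428202eef54791ac0800ebbd50001c77663c8ecc0071998a080ebb2213176724238acc504405e1e910eab2211756e4a43ace544715,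
    0x2a502234edc58995e28809b381161a6727c50add80695e099009bb96501a6762c4cae30dc359dd4892b260081a7662921acea504d5b0040d33c00c46e826034ef2c4695d8a69433e7126563a188e1484699b0420d3396c285798018ad4a04699ba70fab3200a13764ec034ce30c355,
    0x2492000350e074d89b98f33e142857c4c34ae10751eb300d33811311d766228026ed21075593989abf27285682638adcc404d9889b80d3b14131c664fa50ac98ec699c0888eb38131c5620e3cac741c799b9889ab731346b01c50cc22c715c098f2b1a07286628238ac4c20799,
    0x24c00e50ed4c84d5d08389b3a212657e00e022ed0028999d10389b34508286640ec26ce8c44a19a9838633207260c76e4c826cc901c04dd90a132b32821366200e626ee9c44d587389abf530c5646220e270d6884d59003b09bb2071357e88022ce844995d0a09433b900136640e4c0190d48284d9,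
    0x24506cac841ca998e003953ba112a564280e1eee8450a99a24152b0e7136661ce254ce8c44a99ac889533f0070f66229c54cc39c8a99b3a152b32282a67e44e54cfc01ca9991419533a1132a66e9054ac5384a99a88e153321c082a774226cae884a95d0a095332282a57e0101ecfc820a99,
    0x2ce1c8f4c42d5a059bb50b4742048ca04c2d9870b05b3b0e025682168d4ec2d5b2405ab1008026600fa016ee6502d58393005bb7330b5788168d0682d58038005bb86a0b5728168c01c02d9baa805b34d0b46c0101cced402d5dad05abd30b47e0101ccea102d5,
    0x34484cac4501c35db606a3073846280e1acfc1c35587132311a126666e144cce844c999a8d093333200a267680e1aac29c3558381a353e0d566761aac1c351a05386b313726566e4c8c3a8995e07132b9242656a0e1aacf8351a87132b1a12657424c8f0dc995,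
    0x30086f410de04022bb04374086fa4111dd0223f70446084f810dc3822300804561c088ea0111838223fa04472086c20111f50223f04378086c01c115b821b0a044601408af60111c83822bc70447ce088ddc111,
    0x20106eac38dd1d41ba30737460146eaf60dd1e39ba3e73746ee6e8fcdcdc839bab83737a6e6f020dd5d9b9bea3746106e8e4dcdfd1ba3e3736146e8dcdcd8039babc373746e6fa4dd1c39ba3ba3747ee6e8cdc9,
    0x2e38223cee0028799e2686abc4d1e57cd43caca09898942bf760d568566f020795a09423e22711e7740103ccfdce11e1840f33132847622343cec68441c7a1a941b90a1e57ad83cae8c02079dd270f2bb60e1e67eec3caccca119941b4283781070ae8c8d,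
    0x3840072cec400e59f39b23c00395760072af1c4d95c0d1b2ba83646744dc4000e5dd241b2be21395620e000730dc704d99f09ca374e365641c272ce88000e5dd439b2b9210396724072ac384e55d0001cb3700039660e00072edc4704d9de1b89b33e79365702346ccec00cd5,
    0x3b8428adc28515a071bdc1447a0e28ac503918b072360e360c4c1c28519a9872320ea1467800e28cc4503958750a2b330e47e401428efa885158713ba1447ee288fc028519f50a23e007146761c28ad438d98a072b30e3622c1cacd09,
    0x2861050cf5487959b94230a384706e50ac9c87079d839c23082846761050ce4c44a19a04142b1a112866a6e3caf4c44a199b932343728572a423ccc9c84799993942b30828578e708fc20a15f04142b1a126566e01050ec4470207a190d142b1a112667242850ccc21ca19,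
    0x30706f4e0de041c2bb38374706fa4e11dd1c23f73846704f8e0dc39c2300838561c708ea0e11839c23fa38472706c20e11f51c23f38378706c01ce15b9c1b0a384601470af60e11c839c2bc73847ce708ddce11])]
  lev := [c_59]
  b := 64
  B := 16384

noncomputable def G31_D : Gp where
  Ls := [0x1131234, 0x1176543123456, 0x13123476543123456, 0x13145431234565431203243154320, 0x1020312043205431203243154320676,
    0x1123125431234565431203243154320, 0x101231203431205431203243154320676, 0x10204543120324565431276543120324356,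
    0x1012454312032456543123765431203243156, 0x1431203454312032435654312765431203456,
    0x103143543120324565431234765431203243156, 0x112431203454312032435654317654312032456,
    0x123204320543120324356543123765431203456, 0x11320432054312032431565431237654312032456,
    0x11203143543120324356543123476543120324356, 0x10314312054312032435654317654312032431546]
  rw := (unp 9
    0x202406240648624064862a8624064862a8640ca8624064862a8640ca862468aceca8624064862a8640ca862468aceca8624064862a8640ca862468acfe18121902a18901a32a189019218abb2a189019218aa19032a1891a2b3b2a189019218aa19032a1891d0602406240648624064862ca8624064862a8640ceca8624064862a8640ca862468af09891891a1891a2a189019218aa19032a1891a2bb2a189019218aa19032a1891a2bb426246246862468ca8624064862a8640ca862468aeca8624064862a8640ca862468af0989891a2a189019218aa19032a1891a2bb2a189019218aa19032a1891a2bb3c604062862406486ca8624064862a8640ceca8624064862a8640ca862468aef1809021891aa1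8901932a189019218ab3b2a189019218aa19032a1893b2a1bc604064862ca8624064862a8640ca86246eca8624064862a8640ca862468aef18101891a2a189019218aa19032a1891bb2a189019218aa19032a1891a2bb3c60406246a8624064862a8640ca8624064eca8624064862a8640ca862468ecf181218901921aa18901932a18901921aa32bb2a189019218ab3b262640862a862406486ca8624068aceca862406486a8ceb19891a18aa18b2a193b2a189019218aa19032a1893b2a2c608640a8640ca862eca8624064862a8640ca86246a1891891a1891a32a1891a2b3b2a1891a2b3a266246864ca8624064862a8640eca862468a899891a192a189019218aa19032a1891a2bb2264686246ca8624064862a8640eca862468a8991a1891aa189019218aa19032a1891a2bb226862ca8624064862a8640eca862468a79a18aa189019218aa19032a1891a2bb1e6264a8624064862a8640ca862468aec798099021891b2a18901bb2a189019229e6048624068a862ca8624064862eca71811902a189019232a3b2a18901921c640624a8624064862a8640ca8ec6989921891aa189019218aa1903b1a60406240686240648ca862468ae69811892a18932bb2a18901922b39a6040862ca862406eca8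6240648a69809218b2a18901bb2a189019229a6024648a862ca8624068eca86618091922a18b2a18901921bb2986064862a8624068ca8eca864061aa189019232a1893b2a1901664624a8624064862a8640ec599a18aa189019218aa1903b166024628624064ca862468ae598118921902a32a1891a3b2966024062468640ca862468ae598918a1892a32a18bb2a19460462468640ca862468ae51891891a3b2a1891a2b1262486246ca862468ace49891891a32a1891a2b392628a8ca86246eca39922a32a1891bb28e626246a8ca8eca83991891aa32a3b2a0e648a8ca862eca86398a2a32a18bb2a18e6246246862468318922a32a3b2a0c64862461989891a066462862198902601)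
  rh := (unp 6
    0x1edf0463ac68d10cc441dd839b216447fc4d98cc459dd8023b91f6572614000edc8c918043a900431a1046ec908dd99919081b216660664626c85991589902311666564a408c4c4dc45c98b31300888000a6a0e662230f26648c1d9181b333211076aaa20e4ef4cc8521de24aa888439994100773324a0cd5549c4421aaac0d0bb412626000acccc4459edd8042bb333111076210eee0ed554845988132210464226fffe815e905550043fffa20679981c00ed114ec21db219b804430027c01554cc000d80b66644644420ac1)
  cod := (unp 6
    0xfcfcfcfcfcfcfcffecd04f8c51d0534fbe9646b47e7e7e7e6dfeaba587e7e7e7ea1f5323493f3f3f3f50ff55d27453d413f4dfa591ac9da19fa099ff04f51c9574d4fce7fa2468e8292668e7ffe6ba4e8e9266827ff72b2469a8e66827ff494151234d434134fe1239b2420a215287f8a19da697a0a6a97da211f992421271ffdf9ba39f9f9f9fa97d4495390ced0d0517f92a662867686828dfd125503d413d4347fe4a9999ea09ea1a47f449538f5050d050bf92a6627a82868287fc9532e4341413d44fe099a721a0a4979e7f2ce928bd192514dbfe530c134e90534ebe84a6608c82748887ffca6727c828478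8bf49364f413e3d433bff54539493d494532fa099a51ba69ea19c7f04cd28dd350cf4d7f8c78749088946c67fca3a3a4846463635ffc4a3944364e4c34fa12516a1232121217ff299a221f9f2122fdf299b9f1fa221217d24d938f51104f4dbf8e748e8a788a8a5ffc9364b43423d3f38fe09e239fa21a9fa8ff24d92d0cf90d04d7fd5090914f8fcfd2be966c8c76887e7e95fcb3642453e3f3f4bfe29d1f9fa3209fa1ff14e8fcfd18fd0513ffcfcf92ced04fd1befcfcf92cecfd051fe82787e7e9076828dfc13c3f3f44453f41fe0a0a39f9f9f9fa3fff9f9f9fa39f9fa17d050518ed0cfd0513f8282848a7a827e89fc141443f433b4146fe0a0a0a0a19f9fa17f0505050505050507f)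
  tw := (List.map (unp 8)
    [0x224624064a862406486aca86246eca8624064862a864d631203143543120324356543123476543120324356a198a2a189019218aa1903b2a189019218aa19032a1891a2bb60c081150c480c915950c49d950c480c90d5a262640862a862406486aca8624eca8624064862a864d5313124543123456543123457654312032431543206543123456c99192a1891a2b2a1891a2bb2a189019218aa19032a1891a2b60c48c4950c480c90c550c81d950c480c90c550c81950c48d15db26a8624064862a8640ca862468aeca8624064862a8640ca862468aedb32320431543120324565431276543120324315436a19891a3b2a1891a2b20d0c480d150c480c90d5950c49d950c480d15a4606286240a862406486aca862eca8624064862a8d431231254312345654312032431543207989891a18901aa189019218ab2a1891bb2a189019218aa35cc5d950c48d158c60248a86240648aca86246eca8624064862ad2323123431203543120324315654312765431203243546b19891a2a189019218aa19032a1891a2b3b2a189019218aa190364c4c810c8150c480c90c55950c48dd950c480c915a8606286a86240648aca862468eca8624064862ad3312431203454312032435654317654312032456999890192a18901921ab2a1891a3b2a189019218aa1b54c480c50c48150c480c90c55950c5d950c480c90d51aa646408640a862406486aca86246eca8624068ad33020312043205431203243154320676798aa189019218aa19032a1891a2b3b2a189019218aa19035cc048c480d0c48150c480c90c550c819da06628a862468aca8624064862a8640e313123419])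
  th := (List.map (unp 5)
    [0x8400057c58a088d6e5850005622823588898d6226235b8038561c001591725f96a5803805625c1601001598898d7a5d17658380056014015e16859911956c599605])

private noncomputable def _root_.Cfsg.Agent.LsF.fe5162c_82 : {f // @Cfsg.Agent.MO.WC.G31_T = f} := ⟨_, by first | (delta Cfsg.Agent.MO.WC.G31_T; rewrite [Cfsg.Agent.LsF.map_eq]; exact rfl) | exact rfl⟩
theorem G31_h1 : (G31_T.baseOK && G31_T.massOK && G31_T.nrmOK) = true := by ((try (rewrite [Cfsg.Agent.LsF.fe5162c_36.2, Cfsg.Agent.LsF.fe5162c_82.2, Cfsg.Agent.LsF.fe5162c_38.2, Cfsg.Agent.LsF.fe5162c_42.2, Cfsg.Agent.LsF.and_eq])); decide +kernel)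

noncomputable def G31_P : List Is :=
    [.unit 4 [(1, 0)], .unit 5 [(1, 0)], .prod 4 4 (unz 2 0x28000a00000), .unit 10 [(1, 0)], .unit 18 [(1, 0)], .prod 10
    10 (unz 2 0x2a800000280028), .unit 1 [(1, 0)], .unit 8 [(1, 0)], .unit 21 [(1, 0)], .unit 22 [(1, 0)], .prod 18 21
    (unz 2 0xa028002828000000000a02800000), .unit 45 [(1, 0)], .unit 38 [(1, 0)], .unit 49 [(1, 0)], .unit 35 [(1, 0)],
    .unit 15 [(1, 0)], .unit 11 [(1, 0)], .prod 21 22 (unz 2 0x54e800000000000000a0a02800028000), .unit 53 [(1, 0)],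
    .unit 55 [(1, 0)], .unit 20 [(1, 0)], .unit 23 [(1, 0)], .unit 7 [(1, 0)], .prod 15 49 (unz 2
    0x9d54c000000a0a0000028aa0280280a0000), .unit 12 [(1, 0)], .unit 36 [(1, 0)], .unit 24 [(1, 0)], .unit 39 [(1, 0)],
    .unit 54 [(1, 0)], .unit 16 [(1, 1)], .prod 4 49 (unz 2 0x28000028280000000a00000000000000), .unit 58 [(1, 0)],
    .unit 47 [(1, 0)], .unit 44 [(1, 0)], .unit 28 [(1, 0)], .prod 4 53 (unz 2 0xa002802802800000000000000000000), .unit
    41 [(1, 0)], .unit 51 [(1, 0)], .unit 57 [(1, 0)], .unit 46 [(1, 0)], .prod 16 51 (unz 2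
    0x26005005051300028a028a0000000000280), .unit 3 [(1, 0)], .unit 31 [(1, 0)], .unit 33 [(1, 0)], .unit 25 [(1, 0)],
    .unit 43 [(1, 0)], .unit 27 [(1, 0)], .prod 8 28 (unz 2 0x280000a0000280000000000000a0), .unit 2 [(1, 0)], .unit 30
    [(1, 0)], .unit 40 [(1, 0)], .unit 50 [(1, 0)], .prod 2 44 (unz 2 0xa0a0002828000000000a0000000), .unit 14 [(1, 0)],
    .unit 34 [(1, 0)], .unit 48 [(1, 0)], .unit 37 [(1, 0)], .prod 23 54 (unz 3
    0x12ce24600000000023023000000004a302300480900009480000), .unit 56 [(1, 0)], .unit 6 [(1, 0)], .unit 13 [(1, 0)],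
    .unit 17 [(1, 6)], .prod 6 15 (unz 2 0x2800000000000000028000000000), .unit 52 [(1, 0)], .unit 19 [(1, 0)], .prod 7
    58 (unz 2 0x130002828280a0002800a0000000000000), .unit 32 [(1, 0)], .unit 26 [(1, 0)], .prod 1 6 (unz 2 0x280000),
    .unit 9 [(1, 0)], .prod 10 16 (unz 2 0x28000a00000000000000000), .unit 42 [(1, 0)], .prod 14 16 (unz 2
    0xa028000000002800000000000000), .unit 29 [(1, 0)]]

private noncomputable def _root_.Cfsg.Agent.LsF.fe5162c_83 : {f // @Cfsg.Agent.MO.WC.G31_P = f} := ⟨_, by first | (delta Cfsg.Agent.MO.WC.G31_P; rewrite [Cfsg.Agent.LsF.fe5162c_24.2]; exact rfl) | exact rfl⟩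
theorem G31_h2 : go G31_T G31_P [(unz 2 0xaa00)] 1 = true := by ((try (rewrite [Cfsg.Agent.LsF.fe5162c_55.2, Cfsg.Agent.LsF.fe5162c_82.2, Cfsg.Agent.LsF.fe5162c_83.2, Cfsg.Agent.LsF.fe5162c_24.2])); decide +kernel)

private noncomputable def _root_.Cfsg.Agent.LsF.fe5162c_84 : {f // @Cfsg.Agent.MO.WC.G31_D = f} := ⟨_, by first | (delta Cfsg.Agent.MO.WC.G31_D; rewrite [Cfsg.Agent.LsF.map_eq]; exact rfl) | exact rfl⟩
private noncomputable def _root_.Cfsg.Agent.LsF.fe5162c_85 : {f // @Cfsg.Agent.LV.W.E8 = f} := ⟨_, by first | (delta Cfsg.Agent.LV.W.E8; rewrite [Cfsg.Agent.LsF.fe5162c_24.2, Cfsg.Agent.LsF.ineg_pat, Cfsg.Agent.LsF.map_eq]; exact rfl) | exact rfl⟩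
theorem G31_h3 : G31_D.baseOK E8.toTy G31_T (unz 2 0xaa00) = true := by ((try (rewrite [Cfsg.Agent.LsF.fe5162c_59.2, Cfsg.Agent.LsF.fe5162c_84.2, Cfsg.Agent.LsF.fe5162c_85.2, Cfsg.Agent.LsF.fe5162c_82.2, Cfsg.Agent.LsF.fe5162c_24.2])); decide +kernel)

theorem G31_h4 : G31_T.Eg 0 59 := Tb.Eg.zero.step 59 (by ((try (rewrite [Cfsg.Agent.LsF.fe5162c_63.2, Cfsg.Agent.LsF.fe5162c_82.2])); decide +kernel))

theorem G31_r30 : G31_D.Rw E8.toTy G31_T 0 30 := Gp.Rw.zero.step 30 (by ((try (rewrite [Cfsg.Agent.LsF.fe5162c_68.2, Cfsg.Agent.LsF.fe5162c_84.2, Cfsg.Agent.LsF.fe5162c_85.2, Cfsg.Agent.LsF.fe5162c_82.2])); decide +kernel))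

theorem G31_r59 : G31_D.Rw E8.toTy G31_T 0 59 := G31_r30.step 29 (by decide +kernel)

theorem G31_good : G31_D.Good E8.toTy G31_T :=
  Gp.good_of_one E8_good.ok ok12 rfl G31_h1 G31_h2 G31_h3 G31_h4 G31_r59

theorem cenK_E8_108 : CenK E8 108
    [1, 1, 4, 4, 4, 4, 5, 5, 5, 5, 6, 6, 9, 9, 10, 10, 10, 10, 10, 10, 15, 15, 15, 15, 16, 20, 20, 20, 20, 20, 20, 20,
    20, 20, 24, 24, 30, 30, 30, 30, 36, 36, 36, 36, 36, 40, 40, 40, 40, 40, 40, 40, 40, 45, 45, 45, 45, 64, 64] :=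
  cenK_of G31_good E8_good 0x1131234543120324315432065431234576543120324315432065431234576 0x13125431236c
    (by decide +kernel)

end Cfsg.Agent.MO.WC
end

private theorem dce_3f65b5bff5fc : _root_.True := by
  try have : _root_.True := by simp only [_root_.Cfsg.Agent.MO.WC.Gp.cj.eq_1]
  try have : _root_.True := by simp only [_root_.Cfsg.Agent.MO.WC.Tb.baseOK.eq_1]
  try have : _root_.True := by simp only [_root_.Cfsg.Agent.MO.WC.Q.add.eq_1]
  try have : _root_.True := by simp only [_root_.Cfsg.Agent.MO.WC.Q.ev.eq_1]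
  try have : _root_.True := by simp only [_root_.Cfsg.Agent.MO.WC.F8.eq_1]
  try have : _root_.True := by simp only [_root_.Cfsg.Agent.MO.WC.Q.mx.eq_1]
  try have : _root_.True := by simp only [_root_.Cfsg.Agent.MO.WC.dgl.eq_1]
  try have : _root_.True := by simp only [_root_.Cfsg.Agent.MO.WC.Fd.nq.eq_1]
  try have : _root_.True := by simp only [_root_.Cfsg.Agent.MO.WC.Tb.X.eq_1]
  try have : _root_.True := by simp only [_root_.Cfsg.Agent.MO.WC.Gp.setOK.eq_1]
  try have : _root_.True := by simp only [_root_.Cfsg.Agent.MO.WC.dotS.eq_1]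
  try have : _root_.True := by simp only [_root_.Cfsg.Agent.MO.WC.Q.mul'.eq_1]
  try have : _root_.True := by simp only [_root_.Cfsg.Agent.MO.WC.F12.eq_1]
  try have : _root_.True := by simp only [_root_.Cfsg.Agent.MO.WC.Q.eq.eq_1]
  try have : _root_.True := by simp only [_root_.Cfsg.Agent.MO.WC.unitOK.eq_1]
  try have : _root_.True := by simp only [_root_.Cfsg.Agent.MO.WC.Q.sm.eq_1]
  try have : _root_.True := by simp only [_root_.Cfsg.Agent.MO.WC.Gp.baseOK.eq_1]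
  try have : _root_.True := by simp only [_root_.Cfsg.Agent.MO.WC.DgP.eq_1]
  try have : _root_.True := by simp only [_root_.Cfsg.Agent.MO.WC.dotQ.eq_1]
  try have : _root_.True := by simp only [_root_.Cfsg.Agent.MO.WC.smQ.eq_1]
  try have : _root_.True := by simp only [_root_.Cfsg.Agent.MO.WC.Tb.massOK.eq_1]
  try have : _root_.True := by simp only [_root_.Cfsg.Agent.MO.WC.autOK.eq_1]
  try have : _root_.True := by simp only [_root_.Cfsg.Agent.MO.WC.Tb.eig1.eq_1]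
  try have : _root_.True := by simp only [_root_.Cfsg.Agent.MO.WC.pkE.eq_1]
  try have : _root_.True := by simp only [_root_.Cfsg.Agent.MO.WC.Tb.valF.eq_1]
  try have : _root_.True := by simp only [_root_.Cfsg.Agent.MO.WC.Tb.valOK.eq_1]
  try have : _root_.True := by simp only [_root_.Cfsg.Agent.MO.WC.smZ.eq_1]
  try have : _root_.True := by simp only [_root_.Cfsg.Agent.MO.WC.Gp.cjM.eq_1]
  try have : _root_.True := by simp only [_root_.Cfsg.Agent.MO.WC.zq.eq_1]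
  try have : _root_.True := by simp only [_root_.Cfsg.Agent.MO.WC.Dg.eq_1]
  try have : _root_.True := by simp only [_root_.Cfsg.Agent.MO.WC.sum2.eq_1]
  try have : _root_.True := by simp only [_root_.Cfsg.Agent.MO.WC.Q.pw.eq_1]
  try have : _root_.True := by simp only [_root_.Cfsg.Agent.MO.WC.Tb.dg.eq_1]
  try have : _root_.True := by simp only [_root_.Cfsg.Agent.MO.WC.Q.ax.eq_1]
  try have : _root_.True := by simp only [_root_.Cfsg.Agent.MO.WC.F5.eq_1]
  try have : _root_.True := by simp only [_root_.Cfsg.Agent.MO.WC.cenOK.eq_1]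
  try have : _root_.True := by simp only [_root_.Cfsg.Agent.MO.WC.Q.z.eq_1]
  try have : _root_.True := by simp only [_root_.Cfsg.Agent.MO.WC.Gp.e.eq_1]
  try have : _root_.True := by simp only [_root_.Cfsg.Agent.MO.WC.Gp.full.eq_1]
  exact _root_.True.intro
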