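import Cfsg.Agent.MQ.D.Tb
import Cfsg.Agent.MQ.Ev.Api
import Cfsg.Agent.MQ.Mx.Tab
import Cfsg.Agent.MQ.Tu.Defs
import Cfsg.Agent.MQ.Crd.Cls
import Cfsg.Agent.MQ.WC.D8b
import Cfsg.Agent.MQ.Z.LV.W.E8b
import Cfsg.Agent.MQ.WT.Chk
import Cfsg.Agent.Lib.ListFast
import Cfsg.Agent.FastGrp
import Cfsg.Agent.Prune
set_option linter.all false
prune_inst 0x7f00000000000000000000000000000000000000000000000000000000000000000000000000000000000000000000000000000000000000000000000000000000000000000000000000000000000000003fffffffffffffffffffffffffffbeffbdffffffff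
open scoped Cfsg.Agent.FastGrp

-- part: MO/Xc/Au
section
/-!
# MO/Xc: the symmetries of the exceptional cosets (helper78)

* `Iv R f` : invariant functions; `In a` : `a` is inner up to a power of the twist; `In.fix`, `In.fixE`;
* `Core0.core` : if all symmetries are inner, `Core0` gives `Core`;
* `au_of` : the classification of the symmetries from a check; `in_tab`, `au_two`.
-/

set_option autoImplicit false
set_option linter.unusedSectionVars false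

namespace Cfsg.Agent.MO.Rc

open Cfsg CoxeterSystem SemidirectProduct Cfsg.Agent.Tits.Core Cfsg.Agent.Tits.Exchange Cfsg.Agent.MO.Crd Cfsg.Agent.MO.U
  Cfsg.Agent.LV.W Cfsg.Agent.Characters.Core

theorem irr_ker_mul {G : Type} [Group G] [Finite G] {η : G → ℂ} (h : IsIrrCharacter G η) {k : G} (hk : η k = η 1) (g : G) :
    η (k * g) = η g := by
  obtain ⟨n, ρ, -, rfl⟩ := h
  rw [Representation.character, map_mul, (Characters.Values.character_eq_finrank_iff ρ k).1 (hk.trans ρ.char_one)]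
  rfl

variable {R R' : RC} {E : Emb R' R} {ι ι' : Type} [Fintype ι] [Fintype ι'] {y : ι → R.W → ℂ} {y' : ι' → R'.W → ℂ}

/-- an invariant function -/
def Iv (R : RC) (f : R.W → ℂ) : Prop := ∀ g u, f (g * u) = f (u * R.ψ g)

theorem Fam.iv (h : Fam R y) (i : ι) : Iv R (y i) := fun g u => h.inv i g (mem_WJ_univ _ _) u (mem_WJ_univ _ _)

theorem Iv.conj {f : R.W → ℂ} (h : Iv R f) (g u : R.W) : f (g * u * (R.ψ g)⁻¹) = f u := by
  rw [mul_assoc, h, inv_mul_cancel_right]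

theorem Iv.of_eq {f : R.W → ℂ} (h : Iv R f) {g u u' : R.W} (e : u * R.ψ g = g * u') : f u = f u' := by
  rw [← h.conj g u', ← e, mul_inv_cancel_right]

theorem Iv.tw {f : R.W → ℂ} (h : Iv R f) (u : R.W) : f (R.ψ u) = f u := by rw [← one_mul (R.ψ u), ← h, mul_one]

theorem Iv.pow {f : R.W → ℂ} (h : Iv R f) (i : ℕ) (u : R.W) : f ((R.ψ ^ i) u) = f u := by
  induction i with
  | zero => rfl
  | succ i ih => rw [pow_succ', MulAut.mul_apply, h.tw, ih]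

/-- inner up to a power of the twist -/
def In (a : Au R) : Prop := ∃ (g : R.W) (i : ℕ), R.ψ g = g ∧ ∀ v, a.1 v = g * (R.ψ ^ i) v * g⁻¹

theorem In.fix {a : Au R} (h : In a) {f : R.W → ℂ} (hf : Iv R f) : Fix a f := fun u => by
  obtain ⟨g, i, h1, h2⟩ := h
  rw [h2, ← hf.pow i u, ← hf.conj g ((R.ψ ^ i) u), h1]

theorem fr_mem (E : Emb R' R) {f : R'.W → ℂ} (hf : Iv R' f) : (⟨E.w, Et.tw R⟩ : Ex R) ∈ E.St f := by
  have h1 : ∀ u, ac (⟨E.w, Et.tw R⟩ : Ex R) (E.el u) = E.el (R'.ψ u) := fun u => by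
    change E.w * R.ψ (E.j u * E.w) * (R.ψ E.w)⁻¹ = _
    rw [Emb.el, E.tw, map_mul, ← mul_assoc, mul_inv_cancel_right]
  have h2 : (⟨E.w, Et.tw R⟩ : Ex R) ∈ E.Nh := fun v => ⟨fun ⟨u, e⟩ => ⟨_, e ▸ (h1 u).symm⟩, fun ⟨u, e⟩ =>
    ⟨R'.ψ⁻¹ u, Function.LeftInverse.injective (ac_inv' _) (by rw [h1, ← e, MulAut.apply_inv_self])⟩⟩
  refine ⟨h2, fun v => ?_⟩
  by_cases hv : v ∈ Set.range E.el
  · obtain ⟨u, rfl⟩ := hv
    rw [h1, E.ex_el, E.ex_el, hf.tw]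
  · rw [Et.ex_out E f hv, Et.ex_out E f fun k => hv ((h2 v).2 k)]

theorem In.fixE {x : Ex R} (h : In x.right) {f : R'.W → ℂ} (hx : x ∈ E.St f) (hf : Iv R' f) {η : E.N0 f → ℂ} (hη : η ∈ E.Et f) :
    E.FixE x η := by
  obtain ⟨g, i, h1, h2⟩ := h
  have h3 : (⟨E.w, Et.tw R⟩ : Ex R) ∈ Et.SE E ⊤ η := ⟨fr_mem E hf, trivial, fun v v' e => by
    have h3 := E.mem_el.1 ((v.2.1 E.w).1 ⟨1, E.el_one⟩)
    have h4 : ac (inl v.1) E.w * E.w⁻¹ = (v * v'⁻¹ : E.N0 f) := by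
      rw [Subgroup.coe_mul, Subgroup.coe_inv, e, ac_inl]
      simp [cj, Et.tw, mul_assoc]
    rw [← irr_ker_mul hη.1 (hη.2 _ (h4 ▸ h3)) v', inv_mul_cancel_right]⟩
  have h4 := pow_mem h3 i
  have h5 : ((⟨E.w, Et.tw R⟩ : Ex R) ^ i).right.1 = R.ψ ^ i := congrArg Subtype.val (map_pow rightHom _ i)
  generalize (⟨E.w, Et.tw R⟩ : Ex R) ^ i = z at h4 h5
  have h6 : ∀ v, (x * z⁻¹).right.1 v = g * v * g⁻¹ := fun v => by
    rw [mul_right, inv_right, Subgroup.coe_mul, MulAut.mul_apply, h2, Subgroup.coe_inv, h5, MulAut.apply_inv_self]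
  have h7 := mul_mem hx (inv_mem h4.1)
  have h8 : x * z⁻¹ ∈ Et.SE E ⊤ η := by
    generalize x * z⁻¹ = t at h6 h7
    have h8 : ac (inl (t.left * g)) = ac t := funext fun u => by rw [ac_inl, ac, h6, map_mul, h1]; group
    have h9 : t.left * g ∈ E.N0 f := ⟨fun v => h8 ▸ h7.1 v, fun v => h8 ▸ h7.2 v⟩
    exact ⟨h7, trivial, fun v v' e => by
      rw [show v' = ⟨_, h9⟩ * v * ⟨_, h9⟩⁻¹ from Subtype.ext (by simp [e, cj, h6, mul_assoc]), isIrr_isClassFunction hη.1]⟩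
  have h9 := mul_mem h8 h4
  rw [inv_mul_cancel_right] at h9
  exact h9.2.2

/-- **inner symmetries** -/
theorem Core0.core (h : Core0 E y' y) (hI : ∀ a : Au R, In a) (hy' : Fam R' y') (hy : Fam R y) (Γ : Subgroup (Au R)) :
    Core E Γ y' y :=
  ⟨h.ne, h.ind, h.ex, fun i' S hS n hn => by
    rw [Nat.card_congr (Equiv.subtypeEquivRight fun i => and_iff_left fun x _ => (hI _).fix (hy.iv i)), h.cnt i' n hn]
    exact Nat.card_congr (Equiv.subtypeEquivRight fun η => and_congr_right fun hη =>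
      (and_iff_left fun x hx => (hI _).fixE (hS x hx).1 (hy'.iv i') hη).symm)⟩

/-! ### the classification -/

/-- `a` permutes the letters by `c` -/
def Pm (em : ℕ → R.I) (r : ℕ) (a : MulAut R.W) (c : List ℕ) : Prop := ∀ b < r, a (R.cs.simple (em b)) = R.cs.simple (em (nth 0 c b))

/-- the permutation `p.1` is the conjugation by the word `p.2.1` after the power `p.2.2` of the twist -/
def inOK (t : Ty) (p : List ℕ × ℕ × ℕ) : Bool :=
  Nat.beq (run t.tbs p.2.1 t.n0) (run t.tab p.2.1 t.n0) && allLt t.r fun b => Nat.blt (nth 0 p.1 b) t.r &&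
    Nat.beq (step t.tab (nth 0 p.1 b) (run t.tab p.2.1 t.n0)) (run t.tab p.2.1 (step t.tab (t.σ^[p.2.2] b) t.n0))

/-- all symmetries are in `L` or `X` -/
def auOK (t : Ty) (L : List (List ℕ × ℕ × ℕ)) (X : List (List ℕ)) : Bool :=
  only t.r (mT t) t.σ (mT t) t.σ (L.map (·.1) ++ X) && L.all (inOK t)

variable {T : XT} {em : ℕ → R.I} {t : Ty}

theorem aut_ext (F : Fit R.cs R.h R.ψ t em Set.univ 1) {G : Type} [Group G] {a b : R.W →* G}
    (h : ∀ i < t.r, a (R.cs.simple (em i)) = b (R.cs.simple (em i))) (v : R.W) : a v = b v :=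
  DFunLike.congr_fun (R.cs.ext_simple fun i => by
    obtain ⟨c, hc, rfl⟩ := (F.mem i).1 trivial
    exact h c hc) v

theorem in_of (F : Fit R.cs R.h R.ψ t em Set.univ 1) (ht : t.ok = true) {a : Au R} {p : List ℕ × ℕ × ℕ} (ha : Pm em t.r a.1 p.1)
    (h : inOK t p = true) : In a := by
  simp only [inOK, Bool.and_eq_true, allLt_iff, Nat.beq_eq, Nat.blt_eq] at h
  have h0 := mem_WJ_univ R.cs
  have h1 : ∀ i, ∀ b < t.r, t.σ^[i] b < t.r ∧ (R.ψ ^ i) (R.cs.simple (em b)) = R.cs.simple (em (t.σ^[i] b)) := fun i b hb => by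
    induction i with
    | zero => exact ⟨hb, rfl⟩
    | succ i ih =>
      rw [Function.iterate_succ_apply', pow_succ', MulAut.mul_apply, ih.2]
      exact ⟨Ty.σ_lt ht ih.1, by simpa only [one_mul, mul_one] using F.tw _ ih.1⟩
  refine ⟨wd R.cs em t.r p.2.1, p.2.2, ?_, aut_ext F (a := a.1.toMonoidHom)
    (b := (MulAut.conj (wd R.cs em t.r p.2.1) * R.ψ ^ p.2.2).toMonoidHom) fun b hb => ?_⟩
  · have h2 := h.1
    rw [F.runs_one ht, F.run_one ht] at h2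
    rw [← one_mul (R.ψ _), F.tw_wd, mul_one, F.cd_inj ht (h0 _) (h0 _) h2]
  · obtain ⟨h2, h3⟩ := h.2 b hb
    rw [F.run_one ht, F.step_simple ht h2 (h0 _), ← cd_one (cs := R.cs) (h := R.h) (em := em) ht,
      F.step_simple ht (h1 _ b hb).1 (h0 _), F.run_cd ht _ (h0 _), mul_one] at h3
    show a.1 _ = _ * (R.ψ ^ p.2.2) _ * _
    rw [ha b hb, (h1 _ b hb).2, ← F.cd_inj ht (h0 _) (h0 _) h3, mul_inv_cancel_right]

theorem au_of (hT : T ∈ tabs) (F : Fit R.cs R.h R.ψ T.L.nd.toTy em Set.univ 1) {L : List (List ℕ × ℕ × ℕ)} {X : List (List ℕ)}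
    (h : auOK T.L.nd.toTy L X = true) (a : Au R) : In a ∨ ∃ c ∈ X, Pm em T.L.nd.r a.1 c := by
  obtain ⟨t, h0, h1, h2, h3⟩ := tabs_exc T hT
  have h4 := lt_of_fit h0 (fit_congr F h1 h2 h3)
  unfold mT Ty.σ at h4
  rw [h1, h2, h3] at h4
  rw [auOK, Bool.and_eq_true] at h
  obtain ⟨σ, h5, h6⟩ := h4.is h4 (π := Et.nd R a) ⟨(Et.nd R a).bijective.bijOn_univ, fun i _ j _ => Et.nd_au a i j,
    fun i _ => Et.nd_τ a i⟩
  obtain ⟨c, hc, h7⟩ := h5.of_only h.1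
  have h8 : Pm em T.L.nd.r a.1 c := fun b hb => by rw [Et.nd_spec, h6 b hb, h7 b hb]
  rcases List.mem_append.1 hc with hc | hc
  · obtain ⟨p, hp, rfl⟩ := List.mem_map.1 hc
    exact Or.inl (in_of F (tabs_good T hT).ok h8 (List.all_eq_true.1 h.2 p hp))
  · exact Or.inr ⟨c, hc, h8⟩

/-- **all symmetries are inner outside of the untwisted types `G₂`, `F₄`** -/
theorem in_tab (hT : T ∈ tabs) (h1 : T ≠ G2_tb) (h2 : T ≠ F4_tb) (F : Fit R.cs R.h R.ψ T.L.nd.toTy em Set.univ 1) (a : Au R) :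
    In a := by
  have key : ∀ L, auOK T.L.nd.toTy L [] = true → In a := fun L h => (au_of hT F h a).resolve_right nofun
  rcases mem_tabs.1 hT with rfl | rfl | rfl | rfl | rfl | rfl | rfl | rfl | rfl
  · exact absurd rfl h1
  · exact key [([0, 1], 1, 0), ([1, 0], 1, 1)] (by decide +kernel)
  · exact absurd rfl h2
  · exact key [([0, 1, 2, 3], 1, 0), ([3, 2, 1, 0], 1, 1)] (by decide +kernel)
  · exact key [([0, 1, 2, 3], 1, 0), ([2, 1, 3, 0], 1, 1), ([3, 1, 0, 2], 1, 2)] (by decide +kernel)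
  · exact key [([0, 1, 2, 3, 4, 5], 1, 0), ([5, 1, 4, 3, 2, 0], 0x1012031203243120324315431203243154320, 0)] (by decide +kernel)
  · exact key [([0, 1, 2, 3, 4, 5], 1, 0), ([5, 1, 4, 3, 2, 0], 1, 1)] (by decide +kernel)
  · exact key [([0, 1, 2, 3, 4, 5, 6], 1, 0)] (by decide +kernel)
  · exact key [([0, 1, 2, 3, 4, 5, 6, 7], 1, 0)] (by decide +kernel)

theorem au_two (hT : T ∈ tabs) (F : Fit R.cs R.h R.ψ T.L.nd.toTy em Set.univ 1) {L : List (List ℕ × ℕ × ℕ)} {c : List ℕ}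
    (h : auOK T.L.nd.toTy L [c] = true) (a : Au R) : In a ∨ Pm em T.L.nd.r a.1 c :=
  (au_of hT F h a).imp_right fun ⟨_, hc, h⟩ => List.mem_singleton.1 hc ▸ h

example := And.intro @Iv.eq_1 (And.intro @In.eq_1 (And.intro @Pm.eq_1 (And.intro @inOK.eq_1 @auOK.eq_1)))

end Cfsg.Agent.MO.Rc
end

-- part: MO/Xc/Top
section
/-!
# MO/Xc: the subcoset is the whole coset (helper78)

* `core_of_bij` : the families agree up to signs; `core_top` : `Core` if `E.j` is onto.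
-/

set_option autoImplicit false
set_option linter.unusedSectionVars false

namespace Cfsg.Agent.MO.Rc

open Cfsg CoxeterSystem SemidirectProduct Cfsg.Agent.Tits.Core Cfsg.Agent.Tits.Exchange Cfsg.Agent.MO.Crd Cfsg.Agent.MO.U
  Cfsg.Agent.LV.W Cfsg.Agent.Characters.Core

variable {R R' : RC} {E : Emb R' R} {Γ : Subgroup (Au R)} {ι ι' : Type} [Fintype ι] [Fintype ι'] {y : ι → R.W → ℂ}
  {y' : ι' → R'.W → ℂ} {T : XT} {em : ℕ → R.I}

theorem ac_j (E : Emb R' R) (m u : R'.W) : ac (inl (E.j m)) (E.el u) = E.el (m * u * (R'.ψ m)⁻¹) := by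
  rw [ac_inl, ← map_inv, ← map_inv, ← map_inv, E.el_ψ, E.el_mul]

theorem irr_const {G : Type} [Group G] [Finite G] {η : G → ℂ} (h : IsIrrCharacter G η) (e : ∀ g, η g = η 1) : η = 1 := by
  have := Fintype.ofFinite G
  by_contra h1
  have h2 := classInner_irr_ne h isIrr_one h1
  simp only [classInner_def, e, Pi.one_apply, map_one, mul_one, Finset.sum_const, Finset.card_univ, nsmul_eq_mul,
    Nat.card_eq_fintype_card] at h2
  rw [inv_mul_cancel_left₀ (Nat.cast_ne_zero.2 Fintype.card_ne_zero)] at h2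
  exact isIrr_apply_one_ne_zero h h2

theorem eq_of_mul (f' : Fam R' y') (H : Hy E Γ y' y) {i k : ι'} {c : ℂ} (h : ∀ u, y' i u = c * y' k u) : c = 1 ∧ i = k := by
  rcases f'.np i k c fun u _ => h u with rfl | rfl
  · exact ⟨rfl, H.inj' (funext fun u => (h u).trans (one_mul _))⟩
  · exact absurd (funext fun u => (h u).trans (neg_one_mul _)) (H.pos' i k)

theorem core_of_bij (hj : E.j.range = ⊤) (f' : Fam R' y') (f : Fam R y) (H : Hy E Γ y' y) (β : ι ≃ ι')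
    (h : ∀ i, ∃ ε, Sn ε ∧ ∀ u, y i (E.el u) = ε * y' (β i) u) : Core E Γ y' y := by
  classical
  have h0 : ∀ v, v ∈ E.j.range := fun v => hj ▸ Subgroup.mem_top v
  have h1 : ∀ v, ∃ u, E.el u = v := fun v => E.mem_el.2 (h0 _)
  have h2 : ∀ i', E.os y' i' = y' i' := fun i' => Finset.sum_eq_single_of_mem i' (by simpa using ⟨1, Emb.Rl.refl E _⟩)
    fun k hk hn => absurd (H.inj' (funext fun u => by
      obtain ⟨n, -, h2⟩ := (Finset.mem_filter.1 hk).2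
      obtain ⟨m, rfl⟩ := h0 n
      rw [← E.ex_el (y' k), ← h2, ac_j, E.ex_el, (f'.iv i').conj])) hn
  have h3 : ∀ i, E.Ov (y i) 1 (y' (β i)) := fun i => by
    obtain ⟨ε, rfl | rfl, h3⟩ := h i
    exacts [Or.inl fun u => by rw [h3, Nat.cast_one], Or.inr fun u => by rw [h3, Nat.cast_one, neg_mul]]
  have h4 : ∀ i i' n, E.Ov (y i) n (y' i') → n = 1 ∧ β i = i' := fun i i' n h4 => by
    obtain ⟨ε, h5, h6⟩ := h i
    have h7 : ∃ δ, Sn δ ∧ ∀ u, y i (E.el u) = δ * (n * y' i' u) :=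
      h4.elim (fun h => ⟨1, Or.inl rfl, fun u => by rw [h, one_mul]⟩) fun h => ⟨-1, Or.inr rfl, fun u => by rw [h, neg_one_mul]⟩
    obtain ⟨δ, h7, h8⟩ := h7
    obtain ⟨h9, h10⟩ := eq_of_mul f' H (i := β i) (k := i') (c := ε * δ * n) fun u => by
      rw [mul_assoc, mul_assoc, ← h8, h6, ← mul_assoc, h5.sq, one_mul]
    refine ⟨?_, h10⟩
    rcases h5.mul h7 with e | e <;> rw [e] at h9
    · exact_mod_cast (one_mul _).symm.trans h9
    · have : ((n + 1 : ℕ) : ℂ) = 0 := by push_cast; linear_combination -h9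
      exact absurd (Nat.cast_eq_zero.1 this) n.succ_ne_zero
  refine ⟨fun i' e => ?_, fun i' k' a b ha e => ?_, fun i => Or.inr ⟨β i, 1, Nat.one_pos, h2 _ ▸ h3 i⟩, fun i' S hS n _ => ?_⟩
  · obtain ⟨u, -, hu⟩ := f'.ne i'
    exact hu (congrFun ((h2 i').symm.trans e) u)
  · rw [h2, h2] at e
    rw [(eq_of_mul f' H (i := i') (k := k') (c := a⁻¹ * b) fun u => by
      rw [mul_assoc, ← smul_eq_mul b, ← Pi.smul_apply, ← e, Pi.smul_apply, smul_eq_mul, inv_mul_cancel_left₀ ha]).2]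
    exact ⟨1, Emb.Rl.refl E _⟩
  · rw [h2]
    have h5 : ∀ η ∈ E.Et (y' i'), η = 1 := fun η hη => irr_const hη.1 fun v => hη.2 v (h0 _)
    by_cases hn : n = 1
    · subst hn
      refine (Nat.card_eq_one_iff_unique.2 ⟨⟨fun a b => Subtype.ext (β.injective ((h4 _ _ _ a.2.1).2.trans (h4 _ _ _ b.2.1).2.symm))⟩,
        ⟨β.symm i', by simpa using h3 (β.symm i'), fun x hx u => ?_⟩⟩).trans (Nat.card_eq_one_iff_unique.2
          ⟨⟨fun a b => Subtype.ext ((h5 _ a.2.1).trans (h5 _ b.2.1).symm)⟩,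
            ⟨1, ⟨isIrr_one, fun _ _ => rfl⟩, Nat.cast_one.symm, fun _ _ _ _ _ => rfl⟩⟩).symm
      obtain ⟨ε, -, h6⟩ := h (β.symm i')
      have h7 : ∀ v, y (β.symm i') v = ε * E.ex (y' i') v := fun v => by
        obtain ⟨u, rfl⟩ := h1 v
        rw [h6, E.ex_el, β.apply_symm_apply]
      rw [← (f.iv _).conj x.left, h7 u, ← (hS x hx).1.2 u, ← h7]
      rfl
    · rw [Nat.card_eq_zero.2 (Or.inl ⟨fun a => hn (h4 _ _ _ a.2.1).1⟩), Nat.card_eq_zero.2 (Or.inl ⟨fun a => hn ?_⟩)]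
      exact Nat.cast_eq_one.1 (a.2.2.1.symm.trans (congrFun (h5 _ a.2.1) 1))

theorem j_wd (E : Emb R' R) {em' : ℕ → R'.I} (h : ∀ a, E.π (em' a) = em a) (r n : ℕ) : E.j (wd R'.cs em' r n) = wd R.cs em r n := by
  unfold wd
  generalize 256 = f
  induction f generalizing n with
  | zero => exact map_one _
  | succ f ih =>
    show E.j (if n ≤ 1 then 1 else wdF R'.cs em' r id f (n / 16) * sl R'.cs em' r id (n % 16)) =
      if n ≤ 1 then 1 else wdF R.cs em r id f (n / 16) * sl R.cs em r id (n % 16)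
    split_ifs
    · exact map_one _
    · rw [map_mul, ih, sl, sl]
      split_ifs
      exacts [by rw [E.simple, h], by rw [map_one]]

/-- **the whole coset** -/
theorem core_top (hT : T ∈ tabs) (F : Fit R.cs R.h R.ψ T.L.nd.toTy em Set.univ 1) (hj : E.j.range = ⊤) (l' : LusP tabs mE R' y')
    (l : LusP tabs mE R y) (f' : Fam R' y') (f : Fam R y) (H : Hy E Γ y' y) : Core E Γ y' y := by
  have h0 : ∀ v, v ∈ WJ R.cs (Set.range E.π) := fun v => E.range_j ▸ hj ▸ Subgroup.mem_top v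
  choose p hp using fun i => mem_of_simple_mem (h := R.h) (h0 (R.cs.simple i))
  have hw : E.w = 1 := by
    have h1 := E.min _ (h0 E.w⁻¹)
    rw [inv_mul_cancel, R.cs.length_one] at h1
    exact R.cs.length_eq_zero_iff.1 (by omega)
  have h1 : ∀ u, E.j (R'.ψ u) = R.ψ (E.j u) := fun u => by simpa only [hw, one_mul, mul_one] using E.tw u
  have F' : Fit R'.cs R'.h R'.ψ T.L.nd.toTy (fun a => p (em a)) Set.univ 1 :=
    ⟨fun a ha b hb => by rw [E.car, hp, hp, F.car a ha b hb], fun i => iff_of_true trivial (by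
      obtain ⟨a, ha, e⟩ := (F.mem (E.π i)).1 trivial
      exact ⟨a, ha, E.π_inj (by rw [hp, e])⟩), R'.aut, LV.T.min_one, fun a ha => E.inj (by
        rw [one_mul, mul_one, h1, E.simple, E.simple, hp, hp]
        simpa only [one_mul, mul_one] using F.tw a ha)⟩
  obtain ⟨lab, h2, h3⟩ := tv_of hT F l
  obtain ⟨lab', h2', h3'⟩ := tv_of hT F' l'
  have h4 : ∀ c, Nonempty ({i // lab i = c} ≃ {i // lab' i = c}) := fun c => Finite.card_eq.1 (by
    by_cases hc : c < T.nu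
    · rw [h3 c hc, h3' c hc]
    · have : IsEmpty {i // lab i = c} := ⟨fun a => hc (a.2 ▸ (h2 a.1).1)⟩
      have : IsEmpty {i // lab' i = c} := ⟨fun a => hc (a.2 ▸ (h2' a.1).1)⟩
      rw [Nat.card_of_isEmpty, Nat.card_of_isEmpty])
  refine core_of_bij hj f' f H (Equiv.ofFiberEquiv fun c => (h4 c).some) fun i => ?_
  have h5 := Equiv.ofFiberEquiv_map (fun c => (h4 c).some) i
  generalize Equiv.ofFiberEquiv (fun c => (h4 c).some) i = i' at h5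
  obtain ⟨-, ε, h6, h7⟩ := h2 i
  obtain ⟨-, ε', h6', h7'⟩ := h2' i'
  refine ⟨ε * ε', h6.mul h6', fun u => ?_⟩
  obtain ⟨k, hk, g, -, e⟩ := F'.cover' (tabs_good T hT) (mem_WJ_univ _ u)
  have h8 := congrArg E.j e
  rw [mul_one, map_mul, map_mul, h1, el, mul_one, j_wd E fun a => hp (em a)] at h8
  rw [mul_one] at e
  rw [(f'.iv i').of_eq e, h7' k hk, Emb.el, hw, mul_one, (f.iv i).of_eq h8, ← mul_one (wd _ _ _ _), ← el, h7 k hk, h5, mul_assoc,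
    ← mul_assoc ε', h6'.sq, one_mul]

end Cfsg.Agent.MO.Rc
end

-- part: MO/Xc/Reg
section
/-!
# MO/Xc: regular eigenvalues (helper78)

* `core_bot` : `Core` for a subcoset with one element, from two counts;
* `regOK`, `gamOK` : the checks; `core_reg` (inner symmetries), `core_gam` (types `G₂`, `F₄`).
-/

set_option autoImplicit false
set_option linter.unusedSectionVars false

namespace Cfsg.Agent.MO.Rc

open Cfsg CoxeterSystem SemidirectProduct Cfsg.Agent.Tits.Core Cfsg.Agent.Tits.Exchange Cfsg.Agent.MO.Crd Cfsg.Agent.MO.U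
  Cfsg.Agent.LV.W Cfsg.Agent.Characters.Core Cfsg.Agent.MO.WC

variable {R R' : RC} {E : Emb R' R} {Γ : Subgroup (Au R)} {ι ι' : Type} [Fintype ι] [Fintype ι'] {y : ι → R.W → ℂ}
  {y' : ι' → R'.W → ℂ} {T : XT} {em : ℕ → R.I}

/-- `z = ± n` -/
def Pn (z : ℂ) (n : ℕ) : Prop := z = n ∨ z = -n

theorem pn_iff {ε : ℂ} (h : Sn ε) (z : ℤ) (n : ℕ) : Pn (ε * z) n ↔ z.natAbs = n := by
  rw [Int.natAbs_eq_iff, Pn]
  rcases h with rfl | rfl
  · rw [one_mul]; norm_cast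
  · rw [neg_one_mul, neg_inj, neg_eq_iff_eq_neg, or_comm]; norm_cast

theorem core_bot (hj : E.j.range = ⊥) (f' : Fam R' y') (f : Fam R y) (H : Hy E Γ y' y) {X : Au R → Prop}
    (hX : ∀ a, In a ∨ X a) (hX' : ∀ a b, X a → X b → a = b)
    (h0 : ∀ n, 0 < n → Nat.card {i // Pn (y i E.w) n} =
      Nat.card {η : Cen R.cs R.ψ Set.univ E.w → ℂ // IsIrrCharacter _ η ∧ η 1 = n})
    (h1 : ∀ a, X a → ∀ m, m * a.1 E.w * (R.ψ m)⁻¹ = E.w → ∀ n, 0 < n → Nat.card {i // Pn (y i E.w) n ∧ Fix a (y i)} =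
      Nat.card {η : Cen R.cs R.ψ Set.univ E.w → ℂ // IsIrrCharacter _ η ∧ η 1 = n ∧ Fx _ a.1 m η}) :
    Core E Γ y' y := by
  classical
  have a0 : ∀ v, v ∈ E.j.range → v = 1 := fun v hv => Subgroup.mem_bot.1 (hj ▸ hv)
  have a1 : ∀ u : R'.W, u = 1 := fun u => E.inj ((a0 _ ⟨u, rfl⟩).trans (map_one _).symm)
  have a2 : ∀ u, E.el u = E.w := fun u => by rw [a1 u, E.el_one]
  obtain ⟨i₀, a3⟩ := f'.one
  obtain ⟨ε, a3, a4⟩ : ∃ ε, Sn ε ∧ y' i₀ 1 = ε :=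
    a3.elim (fun h => ⟨1, Or.inl rfl, h 1 (one_mem _)⟩) fun h => ⟨-1, Or.inr rfl, h 1 (one_mem _)⟩
  have a5 : ∀ k, k = i₀ := fun k => (eq_of_mul f' H (c := y' k 1 * ε) fun u => by rw [a1 u, a4, mul_assoc, a3.sq, mul_one]).2
  have a6 : E.os y' i₀ = y' i₀ := Finset.sum_eq_single_of_mem i₀ (by simpa using ⟨1, Emb.Rl.refl E _⟩) fun k _ hn => absurd (a5 k) hn
  have a7 : ∀ i n, E.Ov (y i) n (y' i₀) ↔ Pn (y i E.w) n := fun i n => by
    have h : ∀ u, y' i₀ u = ε := fun u => a1 u ▸ a4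
    rcases a3 with rfl | rfl
    · simp [Emb.Ov, Pn, a2, h]
    · simp [Emb.Ov, Pn, a2, h, or_comm]
  have a8 : ∀ x : Ex R, x ∈ E.St (y' i₀) ↔ ac x E.w = E.w := fun x => by
    have h : ∀ v, v ∈ Set.range E.el ↔ v = E.w := fun v => ⟨fun ⟨u, e⟩ => e ▸ a2 u, fun e => ⟨1, e ▸ a2 1⟩⟩
    refine ⟨fun hx => (h _).1 ((hx.1 _).1 ((h _).2 rfl)), fun hx => ?_⟩
    have h' : ∀ v, v ∈ Set.range E.el ↔ ac x v ∈ Set.range E.el := fun v => by
      rw [h, h]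
      exact ⟨fun e => e ▸ hx, fun e => Function.LeftInverse.injective (ac_inv' x) (e.trans hx.symm)⟩
    refine ⟨h', fun v => ?_⟩
    by_cases hv : v ∈ Set.range E.el
    · rw [(h v).1 hv, hx]
    · rw [Et.ex_out E _ hv, Et.ex_out E _ fun k => hv ((h' v).2 k)]
  have a9 : Cen R.cs R.ψ Set.univ E.w = E.N0 (y' i₀) := Subgroup.ext fun v => by
    rw [mem_Cen, and_iff_right (mem_WJ_univ _ _), Emb.N0, Subgroup.mem_comap, a8, ac_inl, mul_inv_eq_iff_eq_mul]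
  rw [a9] at h0 h1
  have b1 : ∀ η, η ∈ E.Et (y' i₀) ↔ IsIrrCharacter _ η := fun η =>
    and_iff_left fun v hv => congrArg η (Subtype.ext (a0 _ hv))
  refine ⟨fun i' e => ?_, fun i' k' _ _ _ _ => a5 i' ▸ a5 k' ▸ ⟨1, Emb.Rl.refl E _⟩, fun i => ?_, fun i' S hS n hn => ?_⟩
  · rw [a5 i', a6] at e
    rw [e] at a4
    rcases a3 with rfl | rfl <;> simp at a4
  · obtain ⟨z, hz⟩ := f.int i E.w (mem_WJ_univ _ _)
    by_cases h : z = 0
    · exact Or.inl fun u => by rw [a2, hz, h, Int.cast_zero]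
    · refine Or.inr ⟨i₀, z.natAbs, Int.natAbs_pos.2 h, a6 ▸ (a7 _ _).2 ?_⟩
      rw [hz, ← one_mul (z : ℂ), pn_iff (Or.inl rfl)]
  · obtain rfl := a5 i'
    rw [a6]
    by_cases h : ∃ x₀ ∈ S, X x₀.right
    · obtain ⟨x₀, h2, h3⟩ := h
      refine Eq.trans ?_ ((h1 _ h3 x₀.left ((a8 _).1 (hS _ h2).1) n hn).trans ?_)
      · exact Nat.card_congr (Equiv.subtypeEquivRight fun i => and_congr (a7 i n) ⟨fun h => h x₀ h2, fun h x hx =>
          (hX x.right).elim (·.fix (f.iv i)) fun h4 => hX' _ _ h3 h4 ▸ h⟩)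
      refine Nat.card_congr (Equiv.subtypeEquivRight fun η => ⟨fun h => ⟨(b1 η).2 h.1, h.2.1, fun x hx => ?_⟩,
        fun h => ⟨h.1.1, h.2.1, h.2.2 x₀ h2⟩⟩)
      refine (hX x.right).elim (·.fixE (hS x hx).1 (f'.iv _) ((b1 η).2 h.1)) fun h4 => ?_
      have h5 := mul_mem (hS x hx).1 (inv_mem (hS _ h2).1)
      have h6 : x * x₀⁻¹ ∈ Et.SE E ⊤ η := ⟨h5, trivial, In.fixE ⟨1, 0, map_one _, fun v => by simp [hX' _ _ h3 h4]⟩ h5 (f'.iv _)
        ((b1 η).2 h.1)⟩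
      have h7 := mul_mem h6 (⟨(hS _ h2).1, trivial, h.2.2⟩ : x₀ ∈ Et.SE E ⊤ η)
      rw [inv_mul_cancel_right] at h7
      exact h7.2.2
    · have h2 : ∀ x ∈ S, In x.right := fun x hx => (hX _).resolve_right fun h2 => h ⟨x, hx, h2⟩
      rw [Nat.card_congr (Equiv.subtypeEquivRight fun i => (and_iff_left fun x hx => (h2 x hx).fix (f.iv i)).trans (a7 i n)), h0 n hn]
      exact Nat.card_congr (Equiv.subtypeEquivRight fun η => ⟨fun h => ⟨(b1 η).2 h.1, h.2, fun x hx =>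
        (h2 x hx).fixE (hS x hx).1 (f'.iv _) ((b1 η).2 h.1)⟩, fun h => ⟨h.1.1, h.2.1⟩⟩)

/-! ### the tables -/

/-- evaluation of `x` first -/
def frc {β : Type} (x : ℕ) (f : ℕ → β) : β := Nat.rec (f 0) (fun n _ => f (Nat.succ n)) x

theorem frc_eq {β : Type} (x : ℕ) (f : ℕ → β) : frc x f = f x := by cases x <;> rfl

/-- the absolute values of the rows with the property `q` at the class `k` -/
def dl (T : XT) (k : ℕ) (q : ℕ → Bool) : List ℕ :=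
  (List.range T.nu).flatMap fun u => frc (T.Y u k).natAbs fun x => cond (Nat.blt 0 x && q u) (List.replicate (T.m u) x) []

/-- the values are the degrees `ds` -/
def regOK (T : XT) (k : ℕ) (q : ℕ → Bool) (ds : List ℕ) : Bool := Nat.blt k T.L.nd.K && (dl T k q).isPerm ds

theorem card_lab {lab : ι → ℕ} (h1 : ∀ i, lab i < T.nu) (h2 : ∀ u < T.nu, Nat.card {i // lab i = u} = T.m u) {k : ℕ}
    {q : ℕ → Bool} {ds : List ℕ} (h : regOK T k q ds = true) {n : ℕ} (hn : 0 < n) :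
    Nat.card {i // (T.Y (lab i) k).natAbs = n ∧ q (lab i) = true} = ds.count n := by
  rw [regOK, Bool.and_eq_true, List.isPerm_iff] at h
  rw [← h.2.count_eq, dl, List.count_flatMap, Nat.card_eq_fintype_card, Fintype.card_subtype,
    Finset.card_eq_sum_card_fiberwise (f := lab) (t := Finset.range T.nu) fun i _ => Finset.mem_range.2 (h1 i)]
  refine Eq.trans (Finset.sum_congr rfl fun u hu => ?_) (rfl : ∑ u ∈ Finset.range T.nu, _ = (List.map _ (List.range T.nu)).sum)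
  rw [Function.comp_apply, frc_eq, Finset.filter_filter]
  by_cases h3 : (T.Y u k).natAbs = n ∧ q u = true
  · rw [h3.1, h3.2, Nat.blt_eq.mpr hn, Bool.and_true, cond_true, List.count_replicate_self, ← h2 u (Finset.mem_range.1 hu),
      Nat.card_eq_fintype_card, Fintype.card_subtype]
    exact congrArg _ (Finset.filter_congr fun i _ => and_iff_right_of_imp fun e => e ▸ h3)
  · rw [Finset.filter_false_of_mem fun i _ h4 => h3 (by rw [← And.right h4]; exact h4.1), Finset.card_empty]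
    cases h4 : q u
    · simp
    · cases Nat.blt 0 (T.Y u k).natAbs
      · simp
      · exact (List.count_eq_zero.2 fun h5 => h3 ⟨(List.eq_of_mem_replicate h5).symm, h4⟩).symm

theorem cnt_reg (F : Fit R.cs R.h R.ψ T.L.nd.toTy em Set.univ 1) (l : TV T R em y) (f : Fam R y) {k : ℕ} {ds : List ℕ}
    (hc : CenK T.L.nd k ds) (h : regOK T k (fun _ => true) ds = true) {w : R.W} (hg : ∃ g, w * R.ψ g = g * el R.cs T.L.nd em 1 k)
    (n : ℕ) (hn : 0 < n) : Nat.card {i // Pn (y i w) n} =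
      Nat.card {η : Cen R.cs R.ψ Set.univ w → ℂ // IsIrrCharacter _ η ∧ η 1 = n} := by
  obtain ⟨g, hg⟩ := hg
  obtain ⟨lab, h1, h2⟩ := l
  rw [hc F w ⟨g, mem_WJ_univ _ _, hg⟩, ← card_lab (fun i => (h1 i).1) h2 h hn]
  refine Nat.card_congr (Equiv.subtypeEquivRight fun i => ?_)
  obtain ⟨ε, h3, h4⟩ := (h1 i).2
  rw [(f.iv i).of_eq hg, h4 k (Nat.blt_eq.mp (Bool.and_eq_true_iff.1 h).1), pn_iff h3, and_iff_left rfl]

/-- **regular eigenvalues** -/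
theorem core_reg (hT : T ∈ tabs) (F : Fit R.cs R.h R.ψ T.L.nd.toTy em Set.univ 1) (hI : ∀ a : Au R, In a) (l : LusP tabs mE R y)
    (f' : Fam R' y') (f : Fam R y) (H : Hy E Γ y' y) {k : ℕ} {ds : List ℕ} (hc : CenK T.L.nd k ds)
    (h : regOK T k (fun _ => true) ds = true) (hj : E.j.range = ⊥) (hg : ∃ g, E.w * R.ψ g = g * el R.cs T.L.nd em 1 k) :
    Core E Γ y' y :=
  core_bot hj f' f H (X := fun _ => False) (fun a => Or.inl (hI a)) nofun (cnt_reg F (tv_of hT F l) f hc h hg) nofun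

/-- the graph automorphism maps the class `k` to the class `c k % 256` -/
def gamOK (nd nd' : Nd) (c : List ℕ) : Bool :=
  Nat.beq nd'.r nd.r && decide (nd'.AL = nd.AL) && allLt nd.r (fun a => Nat.beq (nd.σ a) a) &&
    allLt nd.K fun k => nd.cj (run nd'.tbs (nd.e k)) (nth 0 c k) && Nat.blt (Nat.mod (nth 0 c k) 256) nd.K

/-- the row is fixed by the graph automorphism -/
def gq (T : XT) (c : List ℕ) (u : ℕ) : Bool := allLt T.L.nd.K fun k => decide (T.Y u (Nat.mod (nth 0 c k) 256) = T.Y u k)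

/-- **regular eigenvalues, with a graph automorphism** -/
theorem core_gam (hT : T ∈ tabs) (F : Fit R.cs R.h R.ψ T.L.nd.toTy em Set.univ 1) {nd' : Nd} (G' : nd'.Good)
    {L : List (List ℕ × ℕ × ℕ)} (hA : auOK T.L.nd.toTy L [nd'.sg] = true) {c : List ℕ} (hG : gamOK T.L.nd nd' c = true)
    (l : LusP tabs mE R y) (f' : Fam R' y') (f : Fam R y) (H : Hy E Γ y' y) {k : ℕ} {ds ds' : List ℕ} (hc : CenK T.L.nd k ds)
    (hc' : CenA T.L.nd nd' k ds') (h : (regOK T k (fun _ => true) ds && regOK T k (gq T c) ds') = true) (hj : E.j.range = ⊥)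
    (hg : ∃ g, E.w * R.ψ g = g * el R.cs T.L.nd em 1 k) : Core E Γ y' y := by
  have G := tabs_good T hT
  have h0 := mem_WJ_univ R.cs
  simp only [gamOK, Bool.and_eq_true, Nat.beq_eq, decide_eq_true_eq, allLt_iff, Nat.blt_eq] at hG h
  obtain ⟨⟨⟨g1, g2⟩, g3⟩, g4⟩ := hG
  refine core_bot hj f' f H (au_two hT F hA) (fun a b ha hb => Subtype.ext (MulEquiv.ext (aut_ext F (a := a.1.toMonoidHom)
    (b := b.1.toMonoidHom) fun i hi => (ha i hi).trans (hb i hi).symm))) (cnt_reg F (tv_of hT F l) f hc h.1 hg) fun a ha m hm n hn => ?_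
  have hψ : R.ψ = 1 := MulEquiv.ext (aut_ext F (a := R.ψ.toMonoidHom) (b := MonoidHom.id _) fun i hi => by
    have h := F.tw i hi
    rwa [one_mul, mul_one, g3 i hi] at h)
  have F2 : Fit R.cs R.h a.1 nd'.toTy em Set.univ 1 := ⟨g1 ▸ g2 ▸ F.car, g1 ▸ F.mem, fun i => ⟨_, Et.nd_spec a i⟩, F.min,
    fun i hi => by rw [one_mul, mul_one, ha i (g1 ▸ hi)]; rfl⟩
  obtain ⟨g, hg⟩ := hg
  obtain ⟨lab, h1, h2⟩ := tv_of hT F l
  have h3 := hc' (hψ ▸ F) F2 E.w ⟨g, h0 _, by simpa only [hψ, MulAut.one_apply] using hg⟩ m (h0 _)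
    (by simpa only [hψ, MulAut.one_apply] using hm) n
  rw [← hψ] at h3
  refine Eq.trans ?_ h3.symm
  rw [← card_lab (fun i => (h1 i).1) h2 h.2 hn]
  refine Nat.card_congr (Equiv.subtypeEquivRight fun i => ?_)
  obtain ⟨ε, h4, h5⟩ := (h1 i).2
  have h6 : ∀ j < T.L.nd.K, y i (a.1 (el R.cs T.L.nd em 1 j)) = ε * T.Y (lab i) (Nat.mod (nth 0 c j) 256) := fun j hj => by
    rw [← h5 _ (g4 j hj).2, el, mul_one, ← one_mul (a.1 _), ← g1, F2.tw_wd]
    exact F.conj (fun g _ => f.iv i g) (F.cj G (h0 _) (fun u hu => by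
      simpa only [cd, g1] using F2.runs_cd G'.ok (T.L.nd.e j) hu) (g4 j hj).1 (g4 j hj).2)
  rw [(f.iv i).of_eq hg, h5 k (Nat.blt_eq.mp (Bool.and_eq_true_iff.1 h.1).1), pn_iff h4, gq, allLt_iff]
  refine and_congr_right fun _ => ⟨fun h7 j hj => decide_eq_true ?_, fun h7 u => ?_⟩
  · have h8 := (h6 j hj).symm.trans ((h7 _).trans (h5 j hj))
    exact Int.cast_injective (mul_left_cancel₀ (left_ne_zero_of_mul_eq_one h4.sq) h8)
  · obtain ⟨j, hj, t, -, e⟩ := F.cover' G (h0 u)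
    rw [mul_one] at e
    have e' := congrArg a.1 e
    rw [map_mul, map_mul, a.2.2] at e'
    rw [(f.iv i).of_eq e, (f.iv i).of_eq e', h6 j hj, h5 j hj]
    exact congrArg (fun z : ℤ => ε * z) (of_decide_eq_true (h7 j hj))

example := And.intro @Pn.eq_1 (And.intro @frc.eq_1 (And.intro @dl.eq_1 (And.intro @regOK.eq_1 (And.intro @gamOK.eq_1 @gq.eq_1))))

end Cfsg.Agent.MO.Rc
end

-- part: MO/WT/T8
section
/-! MO/WT: generated data (helper27; tools/P3/h27/wt3.py) -/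

set_option autoImplicit false
set_option maxRecDepth 100000

namespace Cfsg.Agent.MO.WT

open Cfsg.Agent.LV.W

private def pkP (B : ℕ) (l : List ℤ) : ℕ :=
  List.rec 0 (fun a _ ih => Nat.add (Int.casesOn a (fun n => n) fun _ => 0) (Nat.mul B ih)) l

private def pkN (B : ℕ) (l : List ℤ) : ℕ :=
  List.rec 0 (fun a _ ih => Nat.add (Int.casesOn a (fun _ => 0) Nat.succ) (Nat.mul B ih)) l

private theorem pk_eq (B : ℕ) (l : List ℤ) : Int.subNatNat (pkP B l) (pkN B l) = pkz B l := by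
  rw [Int.subNatNat_eq_coe]
  induction l with
  | nil => rfl
  | cons a l ih =>
    show _ = a + B * pkz B l
    rw [← ih]
    cases a with
    | ofNat n =>
      show ((n + B * pkP B l : ℕ) : ℤ) - (0 + B * pkN B l : ℕ) = n + _
      push_cast; ring
    | negSucc n =>
      show ((0 + B * pkP B l : ℕ) : ℤ) - (n + 1 + B * pkN B l : ℕ) = _
      rw [Int.negSucc_eq]; push_cast; ring

private def fN {α : Type} (n : ℕ) (k : ℕ → α) : α := Nat.casesOn n (k 0) fun m => k m.succ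

private def fZ {α : Type} (l : List ℤ) : (List ℤ → α) → α :=
  List.rec (fun k => k []) (fun a _ ih k => Int.casesOn a (fun n => fN n fun m => ih fun l' => k (.ofNat m :: l'))
    fun n => fN n fun m => ih fun l' => k (.negSucc m :: l')) l

private theorem fZ_eq {α : Type} (l : List ℤ) (k : List ℤ → α) : fZ l k = k l := by
  induction l generalizing k with
  | nil => rfl
  | cons a l ih => rcases a with (_ | n) | (_ | n) <;> exact ih _

private theorem go_of {nd : Nd} {pr : List Ins} (B : ℕ) (hB : nd.B = B)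
    (H : (fZ (nd.XC.map fun l => Int.subNatNat (pkP B l) (pkN B l)) fun XP => go nd XP pr [] 1) = true) :
    go nd nd.XP pr [] 1 = true := by
  rw [fZ_eq, funext (pk_eq B), ← hB] at H
  exact H

private noncomputable def _root_.Cfsg.Agent.LsF.f83296e_0 : {f // @Int.subNatNat = f} := ⟨_, by first | (delta Int.subNatNat; rewrite [Cfsg.Agent.LsF.nsub_pat]; (try delta Int.negOfNat.match_1); (try delta Nat.casesOn); exact rfl) | exact rfl⟩
private noncomputable def _root_.Cfsg.Agent.LsF.f83296e_1 : {f // @Cfsg.Agent.LV.W.dz = f} := ⟨_, by first | (delta Cfsg.Agent.LV.W.dz; rewrite [Cfsg.Agent.LsF.cond_eq]; exact rfl) | exact rfl⟩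
private noncomputable def _root_.Cfsg.Agent.LsF.f83296e_3 : {f // @Cfsg.Agent.LV.W.unz = f} := ⟨_, by first | (delta Cfsg.Agent.LV.W.unz; rewrite [Cfsg.Agent.LsF.f83296e_1.2, Cfsg.Agent.LsF.map_eq]; exact rfl) | exact rfl⟩
private noncomputable def _root_.Cfsg.Agent.LsF.f83296e_4 : {f // @Cfsg.Agent.LV.W.E8 = f} := ⟨_, by first | (delta Cfsg.Agent.LV.W.E8; rewrite [Cfsg.Agent.LsF.f83296e_3.2, Cfsg.Agent.LsF.ineg_pat, Cfsg.Agent.LsF.map_eq]; exact rfl) | exact rfl⟩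
private noncomputable def _root_.Cfsg.Agent.LsF.f83296e_5 : {f // @Cfsg.Agent.LV.W.allLt = f} := ⟨_, by first | (delta Cfsg.Agent.LV.W.allLt; rewrite [Cfsg.Agent.LsF.and_eq]; exact rfl) | exact rfl⟩
private noncomputable def _root_.Cfsg.Agent.LsF.f83296e_6 : {f // @Cfsg.Agent.MO.WT.injOK = f} := ⟨_, by first | (delta Cfsg.Agent.MO.WT.injOK; rewrite [Cfsg.Agent.LsF.f83296e_5.2, Cfsg.Agent.LsF.or_eq, Cfsg.Agent.LsF.instIDecEq_eq, Cfsg.Agent.LsF.dNot_eq, Cfsg.Agent.LsF.decide_eq]; exact rfl) | exact rfl⟩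
private noncomputable def _root_.Cfsg.Agent.LsF.f83296e_7 : {f // @Cfsg.Agent.LV.W.all2 = f} := ⟨_, by first | (delta Cfsg.Agent.LV.W.all2; rewrite [Cfsg.Agent.LsF.and_eq, Cfsg.Agent.LsF.isEmpty_eq]; (try delta List.casesOn); exact rfl) | exact rfl⟩
private noncomputable def _root_.Cfsg.Agent.LsF.f83296e_8 : {f // @Cfsg.Agent.LV.W.runF = f} := ⟨_, by first | (delta Cfsg.Agent.LV.W.runF; rewrite [Cfsg.Agent.LsF.cond_eq]; exact rfl) | exact rfl⟩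
private noncomputable def _root_.Cfsg.Agent.LsF.f83296e_9 : {f // @Cfsg.Agent.LV.W.run = f} := ⟨_, by first | (delta Cfsg.Agent.LV.W.run; rewrite [Cfsg.Agent.LsF.f83296e_8.2]; exact rfl) | exact rfl⟩
private noncomputable def _root_.Cfsg.Agent.LsF.f83296e_10 : {f // @Cfsg.Agent.MO.WT.st' = f} := ⟨_, by first | (delta Cfsg.Agent.MO.WT.st'; rewrite [Cfsg.Agent.LsF.cond_eq]; exact rfl) | exact rfl⟩
private noncomputable def _root_.Cfsg.Agent.LsF.f83296e_11 : {f // @Cfsg.Agent.MO.WT.mem = f} := ⟨_, by first | (delta Cfsg.Agent.MO.WT.mem; rewrite [Cfsg.Agent.LsF.cond_eq]; exact rfl) | exact rfl⟩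
private noncomputable def _root_.Cfsg.Agent.LsF.f83296e_12 : {f // @Cfsg.Agent.MO.WT.ndp = f} := ⟨_, by first | (delta Cfsg.Agent.MO.WT.ndp; rewrite [Cfsg.Agent.LsF.f83296e_11.2, Cfsg.Agent.LsF.cond_eq]; exact rfl) | exact rfl⟩
private noncomputable def _root_.Cfsg.Agent.LsF.f83296e_13 : {f // @Cfsg.Agent.MO.WT.orbOK = f} := ⟨_, by first | (delta Cfsg.Agent.MO.WT.orbOK; rewrite [Cfsg.Agent.LsF.f83296e_6.2, Cfsg.Agent.LsF.f83296e_7.2, Cfsg.Agent.LsF.f83296e_9.2, Cfsg.Agent.LsF.f83296e_10.2, Cfsg.Agent.LsF.f83296e_11.2, Cfsg.Agent.LsF.f83296e_12.2, Cfsg.Agent.LsF.f83296e_5.2, Cfsg.Agent.LsF.and_eq, Cfsg.Agent.LsF.all_eq]; exact rfl) | exact rfl⟩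
private noncomputable def _root_.Cfsg.Agent.LsF.f83296e_14 : {f // @Cfsg.Agent.LV.W.sumAbs = f} := ⟨_, by first | (delta Cfsg.Agent.LV.W.sumAbs; rewrite [Cfsg.Agent.LsF.natAbs_eq]; exact rfl) | exact rfl⟩
private noncomputable def _root_.Cfsg.Agent.LsF.f83296e_15 : {f // @Cfsg.Agent.LV.W.dotP = f} := ⟨_, by first | (delta Cfsg.Agent.LV.W.dotP; rewrite [Cfsg.Agent.LsF.iadd_pat, Cfsg.Agent.LsF.imul_pat]; exact rfl) | exact rfl⟩
private noncomputable def _root_.Cfsg.Agent.LsF.f83296e_16 : {f // @Cfsg.Agent.LV.W.pkz = f} := ⟨_, by first | (delta Cfsg.Agent.LV.W.pkz; rewrite [Cfsg.Agent.LsF.iadd_pat, Cfsg.Agent.LsF.imul_pat]; exact rfl) | exact rfl⟩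
private noncomputable def _root_.Cfsg.Agent.LsF.f83296e_17 : {f // @Cfsg.Agent.LV.W.linP = f} := ⟨_, by first | (delta Cfsg.Agent.LV.W.linP; rewrite [Cfsg.Agent.LsF.f83296e_14.2, Cfsg.Agent.LsF.f83296e_15.2, Cfsg.Agent.LsF.f83296e_16.2, Cfsg.Agent.LsF.nadd_pat, Cfsg.Agent.LsF.nmul_pat, Cfsg.Agent.LsF.icast_pat, Cfsg.Agent.LsF.and_eq, Cfsg.Agent.LsF.all_eq, Cfsg.Agent.LsF.map_eq, Cfsg.Agent.LsF.instIDecEq_eq, Cfsg.Agent.LsF.idecLt_eq, Cfsg.Agent.LsF.length_eq, Cfsg.Agent.LsF.decide_eq]; exact rfl) | exact rfl⟩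
private noncomputable def _root_.Cfsg.Agent.LsF.f83296e_18 : {f // @Cfsg.Agent.LV.W.Nd.lin = f} := ⟨_, by first | (delta Cfsg.Agent.LV.W.Nd.lin; rewrite [Cfsg.Agent.LsF.f83296e_17.2]; exact rfl) | exact rfl⟩
private noncomputable def _root_.Cfsg.Agent.LsF.f83296e_19 : {f // @Cfsg.Agent.MO.WT.zm = f} := ⟨_, by first | (delta Cfsg.Agent.MO.WT.zm; rewrite [Cfsg.Agent.LsF.imul_pat]; (try delta List.casesOn); exact rfl) | exact rfl⟩
private noncomputable def _root_.Cfsg.Agent.LsF.f83296e_20 : {f // @Cfsg.Agent.MO.WT.valOK = f} := ⟨_, by first | (delta Cfsg.Agent.MO.WT.valOK; rewrite [Cfsg.Agent.LsF.f83296e_18.2, Cfsg.Agent.LsF.f83296e_19.2]; exact rfl) | exact rfl⟩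
private noncomputable def _root_.Cfsg.Agent.LsF.f83296e_21 : {f // @Cfsg.Agent.MO.WT.fixN = f} := ⟨_, by first | (delta Cfsg.Agent.MO.WT.fixN; rewrite [Cfsg.Agent.LsF.cond_eq]; exact rfl) | exact rfl⟩
private noncomputable def _root_.Cfsg.Agent.LsF.f83296e_22 : {f // @Cfsg.Agent.LV.W.sumLt = f} := ⟨_, by first | (delta Cfsg.Agent.LV.W.sumLt; rewrite [Cfsg.Agent.LsF.iadd_pat]; exact rfl) | exact rfl⟩
private noncomputable def _root_.Cfsg.Agent.LsF.f83296e_23 : {f // @Cfsg.Agent.MO.WT.trN = f} := ⟨_, by first | (delta Cfsg.Agent.MO.WT.trN; rewrite [Cfsg.Agent.LsF.f83296e_22.2, Cfsg.Agent.LsF.f83296e_10.2, Cfsg.Agent.LsF.isub_pat, Cfsg.Agent.LsF.icast_pat]; exact rfl) | exact rfl⟩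
private noncomputable def _root_.Cfsg.Agent.LsF.f83296e_24 : {f // @Cfsg.Agent.MO.WT.same = f} := ⟨_, by first | (delta Cfsg.Agent.MO.WT.same; rewrite [Cfsg.Agent.LsF.all_eq, Cfsg.Agent.LsF.instIDecEq_eq, Cfsg.Agent.LsF.decide_eq]; exact rfl) | exact rfl⟩
private noncomputable def _root_.Cfsg.Agent.LsF.f83296e_25 : {f // @Cfsg.Agent.MO.WT.unitOK = f} := ⟨_, by first | (delta Cfsg.Agent.MO.WT.unitOK; rewrite [Cfsg.Agent.LsF.f83296e_5.2, Cfsg.Agent.LsF.f83296e_24.2, Cfsg.Agent.LsF.f83296e_15.2, Cfsg.Agent.LsF.and_eq, Cfsg.Agent.LsF.or_eq, Cfsg.Agent.LsF.not_eq, Cfsg.Agent.LsF.cond_eq, Cfsg.Agent.LsF.testBit_eq, Cfsg.Agent.LsF.all_eq, Cfsg.Agent.LsF.instIDecEq_eq, Cfsg.Agent.LsF.length_eq, Cfsg.Agent.LsF.decide_eq]; exact rfl) | exact rfl⟩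
private noncomputable def _root_.Cfsg.Agent.LsF.f83296e_26 : {f // @Cfsg.Agent.MO.WT.go = f} := ⟨_, by first | (delta Cfsg.Agent.MO.WT.go; rewrite [Cfsg.Agent.LsF.f83296e_5.2, Cfsg.Agent.LsF.f83296e_13.2, Cfsg.Agent.LsF.f83296e_20.2, Cfsg.Agent.LsF.f83296e_21.2, Cfsg.Agent.LsF.f83296e_9.2, Cfsg.Agent.LsF.f83296e_6.2, Cfsg.Agent.LsF.f83296e_23.2, Cfsg.Agent.LsF.f83296e_25.2, Cfsg.Agent.LsF.imul_pat, Cfsg.Agent.LsF.and_eq, Cfsg.Agent.LsF.testBit_eq, Cfsg.Agent.LsF.map_eq, Cfsg.Agent.LsF.range_eq, Cfsg.Agent.LsF.instIDecEq_eq, Cfsg.Agent.LsF.idecLt_eq, Cfsg.Agent.LsF.decide_eq]; (try delta Cfsg.Agent.MO.WT.Ins.casesOn); exact rfl) | exact rfl⟩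
theorem E8_irr : IrrT E8 := irrT_of E8_good [
    .ref (unz 2 0xa0), .unit 2 [(1, 0)], .prod 2 2 (unz 2 0xa280a), .unit 4 [(1, 0)], .unit 6 [(1, 0)],
    .prod 6 6 (unz 2 0xa00000028a0000a000a280a), .unit 24 [(1, 0)], .unit 38 [(1, 0)], .unit 22 [(1, 0)],
    .unit 13 [(1, 0)], .prod 6 24 (unz 2 0x28000000028000000002800000a00a2800000a2800000000a000), .unit 45 [(1, 0)],
    .unit 93 [(1, 0)], .unit 76 [(1, 0)], .unit 26 [(1, 0)], .unit 57 [(1, 0)], .unit 40 [(1, 0)],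
    .prod 2 93 (unz 2 0x2a8280000a28a000a0000000000a00a00000a0000000000000000000000), .unit 106 [(1, 0)],
    .unit 105 [(1, 0)], .unit 102 [(1, 0)], .unit 92 [(1, 0)], .unit 44 [(1, 0)], .unit 55 [(1, 0)], .unit 88 [(1, 0)],
    .unit 60 [(1, 0)], .prod 4 55 (unz 2 0x5505000014050000550000000014054c02800a000280a0000000a280000000),
    .unit 56 [(1, 0)], .unit 79 [(1, 0)], .unit 32 [(1, 0)], .unit 78 [(1, 0)], .unit 50 [(1, 0)], .unit 36 [(1, 0)],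
    .unit 17 [(1, 0)], .unit 15 [(1, 0)],
    .prod 4 56 (unz 2 0x1545000050014000055000001400004e80a0280000a00a00000028a00000000), .unit 16 [(1, 0)],
    .unit 18 [(1, 0)], .unit 37 [(1, 0)], .unit 89 [(1, 0)], .unit 47 [(1, 0)], .unit 95 [(1, 0)], .unit 104 [(1, 0)],
    .unit 107 [(1, 0)],
    .prod 32 32 (unz 3 0x8e3900048472150484488000252a91c604604a529484867290909090909019000252112209012cf302520046044899e72901200094a30008e38e30252),
    .unit 1 [(1, 0)], .unit 23 [(1, 0)], .unit 59 [(1, 0)], .unit 75 [(1, 0)], .unit 87 [(1, 0)], .unit 86 [(1, 0)],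
    .unit 74 [(1, 0)], .unit 48 [(1, 0)],
    .prod 17 32 (unz 2 0x555005005013980014014001451baa02800036000550015400001bdd50000013000aa00), .unit 5 [(1, 0)],
    .unit 39 [(1, 0)], .unit 25 [(1, 0)], .unit 110 [(1, 0)], .unit 109 [(1, 0)], .unit 71 [(1, 0)], .unit 67 [(1, 0)],
    .unit 14 [(1, 1)], .unit 43 [(1, 1)], .unit 96 [(1, 1)],
    .prod 6 25 (unz 2 0xa00000000a00000000280000028280a0000028a0000000028000), .unit 7 [(1, 0)], .unit 27 [(1, 0)],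
    .unit 77 [(1, 0)], .unit 94 [(1, 0)], .unit 46 [(1, 0)], .unit 68 [(1, 1)], .unit 49 [(1, 2)], .unit 73 [(1, 1)],
    .unit 100 [(1, 2)],
    .prod 27 44 (unz 3 0x54004485cea0cc0cc486604aa471240002a4623900000330044120048441123004801100cc00009000440240000000672900047200002400),
    .unit 3 [(1, 0)], .unit 29 [(1, 0)], .unit 64 [(1, 0)], .unit 97 [(1, 0)], .unit 10 [(1, 0)],
    .prod 15 76 (unz 3 0x66008f3e8054024330008511042800096412cc00000000001219000220005400011800003300090120000000242400000000000),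
    .unit 82 [(1, 0)], .unit 99 [(1, 0)], .unit 62 [(1, 0)], .unit 31 [(1, 0)], .unit 28 [(1, 0)],
    .prod 15 28 (unz 2 0x50000004c280000a000a260013002604c0360500056ca000000028a000a00a0000), .unit 83 [(1, 0)],
    .unit 41 [(1, 0)], .unit 8 [(1, 0)],
    .prod 7 41 (unz 2 0x280000a2800000a28000280000000000a00000a000000000000000000000), .unit 53 [(1, 0)],
    .unit 42 [(1, 0)], .unit 84 [(1, 0)], .unit 98 [(1, 0)],
    .prod 8 47 (unz 2 0x280aa28000280aaa000a000000028000000002800000000000000000000000), .unit 66 [(1, 0)],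
    .unit 91 [(1, 0)], .unit 111 [(1, 0)], .unit 90 [(1, 0)], .unit 51 [(1, 8)], .unit 81 [(1, 10)],
    .prod 8 8 (unz 2 0xa000a000a0000000a0028028000a), .unit 19 [(1, 0)], .unit 34 [(1, 0)], .unit 61 [(1, 8)],
    .prod 19 41 (unz 2 0x139d000144ca2a800dec00d8004f7328000099302a837b0037b002a80000002802a80aa0000),
    .unit 9 [(1, 0)], .unit 35 [(1, 0)], .unit 52 [(1, 0)], .unit 65 [(1, 9)], .unit 20 [(1, 4)],
    .prod 14 20 (unz 2 0xa0000000aa0000a0000280000000000a0000000000280000000000), .unit 21 [(1, 0)], .unit 85 [(1, 0)],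
    .prod 4 32 (unz 2 0x1400000000000000000000000515400050500000130000002a800aa00000), .unit 11 [(1, 0)],
    .unit 58 [(1, 0)], .prod 15 21 (unz 2 0x28028000a28000000002800a000000000000000a02800000000000000),
    .unit 33 [(1, 0)], .unit 70 [(1, 0)], .prod 4 4 (unz 2 0x28a000002800a280a), .unit 12 [(1, 0)],
    .prod 4 12 (unz 2 0x280000000000002a8000000a000aa00), .unit 54 [(1, 0)],
    .prod 6 12 (unz 2 0xa000000000000000000002a8000000a000000), .unit 69 [(1, 0)],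
    .prod 4 19 (unz 2 0x28000000000000002800000000000a000000000000000), .unit 30 [(1, 0)],
    .prod 8 20 (unz 2 0x280000000000002800000280000000000000028000a00000000000), .unit 101 [(1, 0)],
    .unit 80 [(1, 17), (-1, 16)], .prod 8 19 (unz 2 0xa0002800000000002a800aa0000000000280000aa0000),
    .unit 72 [(1, 0)], .unit 108 [(1, 9)], .prod 8 12 (unz 2 0x28000280000000000000000000000000000000),
    .unit 63 [(1, 0)], .unit 103 [(1, 19)]]
  (go_of 0x800000000000000000000000 rfl (by ((try (rewrite [Cfsg.Agent.LsF.f83296e_0.2, Cfsg.Agent.LsF.f83296e_4.2, Cfsg.Agent.LsF.f83296e_26.2, Cfsg.Agent.LsF.f83296e_3.2, Cfsg.Agent.LsF.ineg_pat, Cfsg.Agent.LsF.map_eq])); decide +kernel)))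

end Cfsg.Agent.MO.WT
end

-- part: MO/WC/D8a
section
/-! MO/WC: generated data (helper27; tools/P3/h27/gen.py) -/

set_option autoImplicit false
set_option maxRecDepth 100000

namespace Cfsg.Agent.MO.WC

open Cfsg.Agent.LV.W Cfsg.Agent.MO.WT

theorem cenK_E8_0 : CenK E8 0
    [1, 1, 8, 8, 28, 28, 35, 35, 50, 50, 56, 56, 70, 84, 84, 112, 112, 160, 160, 168, 175, 175, 210, 210, 300, 300, 350,
    350, 400, 400, 420, 448, 448, 448, 525, 525, 560, 560, 567, 567, 700, 700, 700, 700, 840, 840, 840, 840, 972, 972,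
    1008, 1008, 1050, 1050, 1134, 1296, 1296, 1344, 1344, 1344, 1400, 1400, 1400, 1400, 1400, 1400, 1400, 1575, 1575,
    1680, 2016, 2100, 2100, 2100, 2240, 2240, 2268, 2268, 2400, 2400, 2688, 2800, 2800, 2835, 2835, 3150, 3200, 3200,
    3240, 3240, 3360, 3360, 4096, 4096, 4096, 4096, 4200, 4200, 4200, 4200, 4200, 4480, 4536, 4536, 4536, 5600, 5600,
    5600, 5670, 6075, 6075, 7168] :=
  cenK_top E8_good E8_good E8_irr (by decide +kernel)

theorem cenK_E8_111 : CenK E8 111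
    [1, 1, 8, 8, 28, 28, 35, 35, 50, 50, 56, 56, 70, 84, 84, 112, 112, 160, 160, 168, 175, 175, 210, 210, 300, 300, 350,
    350, 400, 400, 420, 448, 448, 448, 525, 525, 560, 560, 567, 567, 700, 700, 700, 700, 840, 840, 840, 840, 972, 972,
    1008, 1008, 1050, 1050, 1134, 1296, 1296, 1344, 1344, 1344, 1400, 1400, 1400, 1400, 1400, 1400, 1400, 1575, 1575,
    1680, 2016, 2100, 2100, 2100, 2240, 2240, 2268, 2268, 2400, 2400, 2688, 2800, 2800, 2835, 2835, 3150, 3200, 3200,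
    3240, 3240, 3360, 3360, 4096, 4096, 4096, 4096, 4200, 4200, 4200, 4200, 4200, 4480, 4536, 4536, 4536, 5600, 5600,
    5600, 5670, 6075, 6075, 7168] :=
  cenK_top E8_good E8_good E8_irr (by decide +kernel)

namespace G16

noncomputable section

def a0 : Q := ⟨0, 0, 0, 0⟩
def b0 : Q := ⟨1, 0, 0, 0⟩
def c0 : Q := ⟨-1, 0, 0, 0⟩
def d0 : Q := ⟨-1, -1, -1, -1⟩
def e0 : Q := ⟨0, 0, 0, 1⟩
def f0 : Q := ⟨0, 0, 1, 0⟩
def g0 : Q := ⟨0, 1, 0, 0⟩
def h0 : Q := ⟨0, -1, 0, 0⟩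
def i0 : Q := ⟨0, 0, -1, 0⟩
def j0 : Q := ⟨0, 0, 0, -1⟩
def k0 : Q := ⟨1, 1, 1, 1⟩
def l0 : Q := ⟨0, 0, -1, -1⟩
def m0 : Q := ⟨1, 0, 1, 1⟩
def n0 : Q := ⟨3, 0, 0, 0⟩
def o0 : Q := ⟨4, 0, 0, 0⟩
def p0 : Q := ⟨-1, -1, 0, 0⟩
def q0 : Q := ⟨-1, 0, -1, 0⟩
def r0 : Q := ⟨-1, 0, 0, -1⟩
def s0 : Q := ⟨0, -1, -1, 0⟩
def t0 : Q := ⟨0, -1, 0, -1⟩
def u0 : Q := ⟨0, 1, 1, 1⟩
def v0 : Q := ⟨1, 1, 0, 1⟩
def w0 : Q := ⟨1, 1, 1, 0⟩
def x0 : Q := ⟨2, 0, 0, 0⟩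
def y0 : Q := ⟨5, 0, 0, 0⟩
def z0 : Q := ⟨-1, 0, -1, -1⟩
def a1 : Q := ⟨0, 0, 1, 1⟩
def b1 : Q := ⟨-2, 0, 0, 0⟩
def c1 : Q := ⟨0, 0, 0, 3⟩
def d1 : Q := ⟨0, 3, 0, 0⟩
def e1 : Q := ⟨-3, -3, -3, -3⟩
def f1 : Q := ⟨0, 0, 3, 0⟩
def g1 : Q := ⟨0, 0, 0, 4⟩
def h1 : Q := ⟨0, 4, 0, 0⟩
def i1 : Q := ⟨-4, -4, -4, -4⟩
def j1 : Q := ⟨0, 0, 4, 0⟩
def k1 : Q := ⟨6, 0, 0, 0⟩
def l1 : Q := ⟨-4, 0, 0, 0⟩
def m1 : Q := ⟨-6, 0, 0, 0⟩
def n1 : Q := ⟨0, 2, 0, 0⟩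
def o1 : Q := ⟨0, 0, 2, 0⟩
def p1 : Q := ⟨0, 0, 0, 2⟩
def q1 : Q := ⟨-2, -2, -2, -2⟩
def r1 : Q := ⟨-1, -1, 0, -1⟩
def s1 : Q := ⟨1, 1, 0, 0⟩
def t1 : Q := ⟨-1, -1, -1, 0⟩
def u1 : Q := ⟨1, 0, 1, 0⟩
def v1 : Q := ⟨0, 1, 1, 0⟩
def w1 : Q := ⟨1, 0, 0, 1⟩
def x1 : Q := ⟨0, -1, -1, -1⟩
def y1 : Q := ⟨0, 1, 0, 1⟩
def z1 : Q := ⟨0, 0, 0, -2⟩
def a2 : Q := ⟨0, -2, 0, 0⟩
def b2 : Q := ⟨2, 2, 2, 2⟩
def c2 : Q := ⟨0, 0, -2, 0⟩
def d2 : Q := ⟨0, 0, 5, 0⟩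
def e2 : Q := ⟨-5, -5, -5, -5⟩
def f2 : Q := ⟨0, 5, 0, 0⟩
def g2 : Q := ⟨0, 0, 0, 5⟩
def h2 : Q := ⟨0, 0, -4, 0⟩
def i2 : Q := ⟨4, 4, 4, 4⟩
def j2 : Q := ⟨0, -4, 0, 0⟩
def k2 : Q := ⟨0, 0, 0, -4⟩
def l2 : Q := ⟨6, 6, 6, 6⟩
def m2 : Q := ⟨0, 0, 0, -6⟩
def n2 : Q := ⟨0, 0, -6, 0⟩
def o2 : Q := ⟨0, -6, 0, 0⟩
def p2 : Q := ⟨0, 0, 0, 6⟩
def q2 : Q := ⟨0, 6, 0, 0⟩
def r2 : Q := ⟨-6, -6, -6, -6⟩
def s2 : Q := ⟨0, 0, 6, 0⟩
def t2 : Q := ⟨0, 0, 0, -3⟩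
def u2 : Q := ⟨-3, 0, 0, 0⟩
def v2 : Q := ⟨0, 0, -3, 0⟩
def w2 : Q := ⟨3, 3, 3, 3⟩
def x2 : Q := ⟨0, -3, 0, 0⟩
def y2 : Q := ⟨12, 0, 0, 0⟩
def z2 : Q := ⟨0, 0, 0, 12⟩
def a3 : Q := ⟨0, 12, 0, 0⟩
def b3 : Q := ⟨-12, -12, -12, -12⟩
def c3 : Q := ⟨0, 0, 12, 0⟩
def d3 : Q := ⟨-6, -6, 0, -6⟩
def e3 : Q := ⟨6, 6, 0, 0⟩
def f3 : Q := ⟨-6, -6, -6, 0⟩
def g3 : Q := ⟨6, 0, 6, 0⟩
def h3 : Q := ⟨0, 6, 6, 0⟩
def i3 : Q := ⟨6, 0, 0, 6⟩
def j3 : Q := ⟨0, -6, -6, -6⟩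
def k3 : Q := ⟨0, 6, 0, 6⟩
def l3 : Q := ⟨-6, 0, -6, -6⟩
def m3 : Q := ⟨0, 0, 6, 6⟩
def n3 : Q := ⟨-4, -4, 0, 0⟩
def o3 : Q := ⟨-4, 0, -4, 0⟩
def p3 : Q := ⟨-4, 0, 0, -4⟩
def q3 : Q := ⟨0, -4, -4, 0⟩
def r3 : Q := ⟨0, -4, 0, -4⟩
def s3 : Q := ⟨0, 0, -4, -4⟩
def t3 : Q := ⟨0, 4, 4, 4⟩
def u3 : Q := ⟨4, 0, 4, 4⟩
def v3 : Q := ⟨4, 4, 0, 4⟩
def w3 : Q := ⟨4, 4, 4, 0⟩

def c_0 : List Q := [b0, b0, b0, b0, b0, x0, x0, x0, x0, x0, x0, x0, x0, x0, x0, n0, n0, n0, n0, n0, n0, n0, n0, n0, n0, o0, o0, o0, o0,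
    o0, o0, o0, o0, o0, o0, y0, y0, y0, y0, y0, k1, k1, k1, k1, k1]
def c_1 : List Q := [b0, d0, e0, f0, g0, d0, d0, e0, e0, f0, f0, g0, g0, b0, b0, a0, a0, a0, a0, a0, a0, a0, a0, a0, a0, d0, c0, h0, i0,
    j0, e0, f0, g0, b0, k0, c0, h0, i0, j0, k0]
def c_2 : List Q := [b0, g0, f0, e0, d0, g0, g0, f0, f0, e0, e0, d0, d0, b0, b0, a0, a0, a0, a0, a0, a0, a0, a0, a0, a0, g0, c0, k0, j0,
    i0, f0, e0, d0, b0, h0, c0, k0, j0, i0, h0]
def c_3 : List Q := [b0, e0, g0, d0, f0, r1, s1, t1, u1, v1, w1, x1, y1, z0, a1, p0, q0, r0, s0, t0, l0, u0, m0, v0, w0, j0, c0, i0, k0,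
    h0, h0, k0, i0, c0, j0, a0, a0, a0, a0, a0, d0, e0, f0, g0, b0]
def c_4 : List Q := [b0, f0, d0, g0, e0, y1, x1, v1, w1, t1, u1, s1, r1, z0, a1, u0, r0, q0, w0, v0, l0, p0, m0, t0, s0, i0, c0, j0, h0,
    k0, k0, h0, j0, c0, i0, a0, a0, a0, a0, a0, g0, f0, e0, d0, b0]
def c_5 : List Q := [b0, f0, d0, g0, e0, i0, i0, k0, k0, h0, h0, j0, j0, c0, c0, a0, a0, a0, a0, a0, a0, a0, a0, a0, a0, f0, b0, e0, g0,
    d0, d0, g0, e0, b0, f0, c0, j0, h0, k0, i0]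
def c_6 : List Q := [b0, d0, e0, f0, g0, a0, a0, a0, a0, a0, a0, a0, a0, a0, a0, k0, j0, i0, i0, h0, c0, h0, c0, k0, j0, a0, a0, a0, a0,
    a0, a0, a0, a0, a0, a0, b0, g0, f0, e0, d0]
def c_7 : List Q := [b0, e0, g0, d0, f0, j0, j0, h0, h0, k0, k0, i0, i0, c0, c0, a0, a0, a0, a0, a0, a0, a0, a0, a0, a0, e0, b0, f0, d0,
    g0, g0, d0, f0, b0, e0, c0, i0, k0, h0, j0]
def c_8 : List Q := [b0, g0, f0, e0, d0, a0, a0, a0, a0, a0, a0, a0, a0, a0, a0, h0, i0, j0, j0, k0, c0, k0, c0, h0, i0, a0, a0, a0, a0,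
    a0, a0, a0, a0, a0, a0, b0, d0, e0, f0, g0]
def c_9 : List Q := [b0, d0, e0, f0, g0, v1, w1, r1, s1, y1, x1, u1, t1, a1, z0, r0, p0, u0, t0, w0, m0, q0, l0, s0, v0, k0, c0, h0, i0,
    j0, j0, i0, h0, c0, k0, a0, a0, a0, a0, a0, f0, d0, g0, e0, b0]
def c_10 : List Q := [b0, g0, f0, e0, d0, t1, u1, y1, x1, r1, s1, w1, v1, a1, z0, q0, u0, p0, v0, s0, m0, r0, l0, w0, t0, h0, c0, k0, j0,
    i0, i0, j0, k0, c0, h0, a0, a0, a0, a0, a0, e0, g0, d0, f0, b0]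
def c_11 : List Q := [b0, e0, g0, d0, f0, z1, z1, a2, a2, b2, b2, c2, c2, b1, b1, c1, d1, e1, e1, f1, n0, f1, n0, c1, d1, g1, l1, h2, i2,
    j2, h1, i1, j1, o0, k2, y0, d2, e2, f2, g2, l2, m2, n2, o2, m1]
def c_12 : List Q := [b0, b0, b0, b0, b0, m0, l0, l0, m0, l0, m0, l0, m0, m0, l0, l0, m0, m0, l0, m0, l0, l0, m0, m0, l0, c0, b0, b0, b0,
    b0, c0, c0, c0, c0, b0, a0, a0, a0, a0, a0, c0, c0, c0, c0, c0]
def c_13 : List Q := [b0, f0, d0, g0, e0, c2, c2, b2, b2, a2, a2, z1, z1, b1, b1, f1, e1, d1, d1, c1, n0, c1, n0, f1, e1, j1, l1, k2, j2,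
    i2, i1, h1, g1, o0, h2, y0, g2, f2, e2, d2, o2, n2, m2, l2, m1]
def c_14 : List Q := [b0, f0, d0, g0, e0, u0, t0, r0, s0, q0, w0, v0, p0, l0, m0, t0, s0, w0, q0, p0, m0, v0, l0, u0, r0, i0, b0, e0, g0,
    d0, k0, h0, j0, c0, f0, a0, a0, a0, a0, a0, h0, i0, j0, k0, c0]
def c_15 : List Q := [b0, e0, g0, d0, f0, p0, v0, q0, w0, r0, s0, t0, u0, l0, m0, v0, w0, s0, r0, u0, m0, t0, l0, p0, q0, j0, b0, f0, d0,
    g0, h0, k0, i0, c0, e0, a0, a0, a0, a0, a0, k0, j0, i0, h0, c0]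
def c_16 : List Q := [b0, g0, f0, e0, d0, q0, w0, u0, t0, p0, v0, s0, r0, m0, l0, w0, t0, v0, p0, r0, l0, s0, m0, q0, u0, h0, b0, d0, e0,
    f0, i0, j0, k0, c0, g0, a0, a0, a0, a0, a0, j0, h0, k0, i0, c0]
def c_17 : List Q := [b0, d0, e0, f0, g0, r0, s0, p0, v0, u0, t0, w0, q0, m0, l0, s0, v0, t0, u0, q0, l0, w0, m0, r0, p0, k0, b0, g0, f0,
    e0, j0, i0, h0, c0, d0, a0, a0, a0, a0, a0, i0, k0, h0, j0, c0]
def c_18 : List Q := [b0, g0, f0, e0, d0, h0, h0, i0, i0, j0, j0, k0, k0, c0, c0, a0, a0, a0, a0, a0, a0, a0, a0, a0, a0, g0, b0, d0, e0,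
    f0, f0, e0, d0, b0, g0, c0, k0, j0, i0, h0]
def c_19 : List Q := [b0, d0, e0, f0, g0, k0, k0, j0, j0, i0, i0, h0, h0, c0, c0, a0, a0, a0, a0, a0, a0, a0, a0, a0, a0, d0, b0, g0, f0,
    e0, e0, f0, g0, b0, d0, c0, h0, i0, j0, k0]
def c_20 : List Q := [b0, d0, e0, f0, g0, s0, r0, v0, p0, t0, u0, q0, w0, l0, m0, r0, p0, u0, t0, w0, m0, q0, l0, s0, v0, k0, b0, g0, f0,
    e0, j0, i0, h0, c0, d0, a0, a0, a0, a0, a0, i0, k0, h0, j0, c0]
def c_21 : List Q := [b0, g0, f0, e0, d0, w0, q0, t0, u0, v0, p0, r0, s0, l0, m0, q0, u0, p0, v0, s0, m0, r0, l0, w0, t0, h0, b0, d0, e0,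
    f0, i0, j0, k0, c0, g0, a0, a0, a0, a0, a0, j0, h0, k0, i0, c0]
def c_22 : List Q := [b0, f0, d0, g0, e0, a0, a0, a0, a0, a0, a0, a0, a0, a0, a0, i0, k0, h0, h0, j0, c0, j0, c0, i0, k0, a0, a0, a0, a0,
    a0, a0, a0, a0, a0, a0, b0, e0, g0, d0, f0]
def c_23 : List Q := [b0, e0, g0, d0, f0, a0, a0, a0, a0, a0, a0, a0, a0, a0, a0, j0, h0, k0, k0, i0, c0, i0, c0, j0, h0, a0, a0, a0, a0,
    a0, a0, a0, a0, a0, a0, b0, f0, d0, g0, e0]
def c_24 : List Q := [b0, b0, b0, b0, b0, b0, b0, b0, b0, b0, b0, b0, b0, b0, b0, a0, a0, a0, a0, a0, a0, a0, a0, a0, a0, b0, c0, c0, c0,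
    c0, b0, b0, b0, b0, c0, c0, c0, c0, c0, c0]
def c_25 : List Q := [b0, g0, f0, e0, d0, n1, n1, o1, o1, p1, p1, q1, q1, x0, x0, d1, f1, c1, c1, e1, n0, e1, n0, d1, f1, h1, o0, i1, g1,
    j1, j1, g1, i1, o0, h1, y0, e2, g2, d2, f2, p2, q2, r2, s2, k1]
def c_26 : List Q := [b0, b0, b0, b0, b0, a1, z0, z0, a1, z0, a1, z0, a1, a1, z0, m0, l0, l0, m0, l0, m0, m0, l0, l0, m0, c0, c0, c0, c0,
    c0, c0, c0, c0, c0, c0, a0, a0, a0, a0, a0, b0, b0, b0, b0, b0]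
def c_27 : List Q := [b0, d0, e0, f0, g0, q1, q1, p1, p1, o1, o1, n1, n1, x0, x0, e1, c1, f1, f1, d1, n0, d1, n0, e1, c1, i1, o0, h1, j1,
    g1, g1, j1, h1, o0, i1, y0, f2, d2, g2, e2, s2, r2, q2, p2, k1]
def c_28 : List Q := [b0, g0, f0, e0, d0, u1, t1, x1, y1, s1, r1, v1, w1, z0, a1, w0, t0, v0, p0, r0, l0, s0, m0, q0, u0, h0, c0, k0, j0,
    i0, i0, j0, k0, c0, h0, a0, a0, a0, a0, a0, e0, g0, d0, f0, b0]
def c_29 : List Q := [b0, d0, e0, f0, g0, w1, v1, s1, r1, x1, y1, t1, u1, z0, a1, s0, v0, t0, u0, q0, l0, w0, m0, r0, p0, k0, c0, h0, i0,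
    j0, j0, i0, h0, c0, k0, a0, a0, a0, a0, a0, f0, d0, g0, e0, b0]
def c_30 : List Q := [b0, f0, d0, g0, e0, x1, y1, w1, v1, u1, t1, r1, s1, a1, z0, t0, s0, w0, q0, p0, m0, v0, l0, u0, r0, i0, c0, j0, h0,
    k0, k0, h0, j0, c0, i0, a0, a0, a0, a0, a0, g0, f0, e0, d0, b0]
def c_31 : List Q := [b0, e0, g0, d0, f0, s1, r1, u1, t1, w1, v1, y1, x1, a1, z0, v0, w0, s0, r0, u0, m0, t0, l0, p0, q0, j0, c0, i0, k0,
    h0, h0, k0, i0, c0, j0, a0, a0, a0, a0, a0, d0, e0, f0, g0, b0]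
def c_32 : List Q := [b0, f0, d0, g0, e0, f0, f0, d0, d0, g0, g0, e0, e0, b0, b0, a0, a0, a0, a0, a0, a0, a0, a0, a0, a0, f0, c0, j0, h0,
    k0, d0, g0, e0, b0, i0, c0, j0, h0, k0, i0]
def c_33 : List Q := [b0, e0, g0, d0, f0, e0, e0, g0, g0, d0, d0, f0, f0, b0, b0, a0, a0, a0, a0, a0, a0, a0, a0, a0, a0, e0, c0, i0, k0,
    h0, g0, d0, f0, b0, j0, c0, i0, k0, h0, j0]
def c_34 : List Q := [b0, b0, b0, b0, b0, a0, a0, a0, a0, a0, a0, a0, a0, a0, a0, c0, c0, c0, c0, c0, c0, c0, c0, c0, c0, a0, a0, a0, a0,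
    a0, a0, a0, a0, a0, a0, b0, b0, b0, b0, b0]
def c_35 : List Q := [b0, g0, f0, e0, d0, a2, a2, c2, c2, z1, z1, b2, b2, b1, b1, d1, f1, c1, c1, e1, n0, e1, n0, d1, f1, h1, l1, i2, k2,
    h2, j1, g1, i1, o0, j2, y0, e2, g2, d2, f2, m2, o2, l2, n2, m1]
def c_36 : List Q := [b0, b0, b0, b0, b0, l0, m0, m0, l0, m0, l0, m0, l0, l0, m0, m0, l0, l0, m0, l0, m0, m0, l0, l0, m0, c0, b0, b0, b0,
    b0, c0, c0, c0, c0, b0, a0, a0, a0, a0, a0, c0, c0, c0, c0, c0]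
def c_37 : List Q := [b0, d0, e0, f0, g0, b2, b2, z1, z1, c2, c2, a2, a2, b1, b1, e1, c1, f1, f1, d1, n0, d1, n0, e1, c1, i1, l1, j2, h2,
    k2, g1, j1, h1, o0, i2, y0, f2, d2, g2, e2, n2, l2, o2, m2, m1]
def c_38 : List Q := [b0, e0, g0, d0, f0, v0, p0, w0, q0, s0, r0, u0, t0, m0, l0, p0, q0, r0, s0, t0, l0, u0, m0, v0, w0, j0, b0, f0, d0,
    g0, h0, k0, i0, c0, e0, a0, a0, a0, a0, a0, k0, j0, i0, h0, c0]
def c_39 : List Q := [b0, f0, d0, g0, e0, t0, u0, s0, r0, w0, q0, p0, v0, m0, l0, u0, r0, q0, w0, v0, l0, p0, m0, t0, s0, i0, b0, e0, g0,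
    d0, k0, h0, j0, c0, f0, a0, a0, a0, a0, a0, h0, i0, j0, k0, c0]
def c_40 : List Q := [b0, b0, b0, b0, b0, c0, c0, c0, c0, c0, c0, c0, c0, c0, c0, a0, a0, a0, a0, a0, a0, a0, a0, a0, a0, b0, b0, b0, b0,
    b0, b0, b0, b0, b0, b0, c0, c0, c0, c0, c0]
def c_41 : List Q := [b0, e0, g0, d0, f0, p1, p1, n1, n1, q1, q1, o1, o1, x0, x0, c1, d1, e1, e1, f1, n0, f1, n0, c1, d1, g1, o0, j1, i1,
    h1, h1, i1, j1, o0, g1, y0, d2, e2, f2, g2, r2, p2, s2, q2, k1]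
def c_42 : List Q := [b0, b0, b0, b0, b0, z0, a1, a1, z0, a1, z0, a1, z0, z0, a1, l0, m0, m0, l0, m0, l0, l0, m0, m0, l0, c0, c0, c0, c0,
    c0, c0, c0, c0, c0, c0, a0, a0, a0, a0, a0, b0, b0, b0, b0, b0]
def c_43 : List Q := [b0, f0, d0, g0, e0, o1, o1, q1, q1, n1, n1, p1, p1, x0, x0, f1, e1, d1, d1, c1, n0, c1, n0, f1, e1, j1, o0, g1, h1,
    i1, i1, h1, g1, o0, j1, y0, g2, f2, e2, d2, q2, s2, p2, r2, k1]
def c_44 : List Q := [b0, b0, b0, b0, b0, b1, b1, b1, b1, b1, b1, b1, b1, b1, b1, n0, n0, n0, n0, n0, n0, n0, n0, n0, n0, o0, l1, l1, l1,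
    l1, o0, o0, o0, o0, l1, y0, y0, y0, y0, y0, m1, m1, m1, m1, m1]
def c_45 : List Q := [y2, z2, a3, b3, c3, d3, e3, f3, g3, h3, i3, j3, k3, l3, m3, n3, o3, p3, q3, r3, s3, t3, u3, v3, w3, t2, u2, v2, w2,
    x2, x2, w2, v2, u2, t2, a0, a0, a0, a0, a0, q1, p1, o1, n1, x0]

end

end G16

open G16 in
noncomputable def G16_T : Tb where
  f := F5
  K := 45
  nu := 600
  n := [1, 20, 20, 12, 12, 20, 30, 20, 30, 12, 12, 1, 12, 1, 12, 12, 12, 12, 20, 20, 12, 12, 30, 30, 20, 1, 12, 1, 12, 12,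
    12, 12, 20, 20, 30, 1, 12, 1, 12, 12, 20, 1, 12, 1, 1]
  XC := [c_0, c_1, c_2, c_3, c_4, c_5, c_6, c_7, c_8, c_9, c_10, c_11, c_12, c_13, c_14, c_15, c_16, c_17, c_18, c_19, c_20,
    c_21, c_22, c_23, c_24, c_25, c_26, c_27, c_28, c_29, c_30, c_31, c_32, c_33, c_34, c_35, c_36, c_37, c_38, c_39,
    c_40, c_41, c_42, c_43, c_44]
  rows := [(List.map (unp 5) [0x80881d60022079a101c62240758081c6e06da81b624071901b622071881b6069,
    0xa073622cd8b26202d18823620ad872641cd802b640ad822602091, 0x889b63a990eb683ad88336289809b6426d90a36828d8803460c9,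
    0x8826020d8008463298126004d800146000215900146820d90136149,
    0x880c46230d8c2622435580886560022199a10646030d890646430d888646009,
    0x80088d6640451a81146e44d8008866622311a10d462243558c2620311889065684191,
    0x88b36023d18103640982a61c9808b463c980b36202d19073600ad, 0x8813620990836820d884360215180136404d8526214d880446109,
    0x88336289809b626980a602131808346428d80336200d184a6002d, 0x880b462c980b363c9902b60a9802b6002d18002c642cd9002c6089,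
    0x89a6026d8009c643ad8803460c98033640271800346426d90336129,
    0x9883606211900085644002198826020d80084620002198000856c20da0836420d,
    0x8081c6e06da81b616983a600ed8003c6406d9003c6206d903b6401f1,
    0x80886560022199a10646224195808646e18da863624191906362219188636189,
    0x888c464445180924640451a10647430d801146a04518801156230d8c26630d,
    0x890146820d90136804db0436204d8126810d88044624111a0ab6210d, 0x8889c663ad92a6c3ad8a260227180eb683ad90eb6226d89a6026d,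
    0x902b60a9802b641cd90236208d808246000b1b8236400b1a82361a9, 0x884b620cd8326200d1888b6202d8084c6129800b6402d88a602231,
    0x89036024f193a624ed88b36023d181036440d8f2623cd880b462c9,
    0x888b46224118093c6240d872662cd8090464098103622cd8b26022d1,
    0x880b6220d18a2620cd8088c622031983360c9808346029800b602031,
    0x901146024919426250d88c368435188011564899001156e44d8890d56309,
    0x88436021518013604989262a9808446149804362011190ab6024d,
    0x801883e600021f99100bd624402f988901d68407191003d62442f5a07b6621f18a03c624071,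
    0x98eb6063b19000ed644003b98ea603ad800ec620003b98000ed6c3ada0eb643ad,
    0x83a600ed8003c6069880bc62e980bb6400f1800bc640ed90bb63e9,
    0x90236208d808246089a1024624091888246e08d8088256a08d80088266224095,
    0xa00b6212d80a6402d8908c624031880b62298088c6422d8da622231,
    0x8890460224f595a6224f1808f4602411b93b624ed93a6240d9026040d,
    0x8943650981436549b9136a04519001156450d8800116620511d1136224355,
    0x88044610980436149909362498093600111800946410d90094640391,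
    0x889446025519526254d901146024919426205119226248db9136a0451,
    0xa0ab6210d8426201118e26224d8aa642ad80936424d900e46038d,
    0x8090c60223f58087c662edb8fb60224358188bd6020f180883d6022f18007c6062f1,
    0x908b6222d8088c6229a108c6242318888c6e22d80888d6a22d800888e6224235,
    0x801890e644004398a10c62244d588910be624402f98910bd6624318890bd606243580890be6621f1,
    0x80893d600224f9a113c62244f58093c6e4eda93b6244f1913b6224f1893b64e9,
    0x909362498093642adc0e3638980e3600251800e46402518000e56469, 0x809546e54da95365898943650981436454d91436254d881446489,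
    0xa10fc6440435891346844d189100be64402f5890fc62244d58a10c600624398890fd62442f5,
    0xc0e3638980e364039180008e66838d88e3600391808e460003958008e5662391,
    0xa11346244d1889346529801890e644004398a10c60224d59890c600224d981890d62243f5,
    0x80895560022559a11546224555809546e54da953624551915362255189536549,
    0x9133624cd8093464c9a11346244d1889346e4cd8089356a4cd800893662244d5])]
  lev := [c_45]
  b := 24
  B := 2048

noncomputable def G16_D : Gp where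
  Ls := [0x12314543206, 0x131431546765432, 0x10231203435654317, 0x1231234312354312346547654312032,
    0x1031243120354365431234567654312, 0x120312034312543123456543120345676, 0x13143120345431234565432765431203245,
    0x12312034312543120324354654317654320, 0x1031203431234543120654312032431567654,
    0x131204312034543123456543120324576543120324567, 0x131234312032543120324565431234567654312032456,
    0x131203243123454312032465431203243546576543120]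
  rw := (unp 9
    0x202406240648624064862a8624064862a8640ca8624064862a8640ca862468aceca8624064862a8640ca862468aceca8624064862a8640ca862468acfe19890192189019218aa189019218aa32a189019218aa19032a18bb2a189019218aa19032a1891a2b3b2a189019218aa32e060624068624064862a862406486aca8624064862a8640ca86246eca8624064862a8640ca862468aceca8624064862a8cb8180901a192a18901921b2a189019218aa19032a1891bb2a189019218aa19032a1891a2b3b2a189019218aa19032a1891a60604624064862468a8624064862ca8624064862a8640ca8624eca8624064862a8640ca862468aceca9418189019218901a2a189019218ab2a189019218aa19032a193b2a189019218aa19032a1893b2a4c6024064864a862468aca8624064862a86ceca8624064862a8640ca862468aeca8624064862a873198901a18901922a189019218ab2a189019218aa19032bb2a189019218aa19032a1893b2a48606240686240648a8624068aca8624064862a8640ca86eca8624064862a8640ca8624eca92180901a192a1891b2a189019218aa1bb2a189019218aa19032a1891a2bb2a18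9019218aa1c860268624064a86240ca86246eca8624064862a8640ca862468aeca8624064f180901a1aa1932a18901921abb2a189019218aa19032a1891bb2a1891b866240686240648a86240648aca8624064862aceca8624064862a8caece18901922a1891a2b2a1891a2bb2a189019218aa19032a1893b2a1b46062406862468a8624064ca8624064862a864caeca86240648aced198901a1890192a18901921ab2a18901a2b3b2a189019218aa32bb46024686a8ca8624064862a8eca8624064862a8640ca86246eca86d180901a1aa1932a1891a3b2a189019218aa19032a1893b2a1b06240686a862468ca8624eca8624064862a8640ca8624eca86c198901a18901a2a18901922b2a18901922b3b2a18901922b3b060624064862468a8624068ca8624064862a8ceca8a18902192a1932a18bb2a189019218aa1932a1a4662406862468a86240648ca86240648aceca891892192a1932a3b2a189019218aa1932a1ba264624686246a86240648ca8eca862468ace8998901a18901a2a18901a2b2a18903b2a206024086a86ca86246eca8624064862a8681809018aa18b2a1891a3b2a189019219e66246862406a8624068aca86eca8624798118a1aa32a18901921ab3b2a1891a1e64624686240a86240648aca86eca8627980902a1b2a193b2a189019219862406a8624ca8eca8624064866198901a18901a2a189032a3b298640624686a86240ca86405181018921aa1b2a1890191462406a862eca8624641809032a1bb2a189190646240686a8624cae4198901a18902a32bb10604628ca86429918a2a19030a662408ace218093b2a188601)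
  rh := (unp 6
    0x6001915cc00a34800156a06284ce000495c900a33144206700c6d880055a210018bb1220056000224400036c18811998891334001460c46c800cc45da2110008c31444257204c804415a22110332012464440002ec048d8201b003331176222444010c109800088b30110464440002232c444000044698800803300260006c8888001d800088880005b0103602008c0001180b1026000022230c1)
  cod := (unp 6
    0xfcfcfcfcfcfcfcffe88868a7e62868e89fc73c493e3149473afff3c3a3b513b353afa69f20a69520a69f7f38fd151c992934ffff0fcdced74b4ccffe928a88884c929891fcd3b4a4326534b37ffb3b3c375d363137fb1434b2e4155363ffbc373b3c5b383237fa2a224a29224a6a57fc2199a12d149c227d34f115348d3148ebf82928a88528694a7ffe648276ac82665ff6e767878b46e6871f668a6c7ab45a6a93f45454449234a4f49fe71fa12715a1271fffba09d9c2c9b9aa0fd29110524ad054127fc908fce140fcd51fee138fd08d0fd1d53e888c8a8a5694948bff8787a76aa787071f413b38464f393c37ffd4a44413049454bfa499a0a223222096fff269e231c9b2329fde1e9da0a79e9c9e7dca21ba1279b9ca37d05111914bd152d1bf8e86729482688c89fca3c3d49413a463aff8463b424a383d45fbd3b41414a3d3d3dfa1221ea51c1e23257f05051118cd19191bf8c76848882848471fc2453c4541384349fe0a0a0a21c2323a0ffda0a0a0a2a09f1efd0505050505050507f)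
  tw := (List.map (unp 8)
    [0x98a18901a2a1891a2b2a193b2a18901922c4cc48d0c480c950c480c915950c48d159d950c480c915ac6624064862468a86240648ca862406486a8caeca862416331204312034543123456543120324576543120324567b198a18aa33b2a191cc8c48d0c48d50c48d1951d950c480c9e64624068624a862406486a8ca862eca864113031203431234543120654312032431567654919018901a1892a1891a2b2a18901a2b3b40c0c490c480d50d950c48d159d950c49e6046240686aca862e83231454320629])
  th := (List.map (unp 3) [0xb5d5ddcd8d9dbdc5ada59585])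

private noncomputable def _root_.Cfsg.Agent.LsF.f83296e_27 : {f // @Cfsg.Agent.MO.WC.Q.eq = f} := ⟨_, by first | (delta Cfsg.Agent.MO.WC.Q.eq; rewrite [Cfsg.Agent.LsF.and_eq, Cfsg.Agent.LsF.instIDecEq_eq, Cfsg.Agent.LsF.decide_eq]; exact rfl) | exact rfl⟩
private noncomputable def _root_.Cfsg.Agent.LsF.f83296e_28 : {f // @Cfsg.Agent.MO.WC.nab = f} := ⟨_, by first | (delta Cfsg.Agent.MO.WC.nab; rewrite [Cfsg.Agent.LsF.natAbs_eq]; exact rfl) | exact rfl⟩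
private noncomputable def _root_.Cfsg.Agent.LsF.f83296e_29 : {f // @Cfsg.Agent.MO.WC.Q.add = f} := ⟨_, by first | (delta Cfsg.Agent.MO.WC.Q.add; rewrite [Cfsg.Agent.LsF.iadd_eq]; exact rfl) | exact rfl⟩
private noncomputable def _root_.Cfsg.Agent.LsF.f83296e_30 : {f // @Cfsg.Agent.MO.WC.Q.sm = f} := ⟨_, by first | (delta Cfsg.Agent.MO.WC.Q.sm; rewrite [Cfsg.Agent.LsF.imul_eq]; exact rfl) | exact rfl⟩
private noncomputable def _root_.Cfsg.Agent.LsF.f83296e_31 : {f // @Cfsg.Agent.MO.WC.Q.ax = f} := ⟨_, by first | (delta Cfsg.Agent.MO.WC.Q.ax; rewrite [Cfsg.Agent.LsF.f83296e_29.2, Cfsg.Agent.LsF.f83296e_30.2, Cfsg.Agent.LsF.cond_eq, Cfsg.Agent.LsF.instIDecEq_eq, Cfsg.Agent.LsF.decide_eq]; exact rfl) | exact rfl⟩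
private noncomputable def _root_.Cfsg.Agent.LsF.f83296e_32 : {f // @Cfsg.Agent.MO.WC.dotQ = f} := ⟨_, by first | (delta Cfsg.Agent.MO.WC.dotQ; rewrite [Cfsg.Agent.LsF.f83296e_31.2]; (try delta List.casesOn); exact rfl) | exact rfl⟩
private noncomputable def _root_.Cfsg.Agent.LsF.f83296e_33 : {f // @Cfsg.Agent.MO.WC.Tb.valOK = f} := ⟨_, by first | (delta Cfsg.Agent.MO.WC.Tb.valOK; rewrite [Cfsg.Agent.LsF.f83296e_7.2, Cfsg.Agent.LsF.f83296e_27.2, Cfsg.Agent.LsF.f83296e_32.2, Cfsg.Agent.LsF.and_eq, Cfsg.Agent.LsF.length_eq]; exact rfl) | exact rfl⟩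
private noncomputable def _root_.Cfsg.Agent.LsF.f83296e_34 : {f // @Cfsg.Agent.MO.WC.Tb.baseOK = f} := ⟨_, by first | (delta Cfsg.Agent.MO.WC.Tb.baseOK; rewrite [Cfsg.Agent.LsF.f83296e_22.2, Cfsg.Agent.LsF.f83296e_27.2, Cfsg.Agent.LsF.f83296e_28.2, Cfsg.Agent.LsF.f83296e_5.2, Cfsg.Agent.LsF.f83296e_33.2, Cfsg.Agent.LsF.nsub_pat, Cfsg.Agent.LsF.icast_pat, Cfsg.Agent.LsF.and_eq, Cfsg.Agent.LsF.all_eq, Cfsg.Agent.LsF.map_eq, Cfsg.Agent.LsF.replicate_eq, Cfsg.Agent.LsF.instIDecEq_eq, Cfsg.Agent.LsF.idecLt_eq, Cfsg.Agent.LsF.length_eq, Cfsg.Agent.LsF.decide_eq]; exact rfl) | exact rfl⟩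
private noncomputable def _root_.Cfsg.Agent.LsF.f83296e_35 : {f // @Cfsg.Agent.MO.WC.sum2 = f} := ⟨_, by first | (delta Cfsg.Agent.MO.WC.sum2; rewrite [Cfsg.Agent.LsF.iadd_eq, Cfsg.Agent.LsF.imul_eq]; (try delta List.casesOn); exact rfl) | exact rfl⟩
private noncomputable def _root_.Cfsg.Agent.LsF.f83296e_36 : {f // @Cfsg.Agent.MO.WC.Tb.massOK = f} := ⟨_, by first | (delta Cfsg.Agent.MO.WC.Tb.massOK; rewrite [Cfsg.Agent.LsF.f83296e_14.2, Cfsg.Agent.LsF.f83296e_35.2, Cfsg.Agent.LsF.f83296e_16.2, Cfsg.Agent.LsF.imul_pat, Cfsg.Agent.LsF.icast_pat, Cfsg.Agent.LsF.and_eq, Cfsg.Agent.LsF.all_eq, Cfsg.Agent.LsF.instIDecEq_eq, Cfsg.Agent.LsF.length_eq, Cfsg.Agent.LsF.decide_eq]; exact rfl) | exact rfl⟩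
private noncomputable def _root_.Cfsg.Agent.LsF.f83296e_37 : {f // @Cfsg.Agent.MO.WC.addZ = f} := ⟨_, by first | (delta Cfsg.Agent.MO.WC.addZ; rewrite [Cfsg.Agent.LsF.iadd_eq, Cfsg.Agent.LsF.imul_eq]; (try delta List.casesOn); exact rfl) | exact rfl⟩
private noncomputable def _root_.Cfsg.Agent.LsF.f83296e_38 : {f // @Cfsg.Agent.MO.WC.accZ = f} := ⟨_, by first | (delta Cfsg.Agent.MO.WC.accZ; rewrite [Cfsg.Agent.LsF.f83296e_37.2]; (try delta List.casesOn); exact rfl) | exact rfl⟩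
private noncomputable def _root_.Cfsg.Agent.LsF.f83296e_39 : {f // @Cfsg.Agent.MO.WC.Fd.nq = f} := ⟨_, by first | (delta Cfsg.Agent.MO.WC.Fd.nq; rewrite [Cfsg.Agent.LsF.f83296e_29.2, Cfsg.Agent.LsF.f83296e_30.2, Cfsg.Agent.LsF.iadd_eq, Cfsg.Agent.LsF.imul_eq]; exact rfl) | exact rfl⟩
private noncomputable def _root_.Cfsg.Agent.LsF.f83296e_40 : {f // @Cfsg.Agent.MO.WC.Tb.nrmOK = f} := ⟨_, by first | (delta Cfsg.Agent.MO.WC.Tb.nrmOK; rewrite [Cfsg.Agent.LsF.f83296e_5.2, Cfsg.Agent.LsF.f83296e_38.2, Cfsg.Agent.LsF.f83296e_39.2, Cfsg.Agent.LsF.icast_pat, Cfsg.Agent.LsF.instIDecEq_eq, Cfsg.Agent.LsF.decide_eq]; exact rfl) | exact rfl⟩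
private noncomputable def _root_.Cfsg.Agent.LsF.f83296e_41 : {f // @Cfsg.Agent.MO.WC.sab = f} := ⟨_, by first | (delta Cfsg.Agent.MO.WC.sab; rewrite [Cfsg.Agent.LsF.f83296e_28.2]; exact rfl) | exact rfl⟩
private noncomputable def _root_.Cfsg.Agent.LsF.f83296e_42 : {f // @Cfsg.Agent.MO.WC.dotS = f} := ⟨_, by first | (delta Cfsg.Agent.MO.WC.dotS; rewrite [Cfsg.Agent.LsF.cond_eq, Cfsg.Agent.LsF.iadd_eq, Cfsg.Agent.LsF.imul_eq, Cfsg.Agent.LsF.instIDecEq_eq, Cfsg.Agent.LsF.decide_eq]; (try delta List.casesOn); exact rfl) | exact rfl⟩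
private noncomputable def _root_.Cfsg.Agent.LsF.f83296e_43 : {f // @Cfsg.Agent.MO.WC.zpk = f} := ⟨_, by first | (delta Cfsg.Agent.MO.WC.zpk; rewrite [Cfsg.Agent.LsF.map_eq, Cfsg.Agent.LsF.iadd_eq, Cfsg.Agent.LsF.imul_eq]; (try delta List.casesOn); exact rfl) | exact rfl⟩
private noncomputable def _root_.Cfsg.Agent.LsF.f83296e_44 : {f // @Cfsg.Agent.MO.WC.pkR = f} := ⟨_, by first | (delta Cfsg.Agent.MO.WC.pkR; rewrite [Cfsg.Agent.LsF.f83296e_43.2]; exact rfl) | exact rfl⟩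
private noncomputable def _root_.Cfsg.Agent.LsF.f83296e_45 : {f // @Cfsg.Agent.MO.WC.en = f} := ⟨_, by first | (delta Cfsg.Agent.MO.WC.en; rewrite [Cfsg.Agent.LsF.iadd_eq, Cfsg.Agent.LsF.imul_eq]; exact rfl) | exact rfl⟩
private noncomputable def _root_.Cfsg.Agent.LsF.f83296e_46 : {f // @Cfsg.Agent.MO.WC.pkE = f} := ⟨_, by first | (delta Cfsg.Agent.MO.WC.pkE; rewrite [Cfsg.Agent.LsF.iadd_eq, Cfsg.Agent.LsF.imul_eq]; exact rfl) | exact rfl⟩
private noncomputable def _root_.Cfsg.Agent.LsF.f83296e_47 : {f // @Cfsg.Agent.MO.WC.Tb.valF = f} := ⟨_, by first | (delta Cfsg.Agent.MO.WC.Tb.valF; rewrite [Cfsg.Agent.LsF.f83296e_14.2, Cfsg.Agent.LsF.f83296e_41.2, Cfsg.Agent.LsF.f83296e_42.2, Cfsg.Agent.LsF.f83296e_44.2, Cfsg.Agent.LsF.f83296e_45.2, Cfsg.Agent.LsF.f83296e_46.2, Cfsg.Agent.LsF.and_eq, Cfsg.Agent.LsF.instIDecEq_eq, Cfsg.Agent.LsF.length_eq, Cfsg.Agent.LsF.decide_eq]; exact rfl)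 | exact rfl⟩
private noncomputable def _root_.Cfsg.Agent.LsF.f83296e_48 : {f // @Cfsg.Agent.MO.WC.Q.mul' = f} := ⟨_, by first | (delta Cfsg.Agent.MO.WC.Q.mul'; rewrite [Cfsg.Agent.LsF.f83296e_31.2]; exact rfl) | exact rfl⟩
private noncomputable def _root_.Cfsg.Agent.LsF.f83296e_49 : {f // @Cfsg.Agent.MO.WC.Q.mx = f} := ⟨_, by first | (delta Cfsg.Agent.MO.WC.Q.mx; rewrite [Cfsg.Agent.LsF.iadd_eq, Cfsg.Agent.LsF.imul_eq]; exact rfl) | exact rfl⟩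
private noncomputable def _root_.Cfsg.Agent.LsF.f83296e_50 : {f // @Cfsg.Agent.MO.WC.Q.pw = f} := ⟨_, by first | (delta Cfsg.Agent.MO.WC.Q.pw; rewrite [Cfsg.Agent.LsF.f83296e_49.2]; exact rfl) | exact rfl⟩
private noncomputable def _root_.Cfsg.Agent.LsF.f83296e_51 : {f // @Cfsg.Agent.MO.WC.same = f} := ⟨_, by first | (delta Cfsg.Agent.MO.WC.same; rewrite [Cfsg.Agent.LsF.f83296e_5.2, Cfsg.Agent.LsF.f83296e_27.2, Cfsg.Agent.LsF.length_eq]; exact rfl) | exact rfl⟩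
private noncomputable def _root_.Cfsg.Agent.LsF.f83296e_52 : {f // @Cfsg.Agent.MO.WC.unitF = f} := ⟨_, by first | (delta Cfsg.Agent.MO.WC.unitF; rewrite [Cfsg.Agent.LsF.f83296e_5.2, Cfsg.Agent.LsF.f83296e_15.2, Cfsg.Agent.LsF.f83296e_51.2, Cfsg.Agent.LsF.and_eq, Cfsg.Agent.LsF.or_eq, Cfsg.Agent.LsF.not_eq, Cfsg.Agent.LsF.cond_eq, Cfsg.Agent.LsF.all_eq, Cfsg.Agent.LsF.instIDecEq_eq, Cfsg.Agent.LsF.length_eq, Cfsg.Agent.LsF.decide_eq]; exact rfl) | exact rfl⟩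
private noncomputable def _root_.Cfsg.Agent.LsF.f83296e_53 : {f // @Cfsg.Agent.MO.WC.go = f} := ⟨_, by first | (delta Cfsg.Agent.MO.WC.go; rewrite [Cfsg.Agent.LsF.f83296e_5.2, Cfsg.Agent.LsF.f83296e_47.2, Cfsg.Agent.LsF.f83296e_48.2, Cfsg.Agent.LsF.f83296e_50.2, Cfsg.Agent.LsF.f83296e_52.2, Cfsg.Agent.LsF.and_eq, Cfsg.Agent.LsF.testBit_eq, Cfsg.Agent.LsF.map_eq]; (try delta Cfsg.Agent.MO.WC.Is.casesOn); exact rfl) | exact rfl⟩
private noncomputable def _root_.Cfsg.Agent.LsF.f83296e_54 : {f // @Cfsg.Agent.MO.WC.runG = f} := ⟨_, by first | (delta Cfsg.Agent.MO.WC.runG; rewrite [Cfsg.Agent.LsF.f83296e_9.2, Cfsg.Agent.LsF.cond_eq]; exact rfl) | exact rfl⟩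
private noncomputable def _root_.Cfsg.Agent.LsF.f83296e_55 : {f // @Cfsg.Agent.MO.WC.Gp.runH = f} := ⟨_, by first | (delta Cfsg.Agent.MO.WC.Gp.runH; rewrite [Cfsg.Agent.LsF.f83296e_54.2]; exact rfl) | exact rfl⟩
private noncomputable def _root_.Cfsg.Agent.LsF.f83296e_56 : {f // @Cfsg.Agent.MO.WC.Gp.setOK = f} := ⟨_, by first | (delta Cfsg.Agent.MO.WC.Gp.setOK; rewrite [Cfsg.Agent.LsF.f83296e_7.2, Cfsg.Agent.LsF.f83296e_9.2, Cfsg.Agent.LsF.f83296e_55.2, Cfsg.Agent.LsF.f83296e_12.2, Cfsg.Agent.LsF.f83296e_11.2, Cfsg.Agent.LsF.and_eq, Cfsg.Agent.LsF.all_eq, Cfsg.Agent.LsF.map_eq]; exact rfl) | exact rfl⟩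
private noncomputable def _root_.Cfsg.Agent.LsF.f83296e_57 : {f // @Cfsg.Agent.MO.WC.Gp.baseOK = f} := ⟨_, by first | (delta Cfsg.Agent.MO.WC.Gp.baseOK; rewrite [Cfsg.Agent.LsF.f83296e_6.2, Cfsg.Agent.LsF.f83296e_5.2, Cfsg.Agent.LsF.f83296e_9.2, Cfsg.Agent.LsF.f83296e_55.2, Cfsg.Agent.LsF.f83296e_56.2, Cfsg.Agent.LsF.f83296e_11.2, Cfsg.Agent.LsF.f83296e_33.2, Cfsg.Agent.LsF.f83296e_23.2, Cfsg.Agent.LsF.and_eq, Cfsg.Agent.LsF.or_eq, Cfsg.Agent.LsF.not_eq, Cfsg.Agent.LsF.all_eq, Cfsg.Agent.LsF.map_eq, Cfsg.Agent.LsF.length_eq]; exact rfl) | exact rfl⟩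
private noncomputable def _root_.Cfsg.Agent.LsF.f83296e_58 : {f // @Cfsg.Agent.MO.WC.smZ = f} := ⟨_, by first | (delta Cfsg.Agent.MO.WC.smZ; rewrite [Cfsg.Agent.LsF.iadd_eq]; exact rfl) | exact rfl⟩
private noncomputable def _root_.Cfsg.Agent.LsF.f83296e_59 : {f // @Cfsg.Agent.MO.WC.zq = f} := ⟨_, by first | (delta Cfsg.Agent.MO.WC.zq; rewrite [Cfsg.Agent.LsF.f83296e_48.2]; (try delta List.casesOn); exact rfl) | exact rfl⟩
private noncomputable def _root_.Cfsg.Agent.LsF.f83296e_60 : {f // @Cfsg.Agent.MO.WC.Tb.eig1 = f} := ⟨_, by first | (delta Cfsg.Agent.MO.WC.Tb.eig1; rewrite [Cfsg.Agent.LsF.f83296e_41.2, Cfsg.Agent.LsF.f83296e_58.2, Cfsg.Agent.LsF.f83296e_46.2, Cfsg.Agent.LsF.f83296e_45.2, Cfsg.Agent.LsF.f83296e_59.2, Cfsg.Agent.LsF.nadd_pat, Cfsg.Agent.LsF.nmul_pat, Cfsg.Agent.LsF.icast_pat, Cfsg.Agent.LsF.and_eq, Cfsg.Agent.LsF.instIDecEq_eq, Cfsg.Agent.LsF.idecLt_eq, Cfsg.Agent.LsF.length_eq,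 Cfsg.Agent.LsF.decide_eq]; exact rfl) | exact rfl⟩
private noncomputable def _root_.Cfsg.Agent.LsF.f83296e_61 : {f // @Cfsg.Agent.MO.WC.Tb.eigOK = f} := ⟨_, by first | (delta Cfsg.Agent.MO.WC.Tb.eigOK; rewrite [Cfsg.Agent.LsF.f83296e_5.2, Cfsg.Agent.LsF.f83296e_60.2, Cfsg.Agent.LsF.f83296e_46.2, Cfsg.Agent.LsF.f83296e_45.2, Cfsg.Agent.LsF.f83296e_50.2, Cfsg.Agent.LsF.nadd_pat, Cfsg.Agent.LsF.iadd_pat, Cfsg.Agent.LsF.map_eq]; exact rfl) | exact rfl⟩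
private noncomputable def _root_.Cfsg.Agent.LsF.f83296e_62 : {f // @Cfsg.Agent.MO.WC.runM = f} := ⟨_, by first | (delta Cfsg.Agent.MO.WC.runM; rewrite [Cfsg.Agent.LsF.cond_eq]; exact rfl) | exact rfl⟩
private noncomputable def _root_.Cfsg.Agent.LsF.f83296e_63 : {f // @Cfsg.Agent.MO.WC.mat = f} := ⟨_, by first | (delta Cfsg.Agent.MO.WC.mat; rewrite [Cfsg.Agent.LsF.f83296e_10.2, Cfsg.Agent.LsF.f83296e_9.2, Cfsg.Agent.LsF.map_eq, Cfsg.Agent.LsF.range_eq, Cfsg.Agent.LsF.sum_eq]; exact rfl) | exact rfl⟩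
private noncomputable def _root_.Cfsg.Agent.LsF.f83296e_64 : {f // @Cfsg.Agent.MO.WC.Gp.cjM = f} := ⟨_, by first | (delta Cfsg.Agent.MO.WC.Gp.cjM; rewrite [Cfsg.Agent.LsF.f83296e_62.2, Cfsg.Agent.LsF.f83296e_63.2, Cfsg.Agent.LsF.and_eq, Cfsg.Agent.LsF.map_eq]; exact rfl) | exact rfl⟩
private noncomputable def _root_.Cfsg.Agent.LsF.f83296e_65 : {f // @Cfsg.Agent.MO.WC.Gp.row1 = f} := ⟨_, by first | (delta Cfsg.Agent.MO.WC.Gp.row1; rewrite [Cfsg.Agent.LsF.f83296e_7.2, Cfsg.Agent.LsF.f83296e_64.2, Cfsg.Agent.LsF.f83296e_63.2]; exact rfl) | exact rfl⟩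
private noncomputable def _root_.Cfsg.Agent.LsF.f83296e_66 : {f // @Cfsg.Agent.MO.WC.Gp.rowOK = f} := ⟨_, by first | (delta Cfsg.Agent.MO.WC.Gp.rowOK; rewrite [Cfsg.Agent.LsF.f83296e_5.2, Cfsg.Agent.LsF.f83296e_65.2, Cfsg.Agent.LsF.nadd_pat]; exact rfl) | exact rfl⟩
private noncomputable def _root_.Cfsg.Agent.LsF.f83296e_67 : {f // @Cfsg.Agent.MO.WC.Gp.full = f} := ⟨_, by first | (delta Cfsg.Agent.MO.WC.Gp.full; rewrite [Cfsg.Agent.LsF.f83296e_34.2, Cfsg.Agent.LsF.f83296e_36.2, Cfsg.Agent.LsF.f83296e_40.2, Cfsg.Agent.LsF.f83296e_53.2, Cfsg.Agent.LsF.f83296e_57.2, Cfsg.Agent.LsF.f83296e_5.2, Cfsg.Agent.LsF.f83296e_61.2, Cfsg.Agent.LsF.f83296e_66.2, Cfsg.Agent.LsF.and_eq, Cfsg.Agent.LsF.length_eq]; exact rfl) | exact rfl⟩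
private noncomputable def _root_.Cfsg.Agent.LsF.f83296e_68 : {f // @Cfsg.Agent.MO.WC.G16_D = f} := ⟨_, by first | (delta Cfsg.Agent.MO.WC.G16_D; rewrite [Cfsg.Agent.LsF.map_eq]; exact rfl) | exact rfl⟩
private noncomputable def _root_.Cfsg.Agent.LsF.f83296e_69 : {f // @Cfsg.Agent.MO.WC.G16_T = f} := ⟨_, by first | (delta Cfsg.Agent.MO.WC.G16_T; rewrite [Cfsg.Agent.LsF.map_eq]; exact rfl) | exact rfl⟩
theorem G16_good : G16_D.Good E8.toTy G16_T := Gp.good_of_full E8_good.ok ok5 (unz 2 0xaa28a000)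
    [.unit 11 [(1, 0)], .unit 10 [(1, 0)], .unit 8 [(1, 0)], .unit 6 [(1, 0)], .prod 6 6 (unz 2 0x280000000000a0), .unit
    2 [(1, 0)], .unit 24 [(1, 0)], .prod 24 24 (unz 2 0xa0000000a00000000a00), .unit 36 [(1, 0)], .unit 4 [(1, 0)],
    .unit 21 [(1, 0)], .prod 21 36 (unz 2 0xa0028000002a800000000), .unit 17 [(1, 0)], .unit 18 [(1, 0)], .unit 37 [(1,
    0)], .unit 31 [(1, 0)], .prod 31 31 (unz 2 0x28000000a28000a00000028), .unit 15 [(1, 0)], .unit 25 [(1, 0)], .unit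
    39 [(1, 0)], .unit 1 [(1, 0)], .unit 23 [(1, 0)], .prod 15 36 (unz 2 0xa28000028a0000000000), .unit 33 [(1, 0)],
    .unit 20 [(1, 0)], .unit 35 [(1, 0)], .unit 22 [(1, 0)], .prod 15 25 (unz 2 0xa00028000000a00000000), .unit 16 [(1,
    0)], .unit 30 [(1, 0)], .unit 38 [(1, 0)], .prod 6 15 (unz 2 0xa000000000028000), .unit 7 [(1, 0)], .unit 29 [(1,
    0)], .prod 15 29 (unz 2 0xa000002800000000280000), .unit 40 [(1, 0)], .unit 9 [(1, 0)], .unit 28 [(1, 0)], .prod 16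
    28 (unz 2 0xa00000000280000028000000), .unit 13 [(1, 0)], .unit 26 [(1, 0)], .unit 44 [(1, 0)], .prod 16 29 (unz 2
    0xa0000000a0000000a000000), .unit 27 [(1, 0)], .unit 42 [(1, 0)], .unit 12 [(1, 0)], .prod 16 27 (unz 2
    0x28002800000000000002800), .unit 5 [(1, 0)], .unit 34 [(1, 0)], .unit 41 [(1, 0)], .prod 6 40 (unz 2
    0xa0280000028000000000), .unit 19 [(1, 0)], .unit 32 [(1, 0)], .prod 1 2 (unz 2 0x280), .unit 3 [(1, 0)], .prod 1 11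
    (unz 2 0xa0000000), .unit 14 [(1, 0)], .prod 1 41 (unz 2 0x28000000000000000000000), .unit 43 [(1, 0)]]
  (by ((try (rewrite [Cfsg.Agent.LsF.f83296e_67.2, Cfsg.Agent.LsF.f83296e_68.2, Cfsg.Agent.LsF.f83296e_4.2, Cfsg.Agent.LsF.f83296e_69.2, Cfsg.Agent.LsF.f83296e_3.2])); decide +kernel))

theorem cenK_E8_106 : CenK E8 106
    [1, 1, 1, 1, 1, 2, 2, 2, 2, 2, 2, 2, 2, 2, 2, 3, 3, 3, 3, 3, 3, 3, 3, 3, 3, 4, 4, 4, 4, 4, 4, 4, 4, 4, 4, 5, 5, 5,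
    5, 5, 6, 6, 6, 6, 6] :=
  cenK_of G16_good E8_good 0x1012034354326543123476543120324315432065431276543 0x1013124312054326a
    (by decide +kernel)

theorem cenK_E8_90 : CenK E8 90
    [1, 1, 1, 1, 1, 2, 2, 2, 2, 2, 2, 2, 2, 2, 2, 3, 3, 3, 3, 3, 3, 3, 3, 3, 3, 4, 4, 4, 4, 4, 4, 4, 4, 4, 4, 5, 5, 5,
    5, 5, 6, 6, 6, 6, 6] :=
  cenK_of G16_good E8_good 0x1312034312032454312032431565431203243154320657654312032431543206543127654 0x101243120324315431203243546543120324315432065431276543120324565a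
    (by decide +kernel)

namespace G9

noncomputable section

def a0 : Q := ⟨1, 0, 0, 0⟩
def b0 : Q := ⟨0, 0, 0, 0⟩
def c0 : Q := ⟨-1, 0, 0, 0⟩
def d0 : Q := ⟨0, 0, -1, 0⟩
def e0 : Q := ⟨0, 0, 1, 0⟩
def f0 : Q := ⟨2, 0, 0, 0⟩
def g0 : Q := ⟨3, 0, 0, 0⟩
def h0 : Q := ⟨-2, 0, 0, 0⟩
def i0 : Q := ⟨-3, 0, 0, 0⟩
def j0 : Q := ⟨0, 0, 0, -1⟩
def k0 : Q := ⟨0, 0, 0, 1⟩
def l0 : Q := ⟨0, -1, 0, 0⟩
def m0 : Q := ⟨0, 1, 0, 0⟩
def n0 : Q := ⟨0, 0, 2, 0⟩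
def o0 : Q := ⟨0, 0, -2, 0⟩
def p0 : Q := ⟨-1, 0, -1, 0⟩
def q0 : Q := ⟨-1, 0, 1, 0⟩
def r0 : Q := ⟨1, 0, -1, 0⟩
def s0 : Q := ⟨1, 0, 1, 0⟩
def t0 : Q := ⟨0, 0, 0, -2⟩
def u0 : Q := ⟨0, 0, 0, 2⟩
def v0 : Q := ⟨0, -2, 0, 0⟩
def w0 : Q := ⟨0, 2, 0, 0⟩
def x0 : Q := ⟨0, 0, -3, 0⟩
def y0 : Q := ⟨0, 0, 3, 0⟩
def z0 : Q := ⟨0, -1, 0, 1⟩
def a1 : Q := ⟨0, 1, 0, -1⟩
def b1 : Q := ⟨0, -1, 0, -1⟩
def c1 : Q := ⟨0, 1, 0, 1⟩
def d1 : Q := ⟨4, 0, 0, 0⟩
def e1 : Q := ⟨0, 4, 0, 0⟩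
def f1 : Q := ⟨0, 0, 0, 4⟩
def g1 : Q := ⟨0, 0, 0, -4⟩
def h1 : Q := ⟨0, -4, 0, 0⟩
def i1 : Q := ⟨0, 0, 4, 0⟩
def j1 : Q := ⟨0, 0, -4, 0⟩
def k1 : Q := ⟨-4, 0, 0, 0⟩
def l1 : Q := ⟨6, 0, 0, 0⟩
def m1 : Q := ⟨-6, 0, 0, 0⟩
def n1 : Q := ⟨0, -3, 0, 3⟩
def o1 : Q := ⟨0, 3, 0, -3⟩

def c_0 : List Q := [a0, a0, a0, a0, a0, a0, a0, a0, f0, f0, f0, f0, f0, f0, f0, f0, f0, f0, f0, f0, g0, g0, g0, g0, g0, g0, g0, g0, d1,
    d1, d1, d1]
def c_1 : List Q := [a0, c0, c0, d0, d0, e0, e0, a0, p0, p0, q0, q0, b0, b0, b0, b0, r0, r0, s0, s0, c0, c0, d0, d0, e0, e0, a0, a0]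
def c_2 : List Q := [a0, c0, c0, e0, e0, d0, d0, a0, q0, q0, p0, p0, b0, b0, b0, b0, s0, s0, r0, r0, c0, c0, e0, e0, d0, d0, a0, a0]
def c_3 : List Q := [a0, a0, a0, c0, c0, c0, c0, a0, b0, b0, b0, b0, h0, h0, f0, f0, b0, b0, b0, b0, c0, c0, a0, a0, a0, a0, c0, c0]
def c_4 : List Q := [a0, c0, a0, c0, a0, c0, a0, c0, b0, b0, b0, b0, b0, b0, b0, b0, b0, b0, b0, b0, c0, a0, c0, a0, c0, a0, c0, a0]
def c_5 : List Q := [a0, a0, c0, e0, d0, d0, e0, c0, j0, k0, l0, m0, d0, e0, c0, a0, l0, m0, j0, k0, b0, b0, b0, b0, b0, b0, b0, b0, l0,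
    j0, k0, m0]
def c_6 : List Q := [a0, a0, c0, d0, e0, e0, d0, c0, m0, l0, k0, j0, e0, d0, c0, a0, k0, j0, m0, l0, b0, b0, b0, b0, b0, b0, b0, b0, k0,
    m0, l0, j0]
def c_7 : List Q := [a0, a0, c0, e0, d0, d0, e0, c0, t0, u0, v0, w0, n0, o0, f0, h0, v0, w0, t0, u0, i0, g0, x0, y0, y0, x0, g0, i0, e1,
    f1, g1, h1]
def c_8 : List Q := [a0, c0, a0, a0, c0, a0, c0, c0, z0, a1, a1, z0, b0, b0, b0, b0, z0, a1, a1, z0, a0, c0, c0, a0, c0, a0, a0, c0]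
def c_9 : List Q := [a0, a0, c0, d0, e0, e0, d0, c0, w0, v0, u0, t0, o0, n0, f0, h0, u0, t0, w0, v0, i0, g0, y0, x0, x0, y0, g0, i0, g1,
    h1, e1, f1]
def c_10 : List Q := [a0, a0, a0, c0, c0, c0, c0, a0, d0, d0, e0, e0, a0, a0, c0, c0, e0, e0, d0, d0, b0, b0, b0, b0, b0, b0, b0, b0, d0,
    e0, e0, d0]
def c_11 : List Q := [a0, a0, a0, c0, c0, c0, c0, a0, e0, e0, d0, d0, a0, a0, c0, c0, d0, d0, e0, e0, b0, b0, b0, b0, b0, b0, b0, b0, e0,
    d0, d0, e0]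
def c_12 : List Q := [a0, c0, c0, d0, d0, e0, e0, a0, b0, b0, b0, b0, b0, b0, b0, b0, b0, b0, b0, b0, a0, a0, e0, e0, d0, d0, c0, c0]
def c_13 : List Q := [a0, c0, c0, e0, e0, d0, d0, a0, b0, b0, b0, b0, b0, b0, b0, b0, b0, b0, b0, b0, a0, a0, d0, d0, e0, e0, c0, c0]
def c_14 : List Q := [a0, c0, a0, c0, a0, c0, a0, c0, b1, c1, b1, c1, b0, b0, b0, b0, c1, b1, c1, b1, a0, c0, a0, c0, a0, c0, a0, c0]
def c_15 : List Q := [a0, c0, a0, c0, a0, c0, a0, c0, c1, b1, c1, b1, b0, b0, b0, b0, b1, c1, b1, c1, a0, c0, a0, c0, a0, c0, a0, c0]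
def c_16 : List Q := [a0, a0, c0, e0, d0, d0, e0, c0, b0, b0, b0, b0, n0, o0, f0, h0, b0, b0, b0, b0, a0, c0, e0, d0, d0, e0, c0, a0]
def c_17 : List Q := [a0, a0, c0, d0, e0, e0, d0, c0, b0, b0, b0, b0, o0, n0, f0, h0, b0, b0, b0, b0, a0, c0, d0, e0, e0, d0, c0, a0]
def c_18 : List Q := [a0, a0, a0, a0, a0, a0, a0, a0, a0, a0, a0, a0, c0, c0, c0, c0, a0, a0, a0, a0, b0, b0, b0, b0, b0, b0, b0, b0, c0,
    c0, c0, c0]
def c_19 : List Q := [a0, a0, c0, d0, e0, e0, d0, c0, l0, m0, j0, k0, e0, d0, c0, a0, j0, k0, l0, m0, b0, b0, b0, b0, b0, b0, b0, b0, j0,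
    l0, m0, k0]
def c_20 : List Q := [a0, a0, c0, e0, d0, d0, e0, c0, k0, j0, m0, l0, d0, e0, c0, a0, m0, l0, k0, j0, b0, b0, b0, b0, b0, b0, b0, b0, m0,
    k0, j0, l0]
def c_21 : List Q := [a0, c0, a0, a0, c0, a0, c0, c0, b0, b0, b0, b0, b0, b0, b0, b0, b0, b0, b0, b0, c0, a0, a0, c0, a0, c0, c0, a0]
def c_22 : List Q := [a0, a0, a0, a0, a0, a0, a0, a0, b0, b0, b0, b0, f0, f0, f0, f0, b0, b0, b0, b0, c0, c0, c0, c0, c0, c0, c0, c0]
def c_23 : List Q := [a0, a0, a0, c0, c0, c0, c0, a0, o0, o0, n0, n0, h0, h0, f0, f0, n0, n0, o0, o0, g0, g0, i0, i0, i0, i0, g0, g0, i1,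
    j1, j1, i1]
def c_24 : List Q := [a0, a0, a0, c0, c0, c0, c0, a0, n0, n0, o0, o0, h0, h0, f0, f0, o0, o0, n0, n0, g0, g0, i0, i0, i0, i0, g0, g0, j1,
    i1, i1, j1]
def c_25 : List Q := [a0, c0, c0, e0, e0, d0, d0, a0, r0, r0, s0, s0, b0, b0, b0, b0, p0, p0, q0, q0, c0, c0, e0, e0, d0, d0, a0, a0]
def c_26 : List Q := [a0, c0, c0, d0, d0, e0, e0, a0, s0, s0, r0, r0, b0, b0, b0, b0, q0, q0, p0, p0, c0, c0, d0, d0, e0, e0, a0, a0]
def c_27 : List Q := [a0, a0, a0, a0, a0, a0, a0, a0, c0, c0, c0, c0, c0, c0, c0, c0, c0, c0, c0, c0, b0, b0, b0, b0, b0, b0, b0, b0, a0,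
    a0, a0, a0]
def c_28 : List Q := [a0, c0, a0, a0, c0, a0, c0, c0, a1, z0, z0, a1, b0, b0, b0, b0, a1, z0, z0, a1, a0, c0, c0, a0, c0, a0, a0, c0]
def c_29 : List Q := [a0, a0, c0, e0, d0, d0, e0, c0, u0, t0, w0, v0, n0, o0, f0, h0, w0, v0, u0, t0, i0, g0, x0, y0, y0, x0, g0, i0, h1,
    g1, f1, e1]
def c_30 : List Q := [a0, a0, c0, d0, e0, e0, d0, c0, v0, w0, t0, u0, o0, n0, f0, h0, t0, u0, v0, w0, i0, g0, y0, x0, x0, y0, g0, i0, f1,
    e1, h1, g1]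
def c_31 : List Q := [a0, a0, a0, a0, a0, a0, a0, a0, h0, h0, h0, h0, f0, f0, f0, f0, h0, h0, h0, h0, g0, g0, g0, g0, g0, g0, g0, g0, k1,
    k1, k1, k1]
def c_32 : List Q := [a0, a0, c0, e0, d0, d0, e0, c0, j0, k0, l0, m0, e0, d0, a0, c0, l0, m0, j0, k0, c0, a0, d0, e0, e0, d0, a0, c0, m0,
    k0, j0, l0]
def c_33 : List Q := [l1, m1, l1, l1, m1, l1, m1, m1, n1, o1, o1, n1, b0, b0, b0, b0, n1, o1, o1, n1, f0, h0, h0, f0, h0, f0, f0, h0]

end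

end G9

open G9 in
noncomputable def G9_T : Tb where
  f := F8
  K := 32
  nu := 192
  n := [1, 6, 6, 6, 12, 8, 8, 1, 6, 1, 8, 8, 12, 12, 6, 6, 6, 6, 8, 8, 8, 12, 6, 1, 1, 6, 6, 8, 6, 1, 1, 1]
  XC := [c_0, c_1, c_2, c_3, c_4, c_5, c_6, c_7, c_8, c_9, c_10, c_11, c_12, c_13, c_14, c_15, c_16, c_17, c_18, c_19, c_20,
    c_21, c_22, c_23, c_24, c_25, c_26, c_27, c_28, c_29, c_30, c_31]
  rows := [(List.map (unp 5) [0x20e9, 0x2109, 0x21e9, 0x2229, 0x2189, 0x2149, 0x2249, 0x22e9, 0x266051, 0x2009, 0x2269, 0x20c9,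
    0x222ad, 0x2089, 0x2029, 0x2349, 0x2069, 0x2c2cd, 0x28220b5, 0x2369, 0x2169, 0x2821b1, 0x2c20d, 0x23c9, 0x2129,
    0x21c9, 0x2a38d, 0x2822295, 0x2a32d, 0x2309, 0x23e9, 0x23a9]), (List.map (unp 5) [0x998446c10da0436610da8436109,
    0x84a6220d18833640cd8326229, 0x882620ad82a6220b1902b60e9, 0x8726208d8226c08d902361e9, 0x85a6216da81b60698526214d,
    0x906b61a9986b604998136a04d, 0x980b6029a80b6418d98636189, 0x8126a04d98136804db013666051,
    0x80262225188936424d8926c2cd, 0x9980c6c02da00b6602da80b6029, 0x90236089982361e9987b6a1ed,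
    0x987361c9a8736408d98236089, 0x832620cda88b622989a6226d, 0x8a26228da883620982a620ad, 0x8c2622171885b6416d85a6069,
    0x81a6214d852622151905362e9, 0x8ca621ad86a6c1ad906b6049, 0x80a6218d8626c18d90636349, 0x98436109a84362a9a8ab622ad,
    0x906361899863634998d36a34d, 0x98cb6329a8cb641ad986b61a9, 0x90936c2cd8926436d90b36369,
    0xa8ab6a10da88ac622ad888e46822b1, 0x87a6a1ed987b681edb07b6661f1, 0x998746c1cda073661cda87361c9,
    0x8ea62229188a36428d8a26209, 0x88a6226d89a622271909b63c9, 0x8aa622ada8ab6a38d88e3622391,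
    0x888dc63e990db6822375888b4664371, 0x998cc6c32da0cb6632da8cb6329, 0x8d26a34d98d36834db0d3666351,
    0xa8e362239188e36438d8e26c38d])]
  lev := [c_32, c_33]
  b := 4
  B := 256

noncomputable def G9_D : Gp where
  Ls := [0x1020314312035431234565431234576, 0x1023120343205431234565431234576, 0x1243654312345765431203243154320,
    0x10204312034543165431203245765431203, 0x10131203243254654312034576543120324, 0x10232454316543120324357654312032431,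
    0x11231204312032431546543123457654320]
  rw := (unp 9
    0x80901890192189019218aa189019218aa19032a189019218aa19032a1891a2b3b2a189019218aa19032a1891a2b3b2a189019218aa19032a1891a2b3f8602406248624064862a8624064862a8640ca8624064862a8640ceca8624064862a8640ca862468aceca862468ad6989891a1892a1891a2b2a189019218aa19033b2a189019218aa19032a1891a2b3b2a189019218aa19032a1891a2da62624064864a862406486a8ca8624064862a86ceca8624064862a8640ca862468aceca8624064862a864ca95980901a189019218aa189019218aa32a189019218aa19032a1bb2a189019218aa19032a1891a2b3b2d0602406240648624064862a8624064862a8640ca8624064862a8640ceca862468acf09891891a1891a32a1891a2bb2a189019218aa19032a1891a2bb2a189019218aa190426262468ca862468aeca8624064862a8640ca862468aeca8624064862a8640f181018a18901921aa189019218aa19032a189019218aa19033b2a1891a2b3bc602408624064a8624064ca862406486aceca8624064862a8640ca86246ecaf1809018901a189019218aa18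9019218b2a18901922b3b2a18901921aa32bb3c66a86ca8624064862aeca8624064862a8640ca862468eca86240648d981018a18901922a189019218b2a18901922b3b2a18901921aa32bb36602408624064862a86240648aca862406486acecaa1809189019218901922a1891a2b2a1891a2bb246246862468ca862468aeca8624064862a86409180901892189019218aa1891a2b2a1891a2bb246262468624ca862468aeca8624064862a86409198901aa32a1893b2a189019218aa19032a22604062862a86240648aca862406486aceca899022a32a1893b2a189019218aa19032a2060406862a8624068aca86240648aceca88198932a1891a2bb2a189019218aa1901e604624068640a862468aca862468aec7981018a18901aa1891a2b2a1891a2bb1e60408624068a8ca862468aeca864071811922a32a18901a2bb2a18901921c6046248a8ca862468aeca864061891891a1891a0c64862461989891a06601)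
  rh := (unp 5
    0x800046000d8000056888da888c64001191104600000198026669988b6644415a9000566299100056440d90036444015a91046a44001999110066a4011800000076258166444001da9036a44015910046409911000661)
  cod := (unp 6
    0x7e7e7e7e7e7e7e7ff7ea67278867c7c6bf6e7e70847a847ca1f748e68a464946a87f4b444b2b4b3c3a3cfe9a49f1f9f9f9f9aff69ba41f9f9f9fa8fd69ba1a29ea09fa77d4d24f4ed0cfd04cbf84828c46b86e7e73fc44a4d3b4139363fffb3436473c494843fa2252416271b239a7f311530b130f4ecf7f928294847a847c65fc12d4d3c433e3e4ffe4a0a61e219f1f19ff04b52d08f508f93bfdcece550d10d151fe988a70789a768665fee767a789a768687f4a443a37503a4435fe096a3a21ea12125ff25051910f50908bff9282907c867c8461fc5374f304b38493ffe21a9f229fa3a519ff14dcfd1cf12520cbf82828e7e7e7e7e8ffc141463b433f4144fe0a0a1229ea09fa27f0505050505050507f)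
  tw := (List.map (unp 8) [0x102031431203543123456543123457679,
    0x2486ca862468aeca8624064862a8640f3013120324325465431203457654312032489811922a18b2a18901921abb2a189019218c4c48c4810c480c90c551950c48d15d950c82260408624068a862ca86240648aeca8624071302312034320543123456543123457679])
  th := (List.map (unp 3) [0x85, 0x95a5adb59d8d])

private noncomputable def _root_.Cfsg.Agent.LsF.f83296e_70 : {f // @Cfsg.Agent.MO.WC.G9_D = f} := ⟨_, by first | (delta Cfsg.Agent.MO.WC.G9_D; rewrite [Cfsg.Agent.LsF.map_eq]; exact rfl) | exact rfl⟩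
private noncomputable def _root_.Cfsg.Agent.LsF.f83296e_71 : {f // @Cfsg.Agent.MO.WC.G9_T = f} := ⟨_, by first | (delta Cfsg.Agent.MO.WC.G9_T; rewrite [Cfsg.Agent.LsF.map_eq]; exact rfl) | exact rfl⟩
theorem G9_good : G9_D.Good E8.toTy G9_T := Gp.good_of_full E8_good.ok ok8 (unz 2 0xaaaa00000000)
    [.unit 16 [(1, 0)], .unit 18 [(1, 0)], .unit 19 [(1, 0)], .unit 17 [(1, 0)], .prod 16 16 (unz 2 0xa000000000280),
    .unit 23 [(1, 0)], .unit 3 [(1, 0)], .prod 23 23 (unz 2 0xa000a00a000000a0), .unit 27 [(1, 0)], .unit 15 [(1, 0)],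
    .unit 20 [(1, 0)], .unit 2 [(1, 0)], .prod 20 23 (unz 2 0xa0a0000a0002800), .unit 22 [(1, 0)], .unit 13 [(1, 0)],
    .unit 25 [(1, 0)], .unit 5 [(1, 0)], .prod 20 27 (unz 2 0x2802800280000028), .unit 1 [(1, 0)], .unit 21 [(1, 0)],
    .unit 14 [(1, 0)], .unit 26 [(1, 0)], .prod 20 22 (unz 2 0x2a800002800a000), .unit 6 [(1, 0)], .unit 24 [(1, 0)],
    .unit 12 [(1, 0)], .prod 16 20 (unz 2 0x2800000002800000), .unit 11 [(1, 0)], .unit 28 [(1, 0)], .prod 11 24 (unz 2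
    0xa000000000280000), .unit 29 [(1, 0)], .unit 9 [(1, 0)], .prod 9 23 (unz 2 0xa0000000000a00000), .unit 31 [(1, 0)],
    .unit 10 [(1, 0)], .prod 9 27 (unz 2 0x280000000000a0000), .unit 8 [(1, 0)], .unit 30 [(1, 0)], .prod 1 2 (unz 2
    0x28000), .unit 7 [(1, 0)], .prod 1 5 (unz 2 0xa00), .unit 4 [(1, 0)]]
  (by ((try (rewrite [Cfsg.Agent.LsF.f83296e_67.2, Cfsg.Agent.LsF.f83296e_70.2, Cfsg.Agent.LsF.f83296e_4.2, Cfsg.Agent.LsF.f83296e_71.2, Cfsg.Agent.LsF.f83296e_3.2])); decide +kernel))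

theorem cenK_E8_93 : CenK E8 93
    [1, 1, 1, 1, 1, 1, 1, 1, 2, 2, 2, 2, 2, 2, 2, 2, 2, 2, 2, 2, 3, 3, 3, 3, 3, 3, 3, 3, 4, 4, 4, 4] :=
  cenK_of G9_good E8_good 0x1312654312345765431203243154320 0x1312067654315d
    (by decide +kernel)

namespace G10

noncomputable section

def a0 : Q := ⟨0, 0, 0, 0⟩
def b0 : Q := ⟨1, 0, 0, 0⟩
def c0 : Q := ⟨-1, 0, 0, 0⟩
def d0 : Q := ⟨-1, 0, 1, 0⟩
def e0 : Q := ⟨0, 0, -1, 0⟩
def f0 : Q := ⟨0, 0, 0, -1⟩
def g0 : Q := ⟨0, 0, 0, 1⟩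
def h0 : Q := ⟨0, 0, 1, 0⟩
def i0 : Q := ⟨1, 0, -1, 0⟩
def j0 : Q := ⟨2, 0, 0, 0⟩
def k0 : Q := ⟨3, 0, 0, 0⟩
def l0 : Q := ⟨0, -1, 0, 0⟩
def m0 : Q := ⟨0, 1, 0, 0⟩
def n0 : Q := ⟨0, -1, 0, 1⟩
def o0 : Q := ⟨0, 1, 0, -1⟩
def p0 : Q := ⟨-2, 0, 0, 0⟩
def q0 : Q := ⟨-2, 0, 2, 0⟩
def r0 : Q := ⟨0, 0, -2, 0⟩
def s0 : Q := ⟨0, 0, -3, 0⟩
def t0 : Q := ⟨-3, 0, 3, 0⟩
def u0 : Q := ⟨0, 0, 0, -2⟩
def v0 : Q := ⟨0, 0, 0, 2⟩
def w0 : Q := ⟨-3, 0, 0, 0⟩
def x0 : Q := ⟨-1, 0, 0, -1⟩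
def y0 : Q := ⟨1, 0, 0, 1⟩
def z0 : Q := ⟨-1, 0, 0, 1⟩
def a1 : Q := ⟨1, 0, 0, -1⟩
def b1 : Q := ⟨2, 0, -2, 0⟩
def c1 : Q := ⟨0, 0, 2, 0⟩
def d1 : Q := ⟨4, 0, 0, 0⟩
def e1 : Q := ⟨0, 0, 0, -4⟩
def f1 : Q := ⟨0, 0, 0, 4⟩
def g1 : Q := ⟨-4, 0, 0, 0⟩
def h1 : Q := ⟨0, -2, 0, 0⟩
def i1 : Q := ⟨0, 2, 0, 0⟩
def j1 : Q := ⟨0, -2, 0, 2⟩
def k1 : Q := ⟨0, 2, 0, -2⟩
def l1 : Q := ⟨0, 0, 3, 0⟩
def m1 : Q := ⟨3, 0, -3, 0⟩
def n1 : Q := ⟨-1, 1, 1, 0⟩
def o1 : Q := ⟨1, -1, -1, 0⟩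
def p1 : Q := ⟨-1, -1, 1, 0⟩
def q1 : Q := ⟨1, 1, -1, 0⟩
def r1 : Q := ⟨0, 1, -1, -1⟩
def s1 : Q := ⟨0, -1, 1, 1⟩
def t1 : Q := ⟨0, -1, -1, 1⟩
def u1 : Q := ⟨0, 1, 1, -1⟩
def v1 : Q := ⟨0, -4, 0, 4⟩
def w1 : Q := ⟨0, 4, 0, -4⟩
def x1 : Q := ⟨0, -4, 0, 0⟩
def y1 : Q := ⟨0, 4, 0, 0⟩
def z1 : Q := ⟨4, 0, -4, 0⟩
def a2 : Q := ⟨0, 0, 4, 0⟩
def b2 : Q := ⟨-4, 0, 4, 0⟩
def c2 : Q := ⟨0, 0, -4, 0⟩
def d2 : Q := ⟨6, 0, 0, 0⟩
def e2 : Q := ⟨0, 0, -6, 0⟩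
def f2 : Q := ⟨0, 6, 0, -6⟩
def g2 : Q := ⟨0, -6, 0, 6⟩
def h2 : Q := ⟨0, 0, 6, 0⟩
def i2 : Q := ⟨0, 6, 0, 0⟩
def j2 : Q := ⟨-6, 0, 6, 0⟩
def k2 : Q := ⟨6, 0, -6, 0⟩
def l2 : Q := ⟨0, -6, 0, 0⟩
def m2 : Q := ⟨-6, 0, 0, 0⟩
def n2 : Q := ⟨0, 0, 0, -6⟩
def o2 : Q := ⟨0, 0, 0, 6⟩
def p2 : Q := ⟨3, 0, 0, 3⟩
def q2 : Q := ⟨-3, 0, 0, -3⟩
def r2 : Q := ⟨3, 0, 0, -3⟩
def s2 : Q := ⟨-3, 0, 0, 3⟩
def t2 : Q := ⟨-3, 3, 3, 0⟩
def u2 : Q := ⟨3, -3, -3, 0⟩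
def v2 : Q := ⟨-3, -3, 3, 0⟩
def w2 : Q := ⟨3, 3, -3, 0⟩
def x2 : Q := ⟨0, 3, -3, -3⟩
def y2 : Q := ⟨0, -3, 3, 3⟩
def z2 : Q := ⟨0, -3, -3, 3⟩
def a3 : Q := ⟨0, 3, 3, -3⟩

def c_0 : List Q := [b0, b0, b0, b0, b0, b0, b0, b0, b0, b0, b0, b0, j0, j0, j0, j0, j0, j0, j0, j0, j0, j0, j0, j0, j0, j0, j0, j0, j0,
    j0, k0, k0, k0, k0, k0, k0, k0, k0, k0, k0, k0, k0, d1, d1, d1, d1, d1, d1]
def c_1 : List Q := [b0, d0, d0, d0, d0, e0, e0, e0, e0, b0, b0, b0, c0, c0, c0, c0, c0, c0, h0, h0, h0, h0, h0, h0, i0, i0, i0, i0, i0,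
    i0, a0, a0, a0, a0, a0, a0, a0, a0, a0, a0, a0, a0, d0, d0, e0, e0, b0, b0]
def c_2 : List Q := [b0, e0, e0, e0, e0, d0, d0, d0, d0, b0, b0, b0, c0, c0, c0, c0, c0, c0, i0, i0, i0, i0, i0, i0, h0, h0, h0, h0, h0,
    h0, a0, a0, a0, a0, a0, a0, a0, a0, a0, a0, a0, a0, e0, e0, d0, d0, b0, b0]
def c_3 : List Q := [b0, d0, l0, m0, i0, n0, e0, h0, o0, c0, f0, g0, a0, a0, a0, a0, a0, a0, a0, a0, a0, a0, a0, a0, a0, a0, a0, a0, a0,
    a0, c0, d0, l0, n0, e0, f0, g0, h0, o0, m0, i0, b0]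
def c_4 : List Q := [b0, e0, n0, o0, h0, l0, d0, i0, m0, c0, g0, f0, a0, a0, a0, a0, a0, a0, a0, a0, a0, a0, a0, a0, a0, a0, a0, a0, a0,
    a0, c0, e0, n0, l0, d0, g0, f0, i0, m0, o0, h0, b0]
def c_5 : List Q := [b0, e0, h0, h0, e0, i0, d0, d0, i0, b0, c0, c0, p0, u0, u0, v0, v0, j0, q0, h1, h1, i1, i1, b1, j1, j1, r0, c1, k1,
    k1, k0, s0, l1, m1, t0, w0, w0, t0, m1, l1, s0, k0, v1, w1, x1, y1, e1, f1]
def c_6 : List Q := [b0, d0, i0, i0, d0, h0, e0, e0, h0, b0, c0, c0, p0, v0, v0, u0, u0, j0, r0, j1, j1, k1, k1, c1, h1, h1, q0, b1, i1,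
    i1, k0, t0, m1, l1, s0, w0, w0, s0, l1, m1, t0, k0, x1, y1, v1, w1, f1, e1]
def c_7 : List Q := [b0, b0, g0, f0, c0, f0, b0, c0, g0, c0, f0, g0, a0, x0, y0, z0, a1, a0, a0, z0, a1, x0, y0, a0, x0, y0, a0, a0, z0,
    a1, b0, c0, f0, g0, c0, g0, f0, b0, f0, g0, b0, c0]
def c_8 : List Q := [b0, b0, f0, g0, c0, g0, b0, c0, f0, c0, g0, f0, a0, z0, a1, x0, y0, a0, a0, x0, y0, z0, a1, a0, z0, a1, a0, a0, x0,
    y0, b0, c0, g0, f0, c0, f0, g0, b0, g0, f0, b0, c0]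
def c_9 : List Q := [b0, e0, o0, n0, h0, m0, d0, i0, l0, c0, f0, g0, a0, y0, x0, a1, z0, a0, a0, n1, o1, p1, q1, a0, r1, s1, a0, a0, t1,
    u1, b0, h0, n0, l0, i0, g0, f0, d0, m0, o0, e0, c0]
def c_10 : List Q := [b0, d0, m0, l0, i0, o0, e0, h0, n0, c0, g0, f0, a0, a1, z0, y0, x0, a0, a0, r1, s1, t1, u1, a0, n1, o1, a0, a0, p1,
    q1, b0, i0, l0, n0, h0, f0, g0, e0, o0, m0, d0, c0]
def c_11 : List Q := [b0, d0, i0, i0, d0, h0, e0, e0, h0, b0, c0, c0, b0, g0, g0, f0, f0, c0, h0, n0, n0, o0, o0, e0, l0, l0, i0, d0, m0,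
    m0, a0, a0, a0, a0, a0, a0, a0, a0, a0, a0, a0, a0, m0, l0, o0, n0, f0, g0]
def c_12 : List Q := [b0, e0, h0, h0, e0, i0, d0, d0, i0, b0, c0, c0, b0, f0, f0, g0, g0, c0, i0, l0, l0, m0, m0, d0, n0, n0, h0, e0, o0,
    o0, a0, a0, a0, a0, a0, a0, a0, a0, a0, a0, a0, a0, o0, n0, m0, l0, g0, f0]
def c_13 : List Q := [b0, b0, c0, c0, b0, c0, b0, b0, c0, b0, c0, c0, b0, g0, g0, f0, f0, c0, c0, f0, f0, g0, g0, b0, g0, g0, c0, b0, f0,
    f0, a0, a0, a0, a0, a0, a0, a0, a0, a0, a0, a0, a0, f0, g0, g0, f0, f0, g0]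
def c_14 : List Q := [b0, b0, c0, c0, b0, c0, b0, b0, c0, b0, c0, c0, b0, f0, f0, g0, g0, c0, c0, g0, g0, f0, f0, b0, f0, f0, c0, b0, g0,
    g0, a0, a0, a0, a0, a0, a0, a0, a0, a0, a0, a0, a0, g0, f0, f0, g0, g0, f0]
def c_15 : List Q := [b0, b0, f0, g0, c0, g0, b0, c0, f0, c0, g0, f0, a0, a0, a0, a0, a0, a0, a0, a0, a0, a0, a0, a0, a0, a0, a0, a0, a0,
    a0, c0, b0, f0, g0, b0, g0, f0, c0, f0, g0, c0, b0]
def c_16 : List Q := [b0, b0, g0, f0, c0, f0, b0, c0, g0, c0, f0, g0, a0, a0, a0, a0, a0, a0, a0, a0, a0, a0, a0, a0, a0, a0, a0, a0, a0,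
    a0, c0, b0, g0, f0, b0, f0, g0, c0, g0, f0, c0, b0]
def c_17 : List Q := [b0, b0, c0, c0, b0, c0, b0, b0, c0, b0, c0, c0, p0, a0, a0, a0, a0, j0, j0, a0, a0, a0, a0, p0, a0, a0, j0, p0, a0,
    a0, c0, c0, b0, b0, c0, b0, b0, c0, b0, b0, c0, c0]
def c_18 : List Q := [b0, e0, n0, o0, h0, l0, d0, i0, m0, c0, g0, f0, a0, z0, a1, x0, y0, a0, a0, q1, p1, o1, n1, a0, u1, t1, a0, a0, s1,
    r1, b0, h0, o0, m0, i0, f0, g0, d0, l0, n0, e0, c0]
def c_19 : List Q := [b0, d0, l0, m0, i0, n0, e0, h0, o0, c0, f0, g0, a0, x0, y0, z0, a1, a0, a0, u1, t1, s1, r1, a0, q1, p1, a0, a0, o1,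
    n1, b0, i0, m0, o0, h0, g0, f0, e0, n0, l0, d0, c0]
def c_20 : List Q := [b0, e0, e0, e0, e0, d0, d0, d0, d0, b0, b0, b0, j0, a0, a0, a0, a0, j0, q0, a0, a0, a0, a0, q0, a0, a0, r0, r0, a0,
    a0, c0, h0, h0, i0, i0, c0, c0, i0, i0, h0, h0, c0]
def c_21 : List Q := [b0, d0, d0, d0, d0, e0, e0, e0, e0, b0, b0, b0, j0, a0, a0, a0, a0, j0, r0, a0, a0, a0, a0, r0, a0, a0, q0, q0, a0,
    a0, c0, i0, i0, h0, h0, c0, c0, h0, h0, i0, i0, c0]
def c_22 : List Q := [b0, b0, b0, b0, b0, b0, b0, b0, b0, b0, b0, b0, c0, b0, b0, b0, b0, c0, c0, b0, b0, b0, b0, c0, b0, b0, c0, c0, b0,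
    b0, a0, a0, a0, a0, a0, a0, a0, a0, a0, a0, a0, a0, c0, c0, c0, c0, c0, c0]
def c_23 : List Q := [b0, d0, d0, d0, d0, e0, e0, e0, e0, b0, b0, b0, j0, p0, p0, p0, p0, j0, r0, c1, c1, c1, c1, r0, b1, b1, q0, q0, b1,
    b1, k0, t0, t0, s0, s0, k0, k0, s0, s0, t0, t0, k0, z1, z1, a2, a2, g1, g1]
def c_24 : List Q := [b0, e0, e0, e0, e0, d0, d0, d0, d0, b0, b0, b0, j0, p0, p0, p0, p0, j0, q0, b1, b1, b1, b1, q0, c1, c1, r0, r0, c1,
    c1, k0, s0, s0, t0, t0, k0, k0, t0, t0, s0, s0, k0, a2, a2, z1, z1, g1, g1]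
def c_25 : List Q := [b0, d0, i0, i0, d0, h0, e0, e0, h0, b0, c0, c0, p0, a0, a0, a0, a0, j0, r0, a0, a0, a0, a0, c1, a0, a0, q0, b1, a0,
    a0, c0, i0, d0, e0, h0, b0, b0, h0, e0, d0, i0, c0]
def c_26 : List Q := [b0, e0, h0, h0, e0, i0, d0, d0, i0, b0, c0, c0, p0, a0, a0, a0, a0, j0, q0, a0, a0, a0, a0, b1, a0, a0, r0, c1, a0,
    a0, c0, h0, e0, d0, i0, b0, b0, i0, d0, e0, h0, c0]
def c_27 : List Q := [b0, e0, e0, e0, e0, d0, d0, d0, d0, b0, b0, b0, c0, b0, b0, b0, b0, c0, i0, d0, d0, d0, d0, i0, e0, e0, h0, h0, e0,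
    e0, a0, a0, a0, a0, a0, a0, a0, a0, a0, a0, a0, a0, h0, h0, i0, i0, c0, c0]
def c_28 : List Q := [b0, d0, d0, d0, d0, e0, e0, e0, e0, b0, b0, b0, c0, b0, b0, b0, b0, c0, h0, e0, e0, e0, e0, h0, d0, d0, i0, i0, d0,
    d0, a0, a0, a0, a0, a0, a0, a0, a0, a0, a0, a0, a0, i0, i0, h0, h0, c0, c0]
def c_29 : List Q := [b0, d0, l0, m0, i0, n0, e0, h0, o0, c0, f0, g0, a0, y0, x0, a1, z0, a0, a0, t1, u1, r1, s1, a0, p1, q1, a0, a0, n1,
    o1, b0, i0, m0, o0, h0, g0, f0, e0, n0, l0, d0, c0]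
def c_30 : List Q := [b0, e0, n0, o0, h0, l0, d0, i0, m0, c0, g0, f0, a0, a1, z0, y0, x0, a0, a0, p1, q1, n1, o1, a0, t1, u1, a0, a0, r1,
    s1, b0, h0, o0, m0, i0, f0, g0, d0, l0, n0, e0, c0]
def c_31 : List Q := [b0, d0, m0, l0, i0, o0, e0, h0, n0, c0, g0, f0, a0, a0, a0, a0, a0, a0, a0, a0, a0, a0, a0, a0, a0, a0, a0, a0, a0,
    a0, c0, d0, m0, o0, e0, g0, f0, h0, n0, l0, i0, b0]
def c_32 : List Q := [b0, e0, o0, n0, h0, m0, d0, i0, l0, c0, f0, g0, a0, a0, a0, a0, a0, a0, a0, a0, a0, a0, a0, a0, a0, a0, a0, a0, a0,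
    a0, c0, e0, o0, m0, d0, f0, g0, i0, l0, n0, h0, b0]
def c_33 : List Q := [b0, b0, b0, b0, b0, b0, b0, b0, b0, b0, b0, b0, j0, a0, a0, a0, a0, j0, j0, a0, a0, a0, a0, j0, a0, a0, j0, j0, a0,
    a0, c0, c0, c0, c0, c0, c0, c0, c0, c0, c0, c0, c0]
def c_34 : List Q := [b0, b0, c0, c0, b0, c0, b0, b0, c0, b0, c0, c0, p0, u0, u0, v0, v0, j0, j0, v0, v0, u0, u0, p0, u0, u0, j0, p0, v0,
    v0, k0, k0, w0, w0, k0, w0, w0, k0, w0, w0, k0, k0, e1, f1, f1, e1, e1, f1]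
def c_35 : List Q := [b0, b0, c0, c0, b0, c0, b0, b0, c0, b0, c0, c0, p0, v0, v0, u0, u0, j0, j0, u0, u0, v0, v0, p0, v0, v0, j0, p0, u0,
    u0, k0, k0, w0, w0, k0, w0, w0, k0, w0, w0, k0, k0, f1, e1, e1, f1, f1, e1]
def c_36 : List Q := [b0, e0, h0, h0, e0, i0, d0, d0, i0, b0, c0, c0, b0, g0, g0, f0, f0, c0, i0, m0, m0, l0, l0, d0, o0, o0, h0, e0, n0,
    n0, a0, a0, a0, a0, a0, a0, a0, a0, a0, a0, a0, a0, n0, o0, l0, m0, f0, g0]
def c_37 : List Q := [b0, d0, i0, i0, d0, h0, e0, e0, h0, b0, c0, c0, b0, f0, f0, g0, g0, c0, h0, o0, o0, n0, n0, e0, m0, m0, i0, d0, l0,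
    l0, a0, a0, a0, a0, a0, a0, a0, a0, a0, a0, a0, a0, l0, m0, n0, o0, g0, f0]
def c_38 : List Q := [b0, b0, f0, g0, c0, g0, b0, c0, f0, c0, g0, f0, a0, a1, z0, y0, x0, a0, a0, y0, x0, a1, z0, a0, a1, z0, a0, a0, y0,
    x0, b0, c0, g0, f0, c0, f0, g0, b0, g0, f0, b0, c0]
def c_39 : List Q := [b0, b0, g0, f0, c0, f0, b0, c0, g0, c0, f0, g0, a0, y0, x0, a1, z0, a0, a0, a1, z0, y0, x0, a0, y0, x0, a0, a0, a1,
    z0, b0, c0, f0, g0, c0, g0, f0, b0, f0, g0, b0, c0]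
def c_40 : List Q := [b0, b0, b0, b0, b0, b0, b0, b0, b0, b0, b0, b0, c0, c0, c0, c0, c0, c0, c0, c0, c0, c0, c0, c0, c0, c0, c0, c0, c0,
    c0, a0, a0, a0, a0, a0, a0, a0, a0, a0, a0, a0, a0, b0, b0, b0, b0, b0, b0]
def c_41 : List Q := [b0, d0, d0, d0, d0, e0, e0, e0, e0, b0, b0, b0, j0, j0, j0, j0, j0, j0, r0, r0, r0, r0, r0, r0, q0, q0, q0, q0, q0,
    q0, k0, t0, t0, s0, s0, k0, k0, s0, s0, t0, t0, k0, b2, b2, c2, c2, d1, d1]
def c_42 : List Q := [b0, e0, e0, e0, e0, d0, d0, d0, d0, b0, b0, b0, j0, j0, j0, j0, j0, j0, q0, q0, q0, q0, q0, q0, r0, r0, r0, r0, r0,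
    r0, k0, s0, s0, t0, t0, k0, k0, t0, t0, s0, s0, k0, c2, c2, b2, b2, d1, d1]
def c_43 : List Q := [b0, d0, m0, l0, i0, o0, e0, h0, n0, c0, g0, f0, a0, z0, a1, x0, y0, a0, a0, s1, r1, u1, t1, a0, o1, n1, a0, a0, q1,
    p1, b0, i0, l0, n0, h0, f0, g0, e0, o0, m0, d0, c0]
def c_44 : List Q := [b0, e0, o0, n0, h0, m0, d0, i0, l0, c0, f0, g0, a0, x0, y0, z0, a1, a0, a0, o1, n1, q1, p1, a0, s1, r1, a0, a0, u1,
    t1, b0, h0, n0, l0, i0, g0, f0, d0, m0, o0, e0, c0]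
def c_45 : List Q := [b0, e0, h0, h0, e0, i0, d0, d0, i0, b0, c0, c0, p0, v0, v0, u0, u0, j0, q0, i1, i1, h1, h1, b1, k1, k1, r0, c1, j1,
    j1, k0, s0, l1, m1, t0, w0, w0, t0, m1, l1, s0, k0, w1, v1, y1, x1, f1, e1]
def c_46 : List Q := [b0, d0, i0, i0, d0, h0, e0, e0, h0, b0, c0, c0, p0, u0, u0, v0, v0, j0, r0, k1, k1, j1, j1, c1, i1, i1, q0, b1, h1,
    h1, k0, t0, m1, l1, s0, w0, w0, s0, l1, m1, t0, k0, y1, x1, w1, v1, e1, f1]
def c_47 : List Q := [b0, b0, b0, b0, b0, b0, b0, b0, b0, b0, b0, b0, j0, p0, p0, p0, p0, j0, j0, p0, p0, p0, p0, j0, p0, p0, j0, j0, p0,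
    p0, k0, k0, k0, k0, k0, k0, k0, k0, k0, k0, k0, k0, g1, g1, g1, g1, g1, g1]
def c_48 : List Q := [d2, e2, f2, g2, h2, i2, j2, k2, l2, m2, n2, o2, a0, p2, q2, r2, s2, a0, a0, t2, u2, v2, w2, a0, x2, y2, a0, a0, z2,
    a3, j0, c1, j1, h1, b1, v0, u0, q0, i1, k1, r0, p0]

end

end G10

open G10 in
noncomputable def G10_T : Tb where
  f := F12
  K := 48
  nu := 288
  n := [1, 8, 8, 12, 12, 1, 1, 6, 6, 6, 6, 8, 8, 8, 8, 12, 12, 6, 6, 6, 6, 6, 8, 1, 1, 6, 6, 8, 8, 6, 6, 12, 12, 6, 1, 1,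
    8, 8, 6, 6, 8, 1, 1, 6, 6, 1, 1, 1]
  XC := [c_0, c_1, c_2, c_3, c_4, c_5, c_6, c_7, c_8, c_9, c_10, c_11, c_12, c_13, c_14, c_15, c_16, c_17, c_18, c_19, c_20,
    c_21, c_22, c_23, c_24, c_25, c_26, c_27, c_28, c_29, c_30, c_31, c_32, c_33, c_34, c_35, c_36, c_37, c_38, c_39,
    c_40, c_41, c_42, c_43, c_44, c_45, c_46, c_47]
  rows := [(List.map (unp 5) [0x984b622131904b6a12d884b6129, 0x883b6820d8826220d83a660ed, 0x881b6826d909b6269a01b6069,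
    0x86a61c980736622d88a601ad, 0x80a638980e362a990ab6002d, 0x9053614998536214da853622151,
    0x8426610d800446010da0436410d, 0x90636349806361898006460a9, 0x98a36204d8c26020518126004d,
    0x85a60c98005c6016d905b6329, 0x8b26a42d800b4602cda0b36009, 0x887b6810d90436109a07b61e9, 0x8853683ed8fa623ed8526614d,
    0x88936808d8226208d8926624d, 0x8823623cd8f2663cda0236089, 0x8da604980136628d8a26036d, 0x862648981236634d8d26018d,
    0xa02363c98023608990236249, 0x900b642ad800b60298000c62e9, 0x988b621cd9126021d1872601cd, 0xa01b6426d801b6069901b63a9,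
    0x983b6220d993b6620d8826a20d, 0xa9036640d8884c606411984b6a12d, 0x903b60e9983b620eda83b6220f1,
    0x89a6626d8009c6026da09b6426d, 0xa07b6410d807b61e9907b64c9, 0xa0fb6456d80fb63e990fb6149,
    0x88eb6806d81a6206d8ea663ad, 0x8883624ed93a664eda0836209, 0x906b6229806b61a98006c6469, 0x8e26529800e46038d90e3642ad,
    0x80b36050d801446042da90b6002d1, 0x92a6169805b6632d8ca604ad, 0x81036a40d819046a58da84b640411,
    0x98f36223d190f36a3cd88f363c9, 0x9093624998936224da893622251, 0x88fb6856d915b6569a0fb63e9,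
    0x8933681ed87a621ed932664cd, 0x90db628980db6369800dc6549, 0x92265a9801246048d91236349,
    0xa9636658d9903622591a903606411, 0x993b6224f1913b6a4ed893b64e9, 0x90eb63a998eb623ada8eb6223b1,
    0x810b62051197a60205158143600511, 0x912b6329812b64a98012c65c9, 0x95a6656d8015c6056da15b6456d,
    0x913364c99933624cda9336224d1, 0x9163658999636258da963622591])]
  lev := [c_48]
  b := 8
  B := 512

noncomputable def G10_D : Gp where
  Ls := [0x11203120431203543654765, 0x1431203543120657654312032, 0x112543120324654312032435467,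
    0x10312343120326547654312032431543265, 0x103245431234654312345676543120324315432,
    0x101231203454326543120324315467654312345]
  rw := (unp 9
    0x80901890192189019218aa189019218aa19032a189019218aa19032a1891a2b3b2a189019218aa19032a1891a2b3b2a189019218aa19032a1891a2b3f86240628624064862a8624064862a864ca8624064862a8640ca8eca8624064862a8640ca862468aceca8624064862a8640ca87918118901a18902a189019232a189019218aa19032a1891a3b2a189019218aa19032a1891a2b3b2a189019218aa19032a1891a6462406240862406486a8624068aca8624064862a8640eca8624064862a8640ca862468aceca8624068ad4980918901921902a1891b2a189019218aa19032a1bb2a189019218aa19032a1891a2b3b2a18901921aa526246286240648a8624064862a8ca8624064862a86eca8624064862a8640ca862468aceca8624068ad41811891a192a1891b2a189019218aa19032a3b2a189019218aa19032a1891a2b3b2a189019218aa1950606862406a86240648ca86240648aeca8624064862a8640ca862468aceca8624064862a8640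ca862541811891aa1891a32a189019218aa1932a18bb2a189019218aa19032a1891bb2a18942624062408624064a862406486aca8624064862a864eca8624064862a8640ca86ecb098918a18901922a189019218aa1b2a18901922b3b2a189019218aa19032a1bb3e6046246862a86ca8624064862a8ceca8624064862a8640ca862468eca862468f98918a18901922a18901921aa32a18901922bb2a189019218aa19032a1bb2bc604624686a862ca8624064862a86ceca8624064862a8640ca86246eca8624f181891a18901921aa1b2a1bb2a189019218aa19032a1891a2bb2a18901922bc62462862406486a86240648aca864eca8624064862a8640caecc9811891a2a1932a189019218aa1b2a3b2a189019218aa1932a3b26046246a8624ca8624064862a8640ca8eca8624064862a864c189018a18901aa189019218ab2a189019218abb2a18901a2b306046246862a862ca862468aceca8624064862a864ca8eb18918a1891a2a18901921ab2a1891a2b3b2a18901a2b3ac606a862468ca8624064862a86ca8eca8624064862a864b18901890218901aa18901a2b2a18901a2bb2a18901a2b2c604624686a86ca86240648aceca8624064862a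864a18918a18901a2a18901922b2a1891bb2a18901a2b2860686240a86240ca8eca8624064862a8640ca8624a1809189019218901b2a193b2a18901921aa33a4624062408624a8624064ca8624064862a8eca9181891a1891b2a193b2a189019218aa1933a262462862a8624064862ca8624064862aeca8989018902a189019232a189019218aa1932a2602462468a86ca8624064862eca8624688189189218901922a1891a32a3b2a18901a0606248a8ca862468eca862468618921891a2a18901a32a3b2a1986062486ca8624eca862468a59891a1892a18901a2b2a1bb1660a8624ca8624064eca8624598901890218901aa1b2a3b29660686246aceca8624064862598922a18901922b2a18901916606246aca86246eca862451891a1891aa18901b2bb2946024624064ca8624e418901890218901abb1068a86ca8e21a1aa3b2a08601)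
  rh := (unp 6
    0x8800080008006311000110000000e620020000014c44000440000035808000800005b000046000000010c40004000000318000000004b0003600022200000001cc4000000002988008033220011662200000000018c00044400000035808000000005b11000117620020ac0044400218080230000000000a6004cc481190008000c3100000000000c6000220010c40051808902b120010076240020cc00044400258081b01120066022002cc00044400029881300000000000b602c048d8880008804b402622000220014c8004401d800902b012046002200030c1)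
  cod := (unp 6
    0x3f3f3f3f3f3f3f3ffbe48413646353e49fa09c9ea39c23a3197ff23231f24151b27fd18cd0944dd10f8bbff13108cd28b8ed5be86667a986aa28853fe288866670a29a75f4c352f4f3850462efe324211e2614992aff0540f4c13cbce55fff8c90530c1552ca7ef53d10bd38b8e15fe866278a264a49053fd67caa78649e8e69f6c9a985e965e76abf4c303852384d442bfe89919a89da5a1977f212ce8f53ca4d557ffcd8fd20d95520abefd34fcc534c4f95fe9e705e8c7a9e906bfc4464346482b314ffe21a1f269b2922957fea6a19a25979e2bfd922a21a1ca9271dfdc9c28a49c219f1b7d38fcf1212cb8cd2ffd8e13110d94110c7e988a707a9a6470a5fd33e324c453a3944fe41b1d291d251f18ffd24a51ca29a1d297d04e8f518e53d18dfff92504d51cf4f93bef4e51114e13914dfe869078749274769dfc63d36414149463dfe0a0a3a2231a9aa3ffa20a41e9ca5a41efd2914d0fd1cfcfd1bf84707e947496846fffe8e86729072749df4639424b3d413e3dffe43464145393946fa1a09e9f21a1a1a0ffe21a11e20a22220fd0505050505050507f)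
  tw := (List.map (unp 8)
    [0x2862406a86240caeca8624064c3032454312346543123456765431203243154329980918901a2a1932a189019218aa33b2a1891a2ccc0c48d0c480c9951d950c480c90c550c9962624a86240648ca862406486a8ced3120312043120354365476559])
  th := (List.map (unp 3) [0x8da5ad9d9585])

private noncomputable def _root_.Cfsg.Agent.LsF.f83296e_72 : {f // @Cfsg.Agent.MO.WC.G10_D = f} := ⟨_, by first | (delta Cfsg.Agent.MO.WC.G10_D; rewrite [Cfsg.Agent.LsF.map_eq]; exact rfl) | exact rfl⟩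
private noncomputable def _root_.Cfsg.Agent.LsF.f83296e_73 : {f // @Cfsg.Agent.MO.WC.G10_T = f} := ⟨_, by first | (delta Cfsg.Agent.MO.WC.G10_T; rewrite [Cfsg.Agent.LsF.map_eq]; exact rfl) | exact rfl⟩
theorem G10_good : G10_D.Good E8.toTy G10_T := Gp.good_of_full E8_good.ok ok12 (unz 2 0xa02828a0000000000)
    [.unit 25 [(1, 0)], .unit 29 [(1, 0)], .unit 20 [(1, 0)], .unit 22 [(1, 0)], .prod 20 20 (unz 2
    0x280000000000000280), .unit 3 [(1, 0)], .unit 32 [(1, 0)], .prod 32 32 (unz 2 0xa0a000000028000028000), .unit 37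
    [(1, 0)], .unit 18 [(1, 0)], .unit 34 [(1, 0)], .unit 7 [(1, 0)], .prod 32 34 (unz 2 0x2a800000000002a800000), .unit
    36 [(1, 0)], .unit 12 [(1, 0)], .unit 35 [(1, 0)], .unit 11 [(1, 0)], .prod 32 35 (unz 2 0x28000280280000000000028),
    .unit 1 [(1, 0)], .unit 40 [(1, 0)], .unit 26 [(1, 0)], .unit 31 [(1, 0)], .prod 31 32 (unz 2
    0x280280000a0000000a0000), .unit 8 [(1, 0)], .unit 33 [(1, 0)], .unit 23 [(1, 0)], .unit 38 [(1, 0)], .prod 31 37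
    (unz 2 0xa00000a000000a000280000), .unit 9 [(1, 0)], .unit 41 [(1, 0)], .unit 17 [(1, 0)], .unit 30 [(1, 0)], .prod
    31 36 (unz 2 0xa000a00a000000000000a0), .unit 27 [(1, 0)], .unit 39 [(1, 0)], .unit 2 [(1, 0)], .prod 20 31 (unz 2
    0xa000000000000000280000000), .unit 47 [(1, 0)], .unit 15 [(1, 0)], .prod 12 47 (unz 2 0xa0000000000000002a8000000),
    .unit 14 [(1, 0)], .unit 46 [(1, 0)], .unit 13 [(1, 0)], .prod 13 32 (unz 2 0xa0000000a00000000000000), .unit 28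
    [(1, 0)], .unit 43 [(1, 0)], .prod 13 37 (unz 2 0xa00000000000280000000000), .unit 21 [(1, 0)], .unit 45 [(1, 0)],
    .prod 13 38 (unz 2 0x280000000000028000000000), .unit 19 [(1, 0)], .unit 44 [(1, 0)], .prod 13 40 (unz 2
    0x2800000000a000000000000), .unit 42 [(1, 0)], .unit 24 [(1, 0)], .prod 1 1 (unz 2 0xa000), .unit 6 [(1, 0)], .prod
    1 3 (unz 2 0x2800), .unit 5 [(1, 0)], .prod 1 5 (unz 2 0xa00000), .unit 10 [(1, 0)], .prod 1 9 (unz 2 0xa00), .unit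
    4 [(1, 0)], .prod 1 20 (unz 2 0xa00000000), .unit 16 [(1, 0)]]
  (by ((try (rewrite [Cfsg.Agent.LsF.f83296e_67.2, Cfsg.Agent.LsF.f83296e_72.2, Cfsg.Agent.LsF.f83296e_4.2, Cfsg.Agent.LsF.f83296e_73.2, Cfsg.Agent.LsF.f83296e_3.2])); decide +kernel))

theorem cenK_E8_86 : CenK E8 86
    [1, 1, 1, 1, 1, 1, 1, 1, 1, 1, 1, 1, 2, 2, 2, 2, 2, 2, 2, 2, 2, 2, 2, 2, 2, 2, 2, 2, 2, 2, 3, 3, 3, 3, 3, 3, 3, 3,
    3, 3, 3, 3, 4, 4, 4, 4, 4, 4] :=
  cenK_of G10_good E8_good 0x103123565431237654312 0x1123204546543756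
    (by decide +kernel)

theorem cenK_E8_85 : CenK E8 85 (List.replicate 30 1) := cenK_cyc E8_good 0x12031203435432654765432 (by decide +kernel)

theorem cenK_E8_84 : CenK E8 84 (List.replicate 20 1) := cenK_cyc E8_good 0x1376543120324 (by decide +kernel)

theorem cenK_E8_83 : CenK E8 83 (List.replicate 24 1) := cenK_cyc E8_good 0x17654312032 (by decide +kernel)

theorem cenK_E8_82 : CenK E8 82 (List.replicate 30 1) := cenK_cyc E8_good 0x176543120 (by decide +kernel)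

end Cfsg.Agent.MO.WC
end

private theorem dce_9b44ca344986 : _root_.True := by
  try have : _root_.True := by simp only [_root_.Cfsg.Agent.MO.Rc.regOK.eq_1]
  try have : _root_.True := by simp only [_root_.Cfsg.Agent.MO.Rc.Emb.Ov.eq_1]
  try have : _root_.True := by simp only [_root_.Cfsg.Agent.MO.Rc.inOK.eq_1]
  try have : _root_.True := by simp only [_root_.Cfsg.Agent.MO.Rc.Pn.eq_1]
  try have : _root_.True := by simp only [_root_.Cfsg.Agent.MO.Rc.gamOK.eq_1]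
  try have : _root_.True := by simp only [_root_.Cfsg.Agent.MO.Rc.auOK.eq_1]
  try have : _root_.True := by simp only [_root_.Cfsg.Agent.MO.Rc.gq.eq_1]
  try have : _root_.True := by simp only [_root_.Cfsg.Agent.MO.Rc.dl.eq_1]
  try have : _root_.True := by simp only [_root_.Cfsg.Agent.MO.Rc.Emb.N0.eq_1]
  exact _root_.True.intro
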