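import Cfsg.Agent.MQ.Z.LV.W.E8b
import Cfsg.Agent.MQ.WC.D8b
import Cfsg.Agent.Lib.ListFast
import Cfsg.Agent.Prune
set_option linter.all false
prune_inst 0x7f00000000000000000000000000000000000000000000000000000000000000000000000000000000000000000000000000000000000000000000000000000000000000000000000000000000000000003fffffffffffffffffffffffffffbeffbdffffffff
open scoped Cfsg.Agent.FastGrp

/-! MO/WC: generated data (helper27; tools/P3/h27/gen.py) -/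

set_option autoImplicit false
set_option maxRecDepth 100000

namespace Cfsg.Agent.MO.WC

open Cfsg.Agent.LV.W Cfsg.Agent.MO.WT

namespace G32

noncomputable section

def a0 : Q := ⟨0, 0, 0, 0⟩
def b0 : Q := ⟨1, 0, 0, 0⟩
def c0 : Q := ⟨-1, 0, 0, 0⟩
def d0 : Q := ⟨-1, 0, 1, 0⟩
def e0 : Q := ⟨0, 0, -1, 0⟩
def f0 : Q := ⟨0, 0, 1, 0⟩
def g0 : Q := ⟨1, 0, -1, 0⟩
def h0 : Q := ⟨2, 0, 0, 0⟩
def i0 : Q := ⟨-2, 0, 0, 0⟩
def j0 : Q := ⟨-3, 0, 0, 0⟩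
def k0 : Q := ⟨3, 0, 0, 0⟩
def l0 : Q := ⟨0, 0, 2, 0⟩
def m0 : Q := ⟨2, 0, -2, 0⟩
def n0 : Q := ⟨-2, 0, 2, 0⟩
def o0 : Q := ⟨0, 0, -2, 0⟩
def p0 : Q := ⟨-3, 0, 3, 0⟩
def q0 : Q := ⟨0, 0, -3, 0⟩
def r0 : Q := ⟨1, 0, -2, 0⟩
def s0 : Q := ⟨-1, 0, 2, 0⟩
def t0 : Q := ⟨-1, 0, -1, 0⟩
def u0 : Q := ⟨-2, 0, 1, 0⟩
def v0 : Q := ⟨0, 0, 3, 0⟩
def w0 : Q := ⟨3, 0, -3, 0⟩
def x0 : Q := ⟨6, 0, 0, 0⟩
def y0 : Q := ⟨1, 0, 1, 0⟩
def z0 : Q := ⟨2, 0, -1, 0⟩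
def a1 : Q := ⟨4, 0, 0, 0⟩
def b1 : Q := ⟨-8, 0, 0, 0⟩
def c1 : Q := ⟨-1, 0, 3, 0⟩
def d1 : Q := ⟨2, 0, -3, 0⟩
def e1 : Q := ⟨0, 0, 9, 0⟩
def f1 : Q := ⟨9, 0, -9, 0⟩
def g1 : Q := ⟨20, 0, 0, 0⟩
def h1 : Q := ⟨-4, 0, 0, 0⟩
def i1 : Q := ⟨-6, 0, 6, 0⟩
def j1 : Q := ⟨0, 0, -6, 0⟩
def k1 : Q := ⟨5, 0, 0, 0⟩
def l1 : Q := ⟨30, 0, 0, 0⟩
def m1 : Q := ⟨-6, 0, 9, 0⟩
def n1 : Q := ⟨3, 0, -9, 0⟩
def o1 : Q := ⟨-4, 0, 4, 0⟩
def p1 : Q := ⟨0, 0, -4, 0⟩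
def q1 : Q := ⟨-20, 0, 0, 0⟩
def r1 : Q := ⟨60, 0, 0, 0⟩
def s1 : Q := ⟨8, 0, 0, 0⟩
def t1 : Q := ⟨-9, 0, 0, 0⟩
def u1 : Q := ⟨10, 0, 0, 0⟩
def v1 : Q := ⟨0, 0, 8, 0⟩
def w1 : Q := ⟨8, 0, -8, 0⟩
def x1 : Q := ⟨40, 0, 0, 0⟩
def y1 : Q := ⟨-8, 0, 6, 0⟩
def z1 : Q := ⟨-2, 0, -6, 0⟩
def a2 : Q := ⟨15, 0, 0, 0⟩
def b2 : Q := ⟨45, 0, 0, 0⟩
def c2 : Q := ⟨-3, 0, 1, 0⟩
def d2 : Q := ⟨-2, 0, -1, 0⟩
def e2 : Q := ⟨1, 0, 2, 0⟩
def f2 : Q := ⟨3, 0, -2, 0⟩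
def g2 : Q := ⟨-5, 0, 3, 0⟩
def h2 : Q := ⟨-2, 0, -3, 0⟩
def i2 : Q := ⟨-9, 0, 9, 0⟩
def j2 : Q := ⟨0, 0, -9, 0⟩
def k2 : Q := ⟨64, 0, 0, 0⟩
def l2 : Q := ⟨7, 0, 0, 0⟩
def m2 : Q := ⟨-60, 0, 0, 0⟩
def n2 : Q := ⟨4, 0, -4, 0⟩
def o2 : Q := ⟨0, 0, 4, 0⟩
def p2 : Q := ⟨0, 0, -20, 0⟩
def q2 : Q := ⟨-20, 0, 20, 0⟩
def r2 : Q := ⟨9, 0, 0, 0⟩
def s2 : Q := ⟨-9, 0, 6, 0⟩
def t2 : Q := ⟨-3, 0, -6, 0⟩
def u2 : Q := ⟨6, 0, 3, 0⟩
def v2 : Q := ⟨9, 0, -3, 0⟩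
def w2 : Q := ⟨0, 0, -5, 0⟩
def x2 : Q := ⟨-5, 0, 5, 0⟩
def y2 : Q := ⟨-30, 0, 30, 0⟩
def z2 : Q := ⟨0, 0, -30, 0⟩
def a3 : Q := ⟨-10, 0, 10, 0⟩
def b3 : Q := ⟨0, 0, -10, 0⟩
def c3 : Q := ⟨0, 0, 20, 0⟩
def d3 : Q := ⟨20, 0, -20, 0⟩
def e3 : Q := ⟨24, 0, 0, 0⟩
def f3 : Q := ⟨36, 0, 0, 0⟩
def g3 : Q := ⟨81, 0, 0, 0⟩
def h3 : Q := ⟨-2, 0, 3, 0⟩
def i3 : Q := ⟨1, 0, -3, 0⟩
def j3 : Q := ⟨-7, 0, 0, 0⟩
def k3 : Q := ⟨-1, 0, 6, 0⟩
def l3 : Q := ⟨5, 0, -6, 0⟩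
def m3 : Q := ⟨5, 0, 3, 0⟩
def n3 : Q := ⟨8, 0, -3, 0⟩
def o3 : Q := ⟨-3, 0, 9, 0⟩
def p3 : Q := ⟨6, 0, -9, 0⟩
def q3 : Q := ⟨-8, 0, 8, 0⟩
def r3 : Q := ⟨0, 0, -8, 0⟩
def s3 : Q := ⟨-5, 0, 6, 0⟩
def t3 : Q := ⟨1, 0, -6, 0⟩
def u3 : Q := ⟨-8, 0, 3, 0⟩
def v3 : Q := ⟨-5, 0, -3, 0⟩
def w3 : Q := ⟨-36, 0, 0, 0⟩
def x3 : Q := ⟨0, 0, -60, 0⟩
def y3 : Q := ⟨-60, 0, 60, 0⟩
def z3 : Q := ⟨-6, 0, 8, 0⟩
def a4 : Q := ⟨2, 0, -8, 0⟩
def b4 : Q := ⟨6, 0, 2, 0⟩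
def c4 : Q := ⟨8, 0, -2, 0⟩
def d4 : Q := ⟨-40, 0, 40, 0⟩
def e4 : Q := ⟨0, 0, -40, 0⟩
def f4 : Q := ⟨-3, 0, 5, 0⟩
def g4 : Q := ⟨2, 0, -5, 0⟩
def h4 : Q := ⟨3, 0, 2, 0⟩
def i4 : Q := ⟨5, 0, -2, 0⟩
def j4 : Q := ⟨0, 0, -15, 0⟩
def k4 : Q := ⟨-15, 0, 15, 0⟩
def l4 : Q := ⟨0, 0, -45, 0⟩
def m4 : Q := ⟨-45, 0, 45, 0⟩
def n4 : Q := ⟨0, 0, -7, 0⟩
def o4 : Q := ⟨-7, 0, 7, 0⟩
def p4 : Q := ⟨60, 0, -60, 0⟩
def q4 : Q := ⟨0, 0, 60, 0⟩
def r4 : Q := ⟨-64, 0, 64, 0⟩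
def s4 : Q := ⟨0, 0, -64, 0⟩
def t4 : Q := ⟨80, 0, 0, 0⟩
def u4 : Q := ⟨-6, 0, 0, 0⟩
def v4 : Q := ⟨-10, 0, 0, 0⟩
def w4 : Q := ⟨-64, 0, 0, 0⟩
def x4 : Q := ⟨-80, 0, 0, 0⟩
def y4 : Q := ⟨-3, 0, 2, 0⟩
def z4 : Q := ⟨-1, 0, -2, 0⟩
def a5 : Q := ⟨2, 0, 1, 0⟩
def b5 : Q := ⟨3, 0, -1, 0⟩
def c5 : Q := ⟨-8, 0, 5, 0⟩
def d5 : Q := ⟨-6, 0, 1, 0⟩
def e5 : Q := ⟨-5, 0, -1, 0⟩
def f5 : Q := ⟨-5, 0, 8, 0⟩
def g5 : Q := ⟨-3, 0, -5, 0⟩
def h5 : Q := ⟨0, 0, 7, 0⟩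
def i5 : Q := ⟨1, 0, 5, 0⟩
def j5 : Q := ⟨3, 0, -8, 0⟩
def k5 : Q := ⟨6, 0, -5, 0⟩
def l5 : Q := ⟨7, 0, -7, 0⟩
def m5 : Q := ⟨-9, 0, 3, 0⟩
def n5 : Q := ⟨-6, 0, -3, 0⟩
def o5 : Q := ⟨3, 0, 6, 0⟩
def p5 : Q := ⟨9, 0, -6, 0⟩
def q5 : Q := ⟨5, 0, -8, 0⟩
def r5 : Q := ⟨-6, 0, 5, 0⟩
def s5 : Q := ⟨-1, 0, -5, 0⟩
def t5 : Q := ⟨8, 0, -5, 0⟩
def u5 : Q := ⟨-3, 0, 8, 0⟩
def v5 : Q := ⟨5, 0, 1, 0⟩
def w5 : Q := ⟨3, 0, 5, 0⟩
def x5 : Q := ⟨6, 0, -1, 0⟩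
def y5 : Q := ⟨0, 0, -24, 0⟩
def z5 : Q := ⟨-24, 0, 24, 0⟩
def a6 : Q := ⟨36, 0, -36, 0⟩
def b6 : Q := ⟨0, 0, 36, 0⟩
def c6 : Q := ⟨-81, 0, 81, 0⟩
def d6 : Q := ⟨0, 0, -81, 0⟩
def e6 : Q := ⟨0, 0, -36, 0⟩
def f6 : Q := ⟨-36, 0, 36, 0⟩
def g6 : Q := ⟨6, 0, -6, 0⟩
def h6 : Q := ⟨0, 0, 6, 0⟩
def i6 : Q := ⟨64, 0, -64, 0⟩
def j6 : Q := ⟨0, 0, 64, 0⟩
def k6 : Q := ⟨0, 0, 80, 0⟩
def l6 : Q := ⟨80, 0, -80, 0⟩
def m6 : Q := ⟨10, 0, -10, 0⟩
def n6 : Q := ⟨0, 0, 10, 0⟩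
def o6 : Q := ⟨-80, 0, 80, 0⟩
def p6 : Q := ⟨0, 0, -80, 0⟩
def q6 : Q := ⟨-5, 0, 0, 0⟩
def r6 : Q := ⟨0, 0, 5, 0⟩
def s6 : Q := ⟨5, 0, -5, 0⟩
def t6 : Q := ⟨-30, 0, 20, 0⟩
def u6 : Q := ⟨-20, 0, 30, 0⟩
def v6 : Q := ⟨-10, 0, -20, 0⟩
def w6 : Q := ⟨10, 0, -30, 0⟩
def x6 : Q := ⟨20, 0, 10, 0⟩
def y6 : Q := ⟨30, 0, -10, 0⟩
def z6 : Q := ⟨-24, 0, 8, 0⟩
def a7 : Q := ⟨-16, 0, -8, 0⟩
def b7 : Q := ⟨-8, 0, 24, 0⟩
def c7 : Q := ⟨8, 0, 16, 0⟩
def d7 : Q := ⟨16, 0, -24, 0⟩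
def e7 : Q := ⟨24, 0, -16, 0⟩
def f7 : Q := ⟨-20, 0, 12, 0⟩
def g7 : Q := ⟨-12, 0, 20, 0⟩
def h7 : Q := ⟨-8, 0, -12, 0⟩
def i7 : Q := ⟨8, 0, -20, 0⟩
def j7 : Q := ⟨12, 0, 8, 0⟩
def k7 : Q := ⟨20, 0, -8, 0⟩
def l7 : Q := ⟨-16, 0, 16, 0⟩
def m7 : Q := ⟨0, 0, -16, 0⟩
def n7 : Q := ⟨16, 0, 0, 0⟩
def o7 : Q := ⟨-16, 0, 10, 0⟩
def p7 : Q := ⟨-14, 0, 0, 0⟩
def q7 : Q := ⟨-12, 0, 2, 0⟩
def r7 : Q := ⟨-10, 0, -2, 0⟩
def s7 : Q := ⟨-10, 0, 16, 0⟩
def t7 : Q := ⟨-6, 0, -10, 0⟩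
def u7 : Q := ⟨-2, 0, 12, 0⟩
def v7 : Q := ⟨0, 0, 14, 0⟩
def w7 : Q := ⟨2, 0, 10, 0⟩
def x7 : Q := ⟨6, 0, -16, 0⟩
def y7 : Q := ⟨10, 0, -12, 0⟩
def z7 : Q := ⟨10, 0, 6, 0⟩
def a8 : Q := ⟨12, 0, -10, 0⟩
def b8 : Q := ⟨14, 0, -14, 0⟩
def c8 : Q := ⟨16, 0, -6, 0⟩
def d8 : Q := ⟨-12, 0, 8, 0⟩
def e8 : Q := ⟨-8, 0, 12, 0⟩
def f8 : Q := ⟨-4, 0, -8, 0⟩
def g8 : Q := ⟨4, 0, -12, 0⟩
def h8 : Q := ⟨8, 0, 4, 0⟩
def i8 : Q := ⟨12, 0, -4, 0⟩
def j8 : Q := ⟨-6, 0, 2, 0⟩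
def k8 : Q := ⟨-4, 0, -2, 0⟩
def l8 : Q := ⟨-2, 0, 6, 0⟩
def m8 : Q := ⟨2, 0, 4, 0⟩
def n8 : Q := ⟨4, 0, -6, 0⟩
def o8 : Q := ⟨6, 0, -4, 0⟩

def c_0 : List Q := [b0, b0, b0, a1, a1, a1, a1, a1, a1, k1, k1, k1, k1, k1, k1, x0, x0, x0, u1, u1, u1, u1, u1, u1, a2, a2, a2, a2, a2,
    a2, g1, g1, g1, g1, g1, g1, g1, g1, g1, g1, g1, g1, g1, g1, g1, g1, g1, g1, e3, e3, e3, l1, l1, l1, l1, l1, l1, l1,
    l1, l1, f3, f3, f3, f3, f3, f3, x1, x1, x1, x1, x1, x1, b2, b2, b2, b2, b2, b2, r1, r1, r1, r1, r1, r1, r1, r1, r1,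
    r1, r1, r1, k2, k2, k2, k2, k2, k2, t4, t4, t4, g3, g3, g3]
def c_1 : List Q := [b0, d0, e0, y4, h3, z4, i3, a5, b5, c2, d2, c1, e2, d1, f2, j0, v0, w0, g2, f4, h2, g4, h4, i4, i1, j0, j1, v0, w0,
    x0, c5, j3, d5, e5, f5, g5, n0, k3, o0, h5, i5, h0, j5, l3, m3, k5, l5, n3, i1, j1, x0, s2, m1, t2, p0, q0, n1, k0,
    u2, v2, i2, i2, j2, j2, r2, r2, y1, z3, z1, a4, b4, c4, t1, t1, e1, e1, f1, f1, m5, n5, i1, j0, o3, j1, v0, w0, o5,
    p3, x0, p5, b1, b1, v1, v1, w1, w1, q3, r3, s1]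
def c_2 : List Q := [b0, e0, d0, z4, i3, y4, h3, b5, a5, d2, c2, d1, f2, c1, e2, j0, w0, v0, h2, g4, g2, f4, i4, h4, j1, j0, i1, w0, v0,
    x0, g5, j3, e5, d5, j5, c5, o0, l3, n0, l5, k5, h0, f5, k3, n3, i5, h5, m3, j1, i1, x0, t2, n1, s2, q0, p0, m1, k0,
    v2, u2, j2, j2, i2, i2, r2, r2, z1, a4, y1, z3, c4, b4, t1, t1, f1, f1, e1, e1, n5, m5, j1, j0, p3, i1, w0, v0, p5,
    o3, x0, o5, b1, b1, w1, w1, v1, v1, r3, q3, s1]
def c_3 : List Q := [b0, e0, d0, r0, t0, s0, u0, y0, z0, z0, y0, u0, s0, t0, r0, b0, d0, e0, d1, d2, c1, c2, e2, f2, o0, b0, n0, d0, e0,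
    h0, w0, k0, y0, z0, j0, v0, l0, s0, m0, p0, u0, i0, j0, r0, v0, t0, q0, w0, o0, n0, h0, r0, t0, s0, f0, g0, u0, c0,
    y0, z0, q0, q0, p0, p0, k0, k0, m0, i0, l0, i0, l0, m0, k0, k0, p0, p0, q0, q0, z0, y0, o0, k0, u0, n0, p0, q0, s0,
    t0, h0, r0]
def c_4 : List Q := [b0, b0, b0, f0, g0, g0, f0, f0, g0, d0, e0, e0, d0, d0, e0, c0, c0, c0, f0, g0, g0, f0, f0, g0, a0, c0, a0, c0, c0,
    a0, f0, c0, c0, c0, g0, g0, a0, c0, a0, c0, c0, a0, f0, c0, f0, c0, c0, g0, a0, a0, a0, f0, g0, g0, b0, b0, f0, b0,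
    f0, g0, f0, g0, f0, g0, f0, g0, a0, a0, a0, a0, a0, a0, d0, e0, d0, e0, d0, e0, d0, e0, a0, b0, e0, a0, b0, b0, d0,
    d0, a0, e0]
def c_5 : List Q := [b0, b0, b0, g0, f0, f0, g0, g0, f0, e0, d0, d0, e0, e0, d0, c0, c0, c0, g0, f0, f0, g0, g0, f0, a0, c0, a0, c0, c0,
    a0, g0, c0, c0, c0, f0, f0, a0, c0, a0, c0, c0, a0, g0, c0, g0, c0, c0, f0, a0, a0, a0, g0, f0, f0, b0, b0, g0, b0,
    g0, f0, g0, f0, g0, f0, g0, f0, a0, a0, a0, a0, a0, a0, e0, d0, e0, d0, e0, d0, e0, d0, a0, b0, d0, a0, b0, b0, e0,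
    e0, a0, d0]
def c_6 : List Q := [b0, d0, e0, s0, u0, r0, t0, z0, y0, y0, z0, t0, r0, u0, s0, b0, e0, d0, c1, c2, d1, d2, f2, e2, n0, b0, o0, e0, d0,
    h0, v0, k0, z0, y0, j0, w0, m0, r0, l0, q0, t0, i0, j0, s0, w0, u0, p0, v0, n0, o0, h0, s0, u0, r0, g0, f0, t0, c0,
    z0, y0, p0, p0, q0, q0, k0, k0, l0, i0, m0, i0, m0, l0, k0, k0, q0, q0, p0, p0, y0, z0, n0, k0, t0, o0, q0, p0, r0,
    u0, h0, s0]
def c_7 : List Q := [b0, b0, b0, h0, h0, h0, h0, h0, h0, b0, b0, b0, b0, b0, b0, h0, h0, h0, h0, h0, h0, h0, h0, h0, k0, c0, k0, c0, c0,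
    k0, h0, h0, h0, h0, h0, h0, a0, h0, a0, h0, h0, a0, h0, h0, h0, h0, h0, h0, a0, a0, a0, h0, h0, h0, i0, i0, h0, i0,
    h0, h0, h0, h0, h0, h0, h0, h0, a0, a0, a0, a0, a0, a0, b0, b0, b0, b0, b0, b0, i0, i0, a0, i0, i0, a0, i0, i0, i0,
    i0, a0, i0, a0, a0, a0, a0, a0, a0, a0, a0, a0, j0, j0, j0]
def c_8 : List Q := [b0, d0, e0, d0, d0, e0, e0, b0, b0, c0, c0, f0, f0, g0, g0, a0, a0, a0, d0, d0, e0, e0, b0, b0, a0, a0, a0, a0, a0,
    a0, c0, c0, g0, f0, f0, c0, g0, g0, f0, f0, c0, c0, g0, f0, f0, c0, g0, g0, a0, a0, a0, a0, a0, a0, a0, a0, a0, a0,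
    a0, a0, a0, a0, a0, a0, a0, a0, e0, b0, d0, b0, d0, e0, a0, a0, a0, a0, a0, a0, a0, a0, a0, a0, a0, a0, a0, a0, a0,
    a0, a0, a0, b0, b0, e0, e0, d0, d0, g0, f0, c0]
def c_9 : List Q := [b0, e0, d0, m0, i0, l0, i0, l0, m0, g0, f0, c0, f0, c0, g0, k0, p0, q0, b0, d0, b0, e0, d0, e0, q0, a0, p0, a0, a0,
    k0, o0, h0, n2, o2, o0, n0, w2, h1, x2, n0, o2, k1, n0, h1, h0, n2, o0, h0, a0, a0, a0, w0, j0, v0, q0, p0, j0, k0,
    v0, w0, a0, a0, a0, a0, a0, a0, i0, m0, i0, l0, m0, l0, a0, a0, a0, a0, a0, a0, a0, a0, v0, u4, a0, w0, g6, h6, a0,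
    a0, j0, a0, a1, a1, o1, o1, p1, p1, o0, n0, h0]
def c_10 : List Q := [b0, b0, b0, b0, b0, b0, b0, b0, b0, h0, h0, h0, h0, h0, h0, a0, a0, a0, b0, b0, b0, b0, b0, b0, a0, k0, a0, k0, k0,
    a0, h0, h0, c0, c0, h0, h0, c0, c0, c0, h0, c0, c0, h0, c0, h0, c0, h0, h0, k0, k0, k0, a0, a0, a0, k0, k0, a0, k0,
    a0, a0, a0, a0, a0, a0, a0, a0, b0, b0, b0, b0, b0, b0, a0, a0, a0, a0, a0, a0, k0, k0, j0, a0, k0, j0, a0, a0, k0,
    k0, j0, k0, i0, i0, i0, i0, i0, i0, h1, h1, h1]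
def c_11 : List Q := [b0, d0, e0, l0, i0, m0, i0, m0, l0, f0, g0, c0, g0, c0, f0, k0, q0, p0, b0, e0, b0, d0, e0, d0, p0, a0, q0, a0, a0,
    k0, n0, h0, o2, n2, n0, o0, x2, h1, w2, o0, n2, k1, o0, h1, h0, o2, n0, h0, a0, a0, a0, v0, j0, w0, p0, q0, j0, k0,
    w0, v0, a0, a0, a0, a0, a0, a0, i0, l0, i0, m0, l0, m0, a0, a0, a0, a0, a0, a0, a0, a0, w0, u4, a0, v0, h6, g6, a0,
    a0, j0, a0, a1, a1, p1, p1, o1, o1, n0, o0, h0]
def c_12 : List Q := [b0, e0, d0, e0, e0, d0, d0, b0, b0, c0, c0, g0, g0, f0, f0, a0, a0, a0, e0, e0, d0, d0, b0, b0, a0, a0, a0, a0, a0,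
    a0, c0, c0, f0, g0, g0, c0, f0, f0, g0, g0, c0, c0, f0, g0, g0, c0, f0, f0, a0, a0, a0, a0, a0, a0, a0, a0, a0, a0,
    a0, a0, a0, a0, a0, a0, a0, a0, d0, b0, e0, b0, e0, d0, a0, a0, a0, a0, a0, a0, a0, a0, a0, a0, a0, a0, a0, a0, a0,
    a0, a0, a0, b0, b0, d0, d0, e0, e0, f0, g0, c0]
def c_13 : List Q := [b0, d0, e0, u0, s0, t0, r0, y0, z0, a0, a0, a0, a0, a0, a0, i0, l0, m0, c0, f0, c0, g0, f0, g0, n0, b0, o0, e0, d0,
    h0, a0, a0, u0, t0, a0, a0, d0, s0, e0, a0, y0, b0, a0, r0, a0, z0, a0, a0, g0, f0, c0, a0, a0, a0, g0, f0, a0, c0,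
    a0, a0, a0, a0, a0, a0, a0, a0, b0, e0, b0, d0, e0, d0, a0, a0, a0, a0, a0, a0, z0, y0, g0, a0, r0, f0, a0, a0, t0,
    s0, c0, u0]
def c_14 : List Q := [b0, e0, d0, t0, r0, u0, s0, z0, y0, a0, a0, a0, a0, a0, a0, i0, m0, l0, c0, g0, c0, f0, g0, f0, o0, b0, n0, d0, e0,
    h0, a0, a0, t0, u0, a0, a0, e0, r0, d0, a0, z0, b0, a0, s0, a0, y0, a0, a0, f0, g0, c0, a0, a0, a0, f0, g0, a0, c0,
    a0, a0, a0, a0, a0, a0, a0, a0, b0, d0, b0, e0, d0, e0, a0, a0, a0, a0, a0, a0, y0, z0, f0, a0, s0, g0, a0, a0, u0,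
    r0, c0, t0]
def c_15 : List Q := [b0, b0, b0, y0, z0, z0, y0, y0, z0, u0, t0, t0, u0, u0, t0, b0, b0, b0, c1, d1, d1, c1, c1, d1, h0, b0, h0, b0, b0,
    h0, p0, j0, r0, s0, q0, q0, i0, s0, i0, j0, r0, i0, p0, r0, p0, s0, j0, q0, h0, h0, h0, t0, u0, u0, c0, c0, t0, c0,
    t0, u0, w0, v0, w0, v0, w0, v0, l0, m0, m0, l0, l0, m0, q0, p0, q0, p0, q0, p0, z0, y0, h0, j0, y0, h0, j0, j0, z0,
    z0, h0, y0]
def c_16 : List Q := [b0, b0, b0, z0, y0, y0, z0, z0, y0, t0, u0, u0, t0, t0, u0, b0, b0, b0, d1, c1, c1, d1, d1, c1, h0, b0, h0, b0, b0,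
    h0, q0, j0, s0, r0, p0, p0, i0, r0, i0, j0, s0, i0, q0, s0, q0, r0, j0, p0, h0, h0, h0, u0, t0, t0, c0, c0, u0, c0,
    u0, t0, v0, w0, v0, w0, v0, w0, m0, l0, l0, m0, m0, l0, p0, q0, p0, q0, p0, q0, y0, z0, h0, j0, z0, h0, j0, j0, y0,
    y0, h0, z0]
def c_17 : List Q := [b0, e0, d0, a0, a0, a0, a0, a0, a0, y0, z0, s0, u0, r0, t0, b0, d0, e0, c0, g0, c0, f0, g0, f0, f0, i0, g0, m0, l0,
    c0, a0, a0, a0, a0, a0, a0, e0, a0, d0, a0, a0, b0, a0, a0, a0, a0, a0, a0, o0, n0, h0, t0, r0, u0, f0, g0, s0, c0,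
    z0, y0, a0, a0, a0, a0, a0, a0, l0, l0, m0, m0, i0, i0, a0, a0, a0, a0, a0, a0, a0, a0, f0, a0, a0, g0, a0, a0, a0,
    a0, c0]
def c_18 : List Q := [b0, d0, e0, a0, a0, a0, a0, a0, a0, z0, y0, r0, t0, s0, u0, b0, e0, d0, c0, f0, c0, g0, f0, g0, g0, i0, f0, l0, m0,
    c0, a0, a0, a0, a0, a0, a0, d0, a0, e0, a0, a0, b0, a0, a0, a0, a0, a0, a0, n0, o0, h0, u0, s0, t0, g0, f0, r0, c0,
    y0, z0, a0, a0, a0, a0, a0, a0, m0, m0, l0, l0, i0, i0, a0, a0, a0, a0, a0, a0, a0, a0, g0, a0, a0, f0, a0, a0, a0,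
    a0, c0]
def c_19 : List Q := [b0, b0, b0, a0, a0, a0, a0, a0, a0, j0, j0, j0, j0, j0, j0, i0, i0, i0, h0, h0, h0, h0, h0, h0, c0, l2, c0, l2, l2,
    c0, a0, a0, a0, a0, a0, a0, a1, a0, a1, a0, a0, a1, a0, a0, a0, a0, a0, a0, s1, s1, s1, x0, x0, x0, v4, v4, x0, v4,
    x0, x0, a0, a0, a0, a0, a0, a0, b1, b1, b1, b1, b1, b1, j0, j0, j0, j0, j0, j0, a0, a0, h1, a0, a0, h1, a0, a0, a0,
    a0, h1, a0, a0, a0, a0, a0, a0, a0, a0, a0, a0, r2, r2, r2]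
def c_20 : List Q := [b0, e0, d0, c0, g0, c0, f0, g0, f0, f0, g0, f0, c0, g0, c0, a0, a0, a0, d0, b0, e0, b0, e0, d0, a0, a0, a0, a0, a0,
    a0, d0, b0, b0, b0, b0, e0, f0, d0, g0, d0, d0, c0, b0, e0, e0, e0, e0, d0, a0, a0, a0, a0, a0, a0, a0, a0, a0, a0,
    a0, a0, a0, a0, a0, a0, a0, a0, e0, e0, d0, d0, b0, b0, a0, a0, a0, a0, a0, a0, a0, a0, a0, a0, a0, a0, a0, a0, a0,
    a0, a0, a0, c0, b0, d0, g0, e0, f0, e0, d0, b0]
def c_21 : List Q := [b0, b0, b0, f0, g0, g0, f0, f0, g0, g0, f0, f0, g0, g0, f0, a0, a0, a0, d0, e0, e0, d0, d0, e0, a0, a0, a0, a0, a0,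
    a0, e0, b0, e0, d0, d0, d0, c0, d0, c0, b0, e0, c0, e0, e0, e0, d0, b0, d0, a0, a0, a0, a0, a0, a0, a0, a0, a0, a0,
    a0, a0, a0, a0, a0, a0, a0, a0, e0, d0, d0, e0, e0, d0, a0, a0, a0, a0, a0, a0, a0, a0, a0, a0, a0, a0, a0, a0, a0,
    a0, a0, a0, c0, b0, b0, c0, b0, c0, b0, b0, b0]
def c_22 : List Q := [b0, d0, e0, c0, f0, c0, g0, f0, g0, g0, f0, g0, c0, f0, c0, a0, a0, a0, e0, b0, d0, b0, d0, e0, a0, a0, a0, a0, a0,
    a0, e0, b0, b0, b0, b0, d0, g0, e0, f0, e0, e0, c0, b0, d0, d0, d0, d0, e0, a0, a0, a0, a0, a0, a0, a0, a0, a0, a0,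
    a0, a0, a0, a0, a0, a0, a0, a0, d0, d0, e0, e0, b0, b0, a0, a0, a0, a0, a0, a0, a0, a0, a0, a0, a0, a0, a0, a0, a0,
    a0, a0, a0, c0, b0, e0, f0, d0, g0, d0, e0, b0]
def c_23 : List Q := [b0, b0, b0, g0, f0, f0, g0, g0, f0, f0, g0, g0, f0, f0, g0, a0, a0, a0, e0, d0, d0, e0, e0, d0, a0, a0, a0, a0, a0,
    a0, d0, b0, d0, e0, e0, e0, c0, e0, c0, b0, d0, c0, d0, d0, d0, e0, b0, e0, a0, a0, a0, a0, a0, a0, a0, a0, a0, a0,
    a0, a0, a0, a0, a0, a0, a0, a0, d0, e0, e0, d0, d0, e0, a0, a0, a0, a0, a0, a0, a0, a0, a0, a0, a0, a0, a0, a0, a0,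
    a0, a0, a0, c0, b0, b0, c0, b0, c0, b0, b0, b0]
def c_24 : List Q := [b0, d0, e0, a0, a0, a0, a0, a0, a0, f0, g0, c0, g0, c0, f0, a0, a0, a0, a0, a0, a0, a0, a0, a0, g0, b0, f0, e0, d0,
    c0, a0, a0, a0, a0, a0, a0, a0, a0, a0, a0, a0, a0, a0, a0, a0, a0, a0, a0, a0, a0, a0, a0, a0, a0, a0, a0, a0, a0,
    a0, a0, a0, a0, a0, a0, a0, a0, a0, a0, a0, a0, a0, a0, d0, e0, b0, d0, e0, b0, a0, a0, a0, a0, a0, a0, a0, a0, a0,
    a0, a0, a0, a0, a0, a0, a0, a0, a0, a0, a0, a0, c0, f0, g0]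
def c_25 : List Q := [b0, d0, e0, g0, g0, f0, f0, c0, c0, c0, c0, f0, f0, g0, g0, a0, a0, a0, d0, d0, e0, e0, b0, b0, a0, a0, a0, a0, a0,
    a0, b0, b0, d0, e0, e0, b0, g0, d0, f0, e0, b0, c0, d0, e0, e0, b0, d0, d0, a0, a0, a0, a0, a0, a0, a0, a0, a0, a0,
    a0, a0, a0, a0, a0, a0, a0, a0, e0, b0, d0, b0, d0, e0, a0, a0, a0, a0, a0, a0, a0, a0, a0, a0, a0, a0, a0, a0, a0,
    a0, a0, a0, c0, b0, e0, f0, d0, g0, d0, e0, b0]
def c_26 : List Q := [b0, e0, d0, d0, b0, e0, b0, e0, d0, a0, a0, a0, a0, a0, a0, b0, d0, e0, a0, a0, a0, a0, a0, a0, a0, a0, a0, a0, a0,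
    a0, a0, a0, a0, a0, a0, a0, a0, a0, a0, a0, a0, a0, a0, a0, a0, a0, a0, a0, f0, g0, c0, a0, a0, a0, a0, a0, a0, a0,
    a0, a0, c0, g0, f0, c0, g0, f0, a0, a0, a0, a0, a0, a0, a0, a0, a0, a0, a0, a0, a0, a0, a0, a0, a0, a0, a0, a0, a0,
    a0, a0, a0, b0, c0, g0, d0, f0, e0, a0, a0, a0, b0, d0, e0]
def c_27 : List Q := [b0, d0, e0, f0, c0, g0, c0, g0, f0, a0, a0, a0, a0, a0, a0, b0, e0, d0, a0, a0, a0, a0, a0, a0, a0, a0, a0, a0, a0,
    a0, a0, a0, a0, a0, a0, a0, a0, a0, a0, a0, a0, a0, a0, a0, a0, a0, a0, a0, g0, f0, c0, a0, a0, a0, a0, a0, a0, a0,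
    a0, a0, b0, e0, d0, b0, e0, d0, a0, a0, a0, a0, a0, a0, a0, a0, a0, a0, a0, a0, a0, a0, a0, a0, a0, a0, a0, a0, a0,
    a0, a0, a0, c0, c0, f0, f0, g0, g0, a0, a0, a0, b0, e0, d0]
def c_28 : List Q := [b0, e0, d0, g0, c0, f0, c0, f0, g0, a0, a0, a0, a0, a0, a0, b0, d0, e0, a0, a0, a0, a0, a0, a0, a0, a0, a0, a0, a0,
    a0, a0, a0, a0, a0, a0, a0, a0, a0, a0, a0, a0, a0, a0, a0, a0, a0, a0, a0, f0, g0, c0, a0, a0, a0, a0, a0, a0, a0,
    a0, a0, b0, d0, e0, b0, d0, e0, a0, a0, a0, a0, a0, a0, a0, a0, a0, a0, a0, a0, a0, a0, a0, a0, a0, a0, a0, a0, a0,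
    a0, a0, a0, c0, c0, g0, g0, f0, f0, a0, a0, a0, b0, d0, e0]
def c_29 : List Q := [b0, e0, d0, a0, a0, a0, a0, a0, a0, g0, f0, c0, f0, c0, g0, a0, a0, a0, a0, a0, a0, a0, a0, a0, f0, b0, g0, d0, e0,
    c0, a0, a0, a0, a0, a0, a0, a0, a0, a0, a0, a0, a0, a0, a0, a0, a0, a0, a0, a0, a0, a0, a0, a0, a0, a0, a0, a0, a0,
    a0, a0, a0, a0, a0, a0, a0, a0, a0, a0, a0, a0, a0, a0, e0, d0, b0, e0, d0, b0, a0, a0, a0, a0, a0, a0, a0, a0, a0,
    a0, a0, a0, a0, a0, a0, a0, a0, a0, a0, a0, a0, c0, g0, f0]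
def c_30 : List Q := [b0, d0, e0, e0, b0, d0, b0, d0, e0, a0, a0, a0, a0, a0, a0, b0, e0, d0, a0, a0, a0, a0, a0, a0, a0, a0, a0, a0, a0,
    a0, a0, a0, a0, a0, a0, a0, a0, a0, a0, a0, a0, a0, a0, a0, a0, a0, a0, a0, g0, f0, c0, a0, a0, a0, a0, a0, a0, a0,
    a0, a0, c0, f0, g0, c0, f0, g0, a0, a0, a0, a0, a0, a0, a0, a0, a0, a0, a0, a0, a0, a0, a0, a0, a0, a0, a0, a0, a0,
    a0, a0, a0, b0, c0, f0, e0, g0, d0, a0, a0, a0, b0, e0, d0]
def c_31 : List Q := [b0, e0, d0, f0, f0, g0, g0, c0, c0, c0, c0, g0, g0, f0, f0, a0, a0, a0, e0, e0, d0, d0, b0, b0, a0, a0, a0, a0, a0,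
    a0, b0, b0, e0, d0, d0, b0, f0, e0, g0, d0, b0, c0, e0, d0, d0, b0, e0, e0, a0, a0, a0, a0, a0, a0, a0, a0, a0, a0,
    a0, a0, a0, a0, a0, a0, a0, a0, d0, b0, e0, b0, e0, d0, a0, a0, a0, a0, a0, a0, a0, a0, a0, a0, a0, a0, a0, a0, a0,
    a0, a0, a0, c0, b0, d0, g0, e0, f0, e0, d0, b0]
def c_32 : List Q := [b0, e0, d0, a0, a0, a0, a0, a0, a0, d0, e0, b0, e0, b0, d0, h0, n0, o0, i0, m0, i0, l0, m0, l0, f0, k0, g0, p0, q0,
    c0, a0, a0, a0, a0, a0, a0, p1, a0, o1, a0, a0, a1, a0, a0, a0, a0, a0, a0, a0, a0, a0, n0, h0, o0, o0, n0, h0, h0,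
    o0, n0, a0, a0, a0, a0, a0, a0, a0, a0, a0, a0, a0, a0, v0, w0, j0, v0, w0, j0, a0, a0, p1, a0, a0, o1, a0, a0, a0,
    a0, a1, a0, a0, a0, a0, a0, a0, a0, a0, a0, a0, j0, w0, v0]
def c_33 : List Q := [b0, b0, b0, a0, a0, a0, a0, a0, a0, b0, b0, b0, b0, b0, b0, c0, c0, c0, b0, b0, b0, b0, b0, b0, c0, a0, c0, a0, a0,
    c0, a0, a0, a0, a0, a0, a0, b0, a0, b0, a0, a0, b0, a0, a0, a0, a0, a0, a0, a0, a0, a0, c0, c0, c0, c0, c0, c0, c0,
    c0, c0, a0, a0, a0, a0, a0, a0, a0, a0, a0, a0, a0, a0, a0, a0, a0, a0, a0, a0, a0, a0, b0, a0, a0, b0, a0, a0, a0,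
    a0, b0]
def c_34 : List Q := [b0, d0, e0, a0, a0, a0, a0, a0, a0, e0, d0, b0, d0, b0, e0, h0, o0, n0, i0, l0, i0, m0, l0, m0, g0, k0, f0, q0, p0,
    c0, a0, a0, a0, a0, a0, a0, o1, a0, p1, a0, a0, a1, a0, a0, a0, a0, a0, a0, a0, a0, a0, o0, h0, n0, n0, o0, h0, h0,
    n0, o0, a0, a0, a0, a0, a0, a0, a0, a0, a0, a0, a0, a0, w0, v0, j0, w0, v0, j0, a0, a0, o1, a0, a0, p1, a0, a0, a0,
    a0, a1, a0, a0, a0, a0, a0, a0, a0, a0, a0, a0, j0, v0, w0]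
def c_35 : List Q := [b0, b0, b0, r0, s0, s0, r0, r0, s0, a0, a0, a0, a0, a0, a0, i0, i0, i0, c0, c0, c0, c0, c0, c0, h0, b0, h0, b0, b0,
    h0, a0, a0, r0, s0, a0, a0, b0, s0, b0, a0, r0, b0, a0, r0, a0, s0, a0, a0, c0, c0, c0, a0, a0, a0, c0, c0, a0, c0,
    a0, a0, a0, a0, a0, a0, a0, a0, b0, b0, b0, b0, b0, b0, a0, a0, a0, a0, a0, a0, s0, r0, c0, a0, r0, c0, a0, a0, s0,
    s0, c0, r0]
def c_36 : List Q := [b0, e0, d0, a0, a0, a0, a0, a0, a0, t0, u0, r0, z0, s0, y0, b0, d0, e0, c0, g0, c0, f0, g0, f0, f0, i0, g0, m0, l0,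
    c0, a0, a0, a0, a0, a0, a0, e0, a0, d0, a0, a0, b0, a0, a0, a0, a0, a0, a0, o0, n0, h0, y0, s0, z0, f0, g0, r0, c0,
    u0, t0, a0, a0, a0, a0, a0, a0, m0, i0, l0, i0, l0, m0, a0, a0, a0, a0, a0, a0, a0, a0, f0, a0, a0, g0, a0, a0, a0,
    a0, c0]
def c_37 : List Q := [b0, b0, b0, s0, r0, r0, s0, s0, r0, a0, a0, a0, a0, a0, a0, i0, i0, i0, c0, c0, c0, c0, c0, c0, h0, b0, h0, b0, b0,
    h0, a0, a0, s0, r0, a0, a0, b0, r0, b0, a0, s0, b0, a0, s0, a0, r0, a0, a0, c0, c0, c0, a0, a0, a0, c0, c0, a0, c0,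
    a0, a0, a0, a0, a0, a0, a0, a0, b0, b0, b0, b0, b0, b0, a0, a0, a0, a0, a0, a0, r0, s0, c0, a0, s0, c0, a0, a0, r0,
    r0, c0, s0]
def c_38 : List Q := [b0, d0, e0, a0, a0, a0, a0, a0, a0, u0, t0, s0, y0, r0, z0, b0, e0, d0, c0, f0, c0, g0, f0, g0, g0, i0, f0, l0, m0,
    c0, a0, a0, a0, a0, a0, a0, d0, a0, e0, a0, a0, b0, a0, a0, a0, a0, a0, a0, n0, o0, h0, z0, r0, y0, g0, f0, s0, c0,
    t0, u0, a0, a0, a0, a0, a0, a0, l0, i0, m0, i0, m0, l0, a0, a0, a0, a0, a0, a0, a0, a0, g0, a0, a0, f0, a0, a0, a0,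
    a0, c0]
def c_39 : List Q := [b0, d0, e0, e0, b0, d0, b0, d0, e0, o0, n0, h0, n0, h0, o0, a0, a0, a0, b0, e0, b0, d0, e0, d0, a0, k0, a0, q0, p0,
    a0, n0, h0, f0, g0, n0, o0, g0, c0, f0, o0, g0, c0, o0, c0, h0, f0, n0, h0, p0, q0, k0, a0, a0, a0, p0, q0, a0, k0,
    a0, a0, a0, a0, a0, a0, a0, a0, b0, e0, b0, d0, e0, d0, a0, a0, a0, a0, a0, a0, q0, p0, w0, a0, k0, v0, a0, a0, p0,
    k0, j0, q0, i0, i0, l0, l0, m0, m0, n2, o2, h1]
def c_40 : List Q := [b0, d0, e0, d0, d0, e0, e0, b0, b0, b0, b0, e0, e0, d0, d0, c0, f0, g0, f0, c0, g0, c0, g0, f0, a0, c0, a0, f0, g0,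
    a0, b0, b0, e0, d0, e0, b0, a0, b0, a0, e0, d0, a0, d0, b0, e0, e0, d0, d0, a0, a0, a0, g0, g0, f0, d0, e0, f0, b0,
    c0, c0, e0, b0, b0, d0, d0, e0, a0, a0, a0, a0, a0, a0, e0, d0, d0, b0, b0, e0, c0, c0, a0, c0, f0, a0, f0, g0, f0,
    g0, a0, g0]
def c_41 : List Q := [b0, e0, d0, e0, e0, d0, d0, b0, b0, b0, b0, d0, d0, e0, e0, c0, g0, f0, g0, c0, f0, c0, f0, g0, a0, c0, a0, g0, f0,
    a0, b0, b0, d0, e0, d0, b0, a0, b0, a0, d0, e0, a0, e0, b0, d0, d0, e0, e0, a0, a0, a0, f0, f0, g0, e0, d0, g0, b0,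
    c0, c0, d0, b0, b0, e0, e0, d0, a0, a0, a0, a0, a0, a0, d0, e0, e0, b0, b0, d0, c0, c0, a0, c0, g0, a0, g0, f0, g0,
    f0, a0, f0]
def c_42 : List Q := [b0, e0, d0, d0, b0, e0, b0, e0, d0, n0, o0, h0, o0, h0, n0, a0, a0, a0, b0, d0, b0, e0, d0, e0, a0, k0, a0, p0, q0,
    a0, o0, h0, g0, f0, o0, n0, f0, c0, g0, n0, f0, c0, n0, c0, h0, g0, o0, h0, q0, p0, k0, a0, a0, a0, q0, p0, a0, k0,
    a0, a0, a0, a0, a0, a0, a0, a0, b0, d0, b0, e0, d0, e0, a0, a0, a0, a0, a0, a0, p0, q0, v0, a0, k0, w0, a0, a0, q0,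
    k0, j0, p0, i0, i0, m0, m0, l0, l0, o2, n2, h1]
def c_43 : List Q := [b0, e0, d0, a0, a0, a0, a0, a0, a0, d0, e0, b0, e0, b0, d0, c0, g0, f0, b0, d0, b0, e0, d0, e0, f0, a0, g0, a0, a0,
    c0, a0, a0, a0, a0, a0, a0, e0, a0, d0, a0, a0, b0, a0, a0, a0, a0, a0, a0, a0, a0, a0, g0, c0, f0, f0, g0, c0, c0,
    f0, g0, a0, a0, a0, a0, a0, a0, a0, a0, a0, a0, a0, a0, a0, a0, a0, a0, a0, a0, a0, a0, e0, a0, a0, d0, a0, a0, a0,
    a0, b0]
def c_44 : List Q := [b0, b0, b0, h3, i3, i3, h3, h3, i3, c1, d1, d1, c1, c1, d1, j0, j0, j0, h2, g2, g2, h2, h2, g2, x0, j0, x0, j0, j0,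
    x0, n3, j3, k3, l3, m3, m3, h0, l3, h0, j3, k3, h0, n3, k3, n3, l3, j3, m3, x0, x0, x0, m1, n1, n1, k0, k0, m1, k0,
    m1, n1, j2, i2, j2, i2, j2, i2, z1, y1, y1, z1, z1, y1, f1, e1, f1, e1, f1, e1, o3, p3, x0, j0, p3, x0, j0, j0, o3,
    o3, x0, p3, b1, b1, b1, b1, b1, b1, s1, s1, s1]
def c_45 : List Q := [b0, e0, d0, m0, i0, l0, i0, l0, m0, d0, e0, b0, e0, b0, d0, h0, n0, o0, h0, n0, h0, o0, n0, o0, q0, c0, p0, g0, f0,
    k0, l0, i0, m0, l0, l0, m0, a0, i0, a0, m0, l0, a0, m0, i0, i0, m0, l0, i0, a0, a0, a0, n0, h0, o0, l0, m0, h0, i0,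
    o0, n0, i0, m0, l0, i0, m0, l0, a0, a0, a0, a0, a0, a0, e0, d0, b0, e0, d0, b0, n0, o0, a0, h0, h0, a0, n0, o0, o0,
    h0, a0, n0, a0, a0, a0, a0, a0, a0, a0, a0, a0, j0, w0, v0]
def c_46 : List Q := [b0, d0, e0, l0, i0, m0, i0, m0, l0, e0, d0, b0, d0, b0, e0, h0, o0, n0, h0, o0, h0, n0, o0, n0, p0, c0, q0, f0, g0,
    k0, m0, i0, l0, m0, m0, l0, a0, i0, a0, l0, m0, a0, l0, i0, i0, l0, m0, i0, a0, a0, a0, o0, h0, n0, m0, l0, h0, i0,
    n0, o0, i0, l0, m0, i0, l0, m0, a0, a0, a0, a0, a0, a0, d0, e0, b0, d0, e0, b0, o0, n0, a0, h0, h0, a0, o0, n0, n0,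
    h0, a0, o0, a0, a0, a0, a0, a0, a0, a0, a0, a0, j0, v0, w0]
def c_47 : List Q := [b0, d0, e0, a0, a0, a0, a0, a0, a0, e0, d0, b0, d0, b0, e0, c0, f0, g0, b0, e0, b0, d0, e0, d0, g0, a0, f0, a0, a0,
    c0, a0, a0, a0, a0, a0, a0, d0, a0, e0, a0, a0, b0, a0, a0, a0, a0, a0, a0, a0, a0, a0, f0, c0, g0, g0, f0, c0, c0,
    g0, f0, a0, a0, a0, a0, a0, a0, a0, a0, a0, a0, a0, a0, a0, a0, a0, a0, a0, a0, a0, a0, d0, a0, a0, e0, a0, a0, a0,
    a0, b0]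
def c_48 : List Q := [b0, b0, b0, i3, h3, h3, i3, i3, h3, d1, c1, c1, d1, d1, c1, j0, j0, j0, g2, h2, h2, g2, g2, h2, x0, j0, x0, j0, j0,
    x0, m3, j3, l3, k3, n3, n3, h0, k3, h0, j3, l3, h0, m3, l3, m3, k3, j3, n3, x0, x0, x0, n1, m1, m1, k0, k0, n1, k0,
    n1, m1, i2, j2, i2, j2, i2, j2, y1, z1, z1, y1, y1, z1, e1, f1, e1, f1, e1, f1, p3, o3, x0, j0, o3, x0, j0, j0, p3,
    p3, x0, o3, b1, b1, b1, b1, b1, b1, s1, s1, s1]
def c_49 : List Q := [b0, d0, e0, c0, f0, c0, g0, f0, g0, d0, e0, d0, b0, e0, b0, c0, f0, g0, g0, g0, f0, f0, c0, c0, a0, c0, a0, f0, g0,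
    a0, f0, c0, f0, g0, c0, g0, a0, c0, a0, f0, g0, a0, c0, c0, g0, f0, g0, f0, a0, a0, a0, c0, f0, c0, d0, e0, g0, b0,
    f0, g0, g0, g0, f0, f0, c0, c0, a0, a0, a0, a0, a0, a0, b0, b0, e0, e0, d0, d0, d0, e0, a0, b0, d0, a0, e0, d0, b0,
    e0, a0, b0]
def c_50 : List Q := [b0, e0, d0, c0, g0, c0, f0, g0, f0, e0, d0, e0, b0, d0, b0, c0, g0, f0, f0, f0, g0, g0, c0, c0, a0, c0, a0, g0, f0,
    a0, g0, c0, g0, f0, c0, f0, a0, c0, a0, g0, f0, a0, c0, c0, f0, g0, f0, g0, a0, a0, a0, c0, g0, c0, e0, d0, f0, b0,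
    g0, f0, f0, f0, g0, g0, c0, c0, a0, a0, a0, a0, a0, a0, b0, b0, d0, d0, e0, e0, e0, d0, a0, b0, e0, a0, d0, e0, b0,
    d0, a0, b0]
def c_51 : List Q := [b0, b0, b0, e0, d0, d0, e0, e0, d0, d0, e0, e0, d0, d0, e0, c0, c0, c0, f0, g0, g0, f0, f0, g0, a0, c0, a0, c0, c0,
    a0, e0, b0, b0, b0, d0, d0, a0, b0, a0, b0, b0, a0, e0, b0, e0, b0, b0, d0, a0, a0, a0, f0, g0, g0, b0, b0, f0, b0,
    f0, g0, e0, d0, e0, d0, e0, d0, a0, a0, a0, a0, a0, a0, d0, e0, d0, e0, d0, e0, g0, f0, a0, c0, f0, a0, c0, c0, g0,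
    g0, a0, f0]
def c_52 : List Q := [b0, b0, b0, d0, e0, e0, d0, d0, e0, e0, d0, d0, e0, e0, d0, c0, c0, c0, g0, f0, f0, g0, g0, f0, a0, c0, a0, c0, c0,
    a0, d0, b0, b0, b0, e0, e0, a0, b0, a0, b0, b0, a0, d0, b0, d0, b0, b0, e0, a0, a0, a0, g0, f0, f0, b0, b0, g0, b0,
    g0, f0, d0, e0, d0, e0, d0, e0, a0, a0, a0, a0, a0, a0, e0, d0, e0, d0, e0, d0, f0, g0, a0, c0, g0, a0, c0, c0, f0,
    f0, a0, g0]
def c_53 : List Q := [b0, b0, b0, b0, b0, b0, b0, b0, b0, a0, a0, a0, a0, a0, a0, b0, b0, b0, a0, a0, a0, a0, a0, a0, a0, a0, a0, a0, a0,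
    a0, a0, a0, a0, a0, a0, a0, a0, a0, a0, a0, a0, a0, a0, a0, a0, a0, a0, a0, c0, c0, c0, a0, a0, a0, a0, a0, a0, a0,
    a0, a0, c0, c0, c0, c0, c0, c0, a0, a0, a0, a0, a0, a0, a0, a0, a0, a0, a0, a0, a0, a0, a0, a0, a0, a0, a0, a0, a0,
    a0, a0, a0, b0, c0, c0, b0, c0, b0, a0, a0, a0, b0, b0, b0]
def c_54 : List Q := [b0, e0, d0, f0, f0, g0, g0, c0, c0, b0, b0, d0, d0, e0, e0, c0, g0, f0, g0, c0, f0, c0, f0, g0, a0, c0, a0, g0, f0,
    a0, c0, c0, g0, f0, g0, c0, a0, c0, a0, g0, f0, a0, f0, c0, g0, g0, f0, f0, a0, a0, a0, f0, f0, g0, e0, d0, g0, b0,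
    c0, c0, g0, c0, c0, f0, f0, g0, a0, a0, a0, a0, a0, a0, d0, e0, e0, b0, b0, d0, b0, b0, a0, b0, d0, a0, d0, e0, d0,
    e0, a0, e0]
def c_55 : List Q := [b0, d0, e0, g0, g0, f0, f0, c0, c0, b0, b0, e0, e0, d0, d0, c0, f0, g0, f0, c0, g0, c0, g0, f0, a0, c0, a0, f0, g0,
    a0, c0, c0, f0, g0, f0, c0, a0, c0, a0, f0, g0, a0, g0, c0, f0, f0, g0, g0, a0, a0, a0, g0, g0, f0, d0, e0, f0, b0,
    c0, c0, f0, c0, c0, g0, g0, f0, a0, a0, a0, a0, a0, a0, e0, d0, d0, b0, b0, e0, b0, b0, a0, b0, e0, a0, e0, d0, e0,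
    d0, a0, d0]
def c_56 : List Q := [b0, d0, e0, o0, h0, n0, h0, n0, o0, e0, d0, b0, d0, b0, e0, h0, o0, n0, h0, o0, h0, n0, o0, n0, p0, c0, q0, f0, g0,
    k0, n0, h0, o0, n0, n0, o0, a0, h0, a0, o0, n0, a0, o0, h0, h0, o0, n0, h0, a0, a0, a0, o0, h0, n0, m0, l0, h0, i0,
    n0, o0, h0, o0, n0, h0, o0, n0, a0, a0, a0, a0, a0, a0, d0, e0, b0, d0, e0, b0, l0, m0, a0, i0, i0, a0, l0, m0, m0,
    i0, a0, l0, a0, a0, a0, a0, a0, a0, a0, a0, a0, j0, v0, w0]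
def c_57 : List Q := [b0, e0, d0, n0, h0, o0, h0, o0, n0, d0, e0, b0, e0, b0, d0, h0, n0, o0, h0, n0, h0, o0, n0, o0, q0, c0, p0, g0, f0,
    k0, o0, h0, n0, o0, o0, n0, a0, h0, a0, n0, o0, a0, n0, h0, h0, n0, o0, h0, a0, a0, a0, n0, h0, o0, l0, m0, h0, i0,
    o0, n0, h0, n0, o0, h0, n0, o0, a0, a0, a0, a0, a0, a0, e0, d0, b0, e0, d0, b0, m0, l0, a0, i0, i0, a0, m0, l0, l0,
    i0, a0, m0, a0, a0, a0, a0, a0, a0, a0, a0, a0, j0, w0, v0]
def c_58 : List Q := [b0, b0, b0, a0, a0, a0, a0, a0, a0, c0, c0, c0, c0, c0, c0, a0, a0, a0, a0, a0, a0, a0, a0, a0, c0, b0, c0, b0, b0,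
    c0, a0, a0, a0, a0, a0, a0, a0, a0, a0, a0, a0, a0, a0, a0, a0, a0, a0, a0, a0, a0, a0, a0, a0, a0, a0, a0, a0, a0,
    a0, a0, a0, a0, a0, a0, a0, a0, a0, a0, a0, a0, a0, a0, b0, b0, b0, b0, b0, b0, a0, a0, a0, a0, a0, a0, a0, a0, a0,
    a0, a0, a0, a0, a0, a0, a0, a0, a0, a0, a0, a0, c0, c0, c0]
def c_59 : List Q := [b0, e0, d0, b0, d0, b0, e0, d0, e0, f0, g0, f0, c0, g0, c0, a0, a0, a0, d0, b0, e0, b0, e0, d0, a0, a0, a0, a0, a0,
    a0, g0, c0, c0, c0, c0, f0, f0, g0, g0, g0, g0, c0, c0, f0, f0, f0, f0, g0, a0, a0, a0, a0, a0, a0, a0, a0, a0, a0,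
    a0, a0, a0, a0, a0, a0, a0, a0, e0, e0, d0, d0, b0, b0, a0, a0, a0, a0, a0, a0, a0, a0, a0, a0, a0, a0, a0, a0, a0,
    a0, a0, a0, b0, b0, d0, d0, e0, e0, f0, g0, c0]
def c_60 : List Q := [b0, b0, b0, d0, e0, e0, d0, d0, e0, f0, g0, g0, f0, f0, g0, a0, a0, a0, e0, d0, d0, e0, e0, d0, a0, a0, a0, a0, a0,
    a0, g0, c0, g0, f0, f0, f0, c0, f0, c0, c0, g0, c0, g0, g0, g0, f0, c0, f0, a0, a0, a0, a0, a0, a0, a0, a0, a0, a0,
    a0, a0, a0, a0, a0, a0, a0, a0, d0, e0, e0, d0, d0, e0, a0, a0, a0, a0, a0, a0, a0, a0, a0, a0, a0, a0, a0, a0, a0,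
    a0, a0, a0, b0, b0, b0, b0, b0, b0, c0, c0, c0]
def c_61 : List Q := [b0, b0, b0, e0, d0, d0, e0, e0, d0, g0, f0, f0, g0, g0, f0, a0, a0, a0, d0, e0, e0, d0, d0, e0, a0, a0, a0, a0, a0,
    a0, f0, c0, f0, g0, g0, g0, c0, g0, c0, c0, f0, c0, f0, f0, f0, g0, c0, g0, a0, a0, a0, a0, a0, a0, a0, a0, a0, a0,
    a0, a0, a0, a0, a0, a0, a0, a0, e0, d0, d0, e0, e0, d0, a0, a0, a0, a0, a0, a0, a0, a0, a0, a0, a0, a0, a0, a0, a0,
    a0, a0, a0, b0, b0, b0, b0, b0, b0, c0, c0, c0]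
def c_62 : List Q := [b0, d0, e0, b0, e0, b0, d0, e0, d0, g0, f0, g0, c0, f0, c0, a0, a0, a0, e0, b0, d0, b0, d0, e0, a0, a0, a0, a0, a0,
    a0, f0, c0, c0, c0, c0, g0, g0, f0, f0, f0, f0, c0, c0, g0, g0, g0, g0, f0, a0, a0, a0, a0, a0, a0, a0, a0, a0, a0,
    a0, a0, a0, a0, a0, a0, a0, a0, d0, d0, e0, e0, b0, b0, a0, a0, a0, a0, a0, a0, a0, a0, a0, a0, a0, a0, a0, a0, a0,
    a0, a0, a0, b0, b0, e0, e0, d0, d0, g0, f0, c0]
def c_63 : List Q := [b0, d0, e0, r0, z0, s0, y0, u0, t0, y0, z0, t0, r0, u0, s0, b0, e0, d0, c1, c2, d1, d2, f2, e2, n0, b0, o0, e0, d0,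
    h0, q0, j0, u0, t0, k0, p0, m0, s0, l0, v0, y0, i0, k0, r0, p0, z0, w0, q0, n0, o0, h0, s0, u0, r0, g0, f0, t0, c0,
    z0, y0, w0, w0, v0, v0, j0, j0, l0, i0, m0, i0, m0, l0, k0, k0, q0, q0, p0, p0, t0, u0, n0, j0, y0, o0, v0, w0, s0,
    z0, h0, r0]
def c_64 : List Q := [b0, e0, d0, s0, y0, r0, z0, t0, u0, z0, y0, u0, s0, t0, r0, b0, d0, e0, d1, d2, c1, c2, e2, f2, o0, b0, n0, d0, e0,
    h0, p0, j0, t0, u0, k0, q0, l0, r0, m0, w0, z0, i0, k0, s0, q0, y0, v0, p0, o0, n0, h0, r0, t0, s0, f0, g0, u0, c0,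
    y0, z0, v0, v0, w0, w0, j0, j0, m0, i0, l0, i0, l0, m0, k0, k0, p0, p0, q0, q0, u0, t0, o0, j0, z0, n0, w0, v0, r0,
    y0, h0, s0]
def c_65 : List Q := [b0, b0, b0, h0, h0, h0, h0, h0, h0, c0, c0, c0, c0, c0, c0, k0, k0, k0, b0, b0, b0, b0, b0, b0, k0, a0, k0, a0, a0,
    k0, i0, i0, a1, a1, i0, i0, k1, a1, k1, i0, a1, k1, i0, a1, i0, a1, i0, i0, a0, a0, a0, j0, j0, j0, k0, k0, j0, k0,
    j0, j0, a0, a0, a0, a0, a0, a0, i0, i0, i0, i0, i0, i0, a0, a0, a0, a0, a0, a0, a0, a0, j0, x0, a0, j0, x0, x0, a0,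
    a0, j0, a0, h1, a1, a1, h1, a1, h1, i0, i0, i0]
def c_66 : List Q := [b0, d0, e0, c2, c1, d2, d1, e2, f2, f2, e2, d1, d2, c1, c2, j0, v0, w0, h2, h4, g2, i4, f4, g4, i1, j0, j1, v0, w0,
    x0, q5, l2, r5, s5, t5, u5, n0, s3, o0, n4, v5, h0, w5, t3, u3, x5, o4, v3, i1, j1, x0, v2, n1, u2, p0, q0, m1, k0,
    t2, s2, e1, t1, t1, f1, f1, e1, z1, b4, y1, c4, z3, a4, e1, f1, f1, t1, t1, e1, s2, t2, i1, k0, m1, j1, q0, p0, u2,
    n1, x0, v2, s1, b1, v1, r3, w1, q3, w1, v1, b1]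
def c_67 : List Q := [b0, e0, d0, d2, d1, c2, c1, f2, e2, e2, f2, c1, c2, d1, d2, j0, w0, v0, g2, i4, h2, h4, g4, f4, j1, j0, i1, w0, v0,
    x0, u5, l2, s5, r5, w5, q5, o0, t3, n0, o4, x5, h0, t5, s3, v3, v5, n4, u3, j1, i1, x0, u2, m1, v2, q0, p0, n1, k0,
    s2, t2, f1, t1, t1, e1, e1, f1, y1, c4, z1, b4, a4, z3, f1, e1, e1, t1, t1, f1, t2, s2, j1, k0, n1, i1, p0, q0, v2,
    m1, x0, u2, s1, b1, w1, q3, v1, r3, v1, w1, b1]
def c_68 : List Q := [b0, e0, d0, n2, h1, o2, h1, o2, n2, x2, w2, k1, w2, k1, x2, x0, i1, j1, u1, a3, u1, b3, a3, b3, j4, a2, k4, k4, j4,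
    a2, c3, q1, d3, c3, c3, d3, p2, q1, q2, d3, c3, g1, d3, q1, q1, d3, c3, q1, y5, z5, e3, y2, l1, z2, z2, y2, l1, l1,
    z2, y2, w3, a6, b6, w3, a6, b6, x1, d4, x1, e4, d4, e4, l4, m4, b2, l4, m4, b2, p4, q4, x3, m2, m2, y3, p4, q4, q4,
    m2, r1, p4, w4, k2, r4, i6, s4, j6, k6, l6, x4, g3, c6, d6]
def c_69 : List Q := [b0, d0, e0, o2, h1, n2, h1, n2, o2, w2, x2, k1, x2, k1, w2, x0, j1, i1, u1, b3, u1, a3, b3, a3, k4, a2, j4, j4, k4,
    a2, d3, q1, c3, d3, d3, c3, q2, q1, p2, c3, d3, g1, c3, q1, q1, c3, d3, q1, z5, y5, e3, z2, l1, y2, y2, z2, l1, l1,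
    y2, z2, w3, b6, a6, w3, b6, a6, x1, e4, x1, d4, e4, d4, m4, l4, b2, m4, l4, b2, q4, p4, y3, m2, m2, x3, q4, p4, p4,
    m2, r1, q4, w4, k2, s4, j6, r4, i6, l6, k6, x4, g3, d6, c6]
def c_70 : List Q := [b0, d0, e0, f0, c0, g0, c0, g0, f0, o0, n0, h0, n0, h0, o0, a0, a0, a0, b0, e0, b0, d0, e0, d0, a0, k0, a0, q0, p0,
    a0, m0, i0, e0, d0, m0, l0, g0, b0, f0, l0, d0, c0, l0, b0, i0, e0, m0, i0, p0, q0, k0, a0, a0, a0, p0, q0, a0, k0,
    a0, a0, a0, a0, a0, a0, a0, a0, b0, e0, b0, d0, e0, d0, a0, a0, a0, a0, a0, a0, v0, w0, w0, a0, j0, v0, a0, a0, w0,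
    j0, j0, v0, h0, i0, l0, o0, m0, n0, o1, p1, a1]
def c_71 : List Q := [b0, e0, d0, g0, c0, f0, c0, f0, g0, n0, o0, h0, o0, h0, n0, a0, a0, a0, b0, d0, b0, e0, d0, e0, a0, k0, a0, p0, q0,
    a0, l0, i0, d0, e0, l0, m0, f0, b0, g0, m0, e0, c0, m0, b0, i0, d0, l0, i0, q0, p0, k0, a0, a0, a0, q0, p0, a0, k0,
    a0, a0, a0, a0, a0, a0, a0, a0, b0, d0, b0, e0, d0, e0, a0, a0, a0, a0, a0, a0, w0, v0, v0, a0, j0, w0, a0, a0, v0,
    j0, j0, w0, h0, i0, m0, n0, l0, o0, p1, o1, a1]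
def c_72 : List Q := [b0, b0, b0, c1, d1, d1, c1, c1, d1, d1, c1, c1, d1, d1, c1, j0, j0, j0, g2, h2, h2, g2, g2, h2, x0, j0, x0, j0, j0,
    x0, v3, l2, s3, t3, u3, u3, h0, t3, h0, l2, s3, h0, v3, s3, v3, t3, l2, u3, x0, x0, x0, n1, m1, m1, k0, k0, n1, k0,
    n1, m1, f1, e1, f1, e1, f1, e1, y1, z1, z1, y1, y1, z1, e1, f1, e1, f1, e1, f1, m1, n1, x0, k0, n1, x0, k0, k0, m1,
    m1, x0, n1, s1, b1, b1, s1, b1, s1, b1, b1, b1]
def c_73 : List Q := [b0, b0, b0, d1, c1, c1, d1, d1, c1, c1, d1, d1, c1, c1, d1, j0, j0, j0, h2, g2, g2, h2, h2, g2, x0, j0, x0, j0, j0,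
    x0, u3, l2, t3, s3, v3, v3, h0, s3, h0, l2, t3, h0, u3, t3, u3, s3, l2, v3, x0, x0, x0, m1, n1, n1, k0, k0, m1, k0,
    m1, n1, e1, f1, e1, f1, e1, f1, z1, y1, y1, z1, z1, y1, f1, e1, f1, e1, f1, e1, n1, m1, x0, k0, m1, x0, k0, k0, n1,
    n1, x0, m1, s1, b1, b1, s1, b1, s1, b1, b1, b1]
def c_74 : List Q := [b0, b0, b0, a0, a0, a0, a0, a0, a0, s0, r0, r0, s0, s0, r0, b0, b0, b0, c0, c0, c0, c0, c0, c0, c0, i0, c0, i0, i0,
    c0, a0, a0, a0, a0, a0, a0, b0, a0, b0, a0, a0, b0, a0, a0, a0, a0, a0, a0, h0, h0, h0, r0, s0, s0, c0, c0, r0, c0,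
    r0, s0, a0, a0, a0, a0, a0, a0, m0, l0, l0, m0, m0, l0, a0, a0, a0, a0, a0, a0, a0, a0, c0, a0, a0, c0, a0, a0, a0,
    a0, c0]
def c_75 : List Q := [b0, e0, d0, u0, z0, t0, y0, r0, s0, r0, s0, t0, y0, u0, z0, b0, d0, e0, c1, e2, d1, f2, d2, c2, o0, b0, n0, d0, e0,
    h0, k0, j0, y0, z0, p0, k0, l0, s0, m0, w0, u0, i0, q0, r0, p0, t0, v0, q0, o0, n0, h0, z0, u0, y0, f0, g0, t0, c0,
    s0, r0, w0, j0, j0, v0, v0, w0, l0, l0, m0, m0, i0, i0, p0, q0, q0, k0, k0, p0, s0, r0, o0, j0, y0, n0, w0, v0, t0,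
    z0, h0, u0]
def c_76 : List Q := [b0, b0, b0, a0, a0, a0, a0, a0, a0, r0, s0, s0, r0, r0, s0, b0, b0, b0, c0, c0, c0, c0, c0, c0, c0, i0, c0, i0, i0,
    c0, a0, a0, a0, a0, a0, a0, b0, a0, b0, a0, a0, b0, a0, a0, a0, a0, a0, a0, h0, h0, h0, s0, r0, r0, c0, c0, s0, c0,
    s0, r0, a0, a0, a0, a0, a0, a0, l0, m0, m0, l0, l0, m0, a0, a0, a0, a0, a0, a0, a0, a0, c0, a0, a0, c0, a0, a0, a0,
    a0, c0]
def c_77 : List Q := [b0, d0, e0, o0, h0, n0, h0, n0, o0, f0, g0, c0, g0, c0, f0, k0, q0, p0, b0, e0, b0, d0, e0, d0, p0, a0, q0, a0, a0,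
    k0, m0, i0, p1, o1, m0, l0, x2, a1, w2, l0, o1, k1, l0, a1, i0, p1, m0, i0, a0, a0, a0, v0, j0, w0, p0, q0, j0, k0,
    w0, v0, a0, a0, a0, a0, a0, a0, i0, l0, i0, m0, l0, m0, a0, a0, a0, a0, a0, a0, a0, a0, w0, x0, a0, v0, j1, i1, a0,
    a0, j0, a0, h1, a1, p1, o2, o1, n2, m0, l0, i0]
def c_78 : List Q := [b0, b0, b0, c0, c0, c0, c0, c0, c0, h0, h0, h0, h0, h0, h0, a0, a0, a0, b0, b0, b0, b0, b0, b0, a0, k0, a0, k0, k0,
    a0, i0, i0, b0, b0, i0, i0, c0, b0, c0, i0, b0, c0, i0, b0, i0, b0, i0, i0, k0, k0, k0, a0, a0, a0, k0, k0, a0, k0,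
    a0, a0, a0, a0, a0, a0, a0, a0, b0, b0, b0, b0, b0, b0, a0, a0, a0, a0, a0, a0, j0, j0, j0, a0, j0, j0, a0, a0, j0,
    j0, j0, j0, h0, i0, i0, h0, i0, h0, a1, a1, a1]
def c_79 : List Q := [b0, e0, d0, n0, h0, o0, h0, o0, n0, g0, f0, c0, f0, c0, g0, k0, p0, q0, b0, d0, b0, e0, d0, e0, q0, a0, p0, a0, a0,
    k0, l0, i0, o1, p1, l0, m0, w2, a1, x2, m0, p1, k1, m0, a1, i0, o1, l0, i0, a0, a0, a0, w0, j0, v0, q0, p0, j0, k0,
    v0, w0, a0, a0, a0, a0, a0, a0, i0, m0, i0, l0, m0, l0, a0, a0, a0, a0, a0, a0, a0, a0, v0, x0, a0, w0, i1, j1, a0,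
    a0, j0, a0, h1, a1, o1, n2, p1, o2, l0, m0, i0]
def c_80 : List Q := [b0, d0, e0, y0, t0, z0, u0, r0, s0, s0, r0, u0, z0, t0, y0, b0, e0, d0, d1, f2, c1, e2, c2, d2, n0, b0, o0, e0, d0,
    h0, j0, k0, u0, t0, v0, j0, m0, s0, l0, q0, y0, i0, w0, r0, v0, z0, p0, w0, n0, o0, h0, y0, t0, z0, g0, f0, u0, c0,
    r0, s0, q0, k0, k0, p0, p0, q0, m0, m0, l0, l0, i0, i0, q0, p0, p0, k0, k0, q0, s0, r0, n0, k0, u0, o0, q0, p0, z0,
    t0, h0, y0]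
def c_81 : List Q := [b0, d0, e0, t0, y0, u0, z0, s0, r0, s0, r0, u0, z0, t0, y0, b0, e0, d0, d1, f2, c1, e2, c2, d2, n0, b0, o0, e0, d0,
    h0, k0, j0, z0, y0, q0, k0, m0, r0, l0, v0, t0, i0, p0, s0, q0, u0, w0, p0, n0, o0, h0, y0, t0, z0, g0, f0, u0, c0,
    r0, s0, v0, j0, j0, w0, w0, v0, m0, m0, l0, l0, i0, i0, q0, p0, p0, k0, k0, q0, r0, s0, n0, j0, z0, o0, v0, w0, u0,
    y0, h0, t0]
def c_82 : List Q := [b0, e0, d0, z0, u0, y0, t0, s0, r0, r0, s0, t0, y0, u0, z0, b0, d0, e0, c1, e2, d1, f2, d2, c2, o0, b0, n0, d0, e0,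
    h0, j0, k0, t0, u0, w0, j0, l0, r0, m0, p0, z0, i0, v0, s0, w0, y0, q0, v0, o0, n0, h0, z0, u0, y0, f0, g0, t0, c0,
    s0, r0, p0, k0, k0, q0, q0, p0, l0, l0, m0, m0, i0, i0, p0, q0, q0, k0, k0, p0, r0, s0, o0, k0, t0, n0, p0, q0, y0,
    u0, h0, z0]
def c_83 : List Q := [b0, d0, e0, a0, a0, a0, a0, a0, a0, v0, w0, j0, w0, j0, v0, i0, l0, m0, h0, o0, h0, n0, o0, n0, g0, l2, f0, n4, o4,
    c0, a0, a0, a0, a0, a0, a0, o1, a0, p1, a0, a0, a1, a0, a0, a0, a0, a0, a0, q3, r3, s1, j1, x0, i1, m6, n6, x0, v4,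
    i1, j1, a0, a0, a0, a0, a0, a0, b1, v1, b1, w1, v1, w1, w0, v0, j0, w0, v0, j0, a0, a0, n2, a0, a0, o2, a0, a0, a0,
    a0, h1, a0, a0, a0, a0, a0, a0, a0, a0, a0, a0, r2, j2, i2]
def c_84 : List Q := [b0, e0, d0, a0, a0, a0, a0, a0, a0, w0, v0, j0, v0, j0, w0, i0, m0, l0, h0, n0, h0, o0, n0, o0, f0, l2, g0, o4, n4,
    c0, a0, a0, a0, a0, a0, a0, p1, a0, o1, a0, a0, a1, a0, a0, a0, a0, a0, a0, r3, q3, s1, i1, x0, j1, n6, m6, x0, v4,
    j1, i1, a0, a0, a0, a0, a0, a0, b1, w1, b1, v1, w1, v1, v0, w0, j0, v0, w0, j0, a0, a0, o2, a0, a0, n2, a0, a0, a0,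
    a0, h1, a0, a0, a0, a0, a0, a0, a0, a0, a0, a0, r2, i2, j2]
def c_85 : List Q := [b0, d0, e0, b0, e0, b0, d0, e0, d0, d0, e0, d0, b0, e0, b0, c0, f0, g0, g0, g0, f0, f0, c0, c0, a0, c0, a0, f0, g0,
    a0, e0, b0, e0, d0, b0, d0, a0, b0, a0, e0, d0, a0, b0, b0, d0, e0, d0, e0, a0, a0, a0, c0, f0, c0, d0, e0, g0, b0,
    f0, g0, d0, d0, e0, e0, b0, b0, a0, a0, a0, a0, a0, a0, b0, b0, e0, e0, d0, d0, g0, f0, a0, c0, g0, a0, f0, g0, c0,
    f0, a0, c0]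
def c_86 : List Q := [b0, e0, d0, b0, d0, b0, e0, d0, e0, e0, d0, e0, b0, d0, b0, c0, g0, f0, f0, f0, g0, g0, c0, c0, a0, c0, a0, g0, f0,
    a0, d0, b0, d0, e0, b0, e0, a0, b0, a0, d0, e0, a0, b0, b0, e0, d0, e0, d0, a0, a0, a0, c0, g0, c0, e0, d0, f0, b0,
    g0, f0, e0, e0, d0, d0, b0, b0, a0, a0, a0, a0, a0, a0, b0, b0, d0, d0, e0, e0, f0, g0, a0, c0, f0, a0, g0, f0, c0,
    g0, a0, c0]
def c_87 : List Q := [b0, d0, e0, z0, r0, y0, s0, t0, u0, a0, a0, a0, a0, a0, a0, i0, l0, m0, c0, f0, c0, g0, f0, g0, n0, b0, o0, e0, d0,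
    h0, a0, a0, z0, y0, a0, a0, d0, r0, e0, a0, t0, b0, a0, s0, a0, u0, a0, a0, g0, f0, c0, a0, a0, a0, g0, f0, a0, c0,
    a0, a0, a0, a0, a0, a0, a0, a0, b0, e0, b0, d0, e0, d0, a0, a0, a0, a0, a0, a0, u0, t0, g0, a0, s0, f0, a0, a0, y0,
    r0, c0, z0]
def c_88 : List Q := [b0, b0, b0, u0, t0, t0, u0, u0, t0, t0, u0, u0, t0, t0, u0, b0, b0, b0, d1, c1, c1, d1, d1, c1, h0, b0, h0, b0, b0,
    h0, v0, k0, r0, s0, w0, w0, i0, s0, i0, k0, r0, i0, v0, r0, v0, s0, k0, w0, h0, h0, h0, u0, t0, t0, c0, c0, u0, c0,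
    u0, t0, q0, p0, q0, p0, q0, p0, m0, l0, l0, m0, m0, l0, p0, q0, p0, q0, p0, q0, t0, u0, h0, k0, u0, h0, k0, k0, t0,
    t0, h0, u0]
def c_89 : List Q := [b0, e0, d0, y0, s0, z0, r0, u0, t0, a0, a0, a0, a0, a0, a0, i0, m0, l0, c0, g0, c0, f0, g0, f0, o0, b0, n0, d0, e0,
    h0, a0, a0, y0, z0, a0, a0, e0, s0, d0, a0, u0, b0, a0, r0, a0, t0, a0, a0, f0, g0, c0, a0, a0, a0, f0, g0, a0, c0,
    a0, a0, a0, a0, a0, a0, a0, a0, b0, d0, b0, e0, d0, e0, a0, a0, a0, a0, a0, a0, t0, u0, f0, a0, r0, g0, a0, a0, z0,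
    s0, c0, y0]
def c_90 : List Q := [b0, b0, b0, t0, u0, u0, t0, t0, u0, u0, t0, t0, u0, u0, t0, b0, b0, b0, c1, d1, d1, c1, c1, d1, h0, b0, h0, b0, b0,
    h0, w0, k0, s0, r0, v0, v0, i0, r0, i0, k0, s0, i0, w0, s0, w0, r0, k0, v0, h0, h0, h0, t0, u0, u0, c0, c0, t0, c0,
    t0, u0, p0, q0, p0, q0, p0, q0, l0, m0, m0, l0, l0, m0, q0, p0, q0, p0, q0, p0, u0, t0, h0, k0, t0, h0, k0, k0, u0,
    u0, h0, t0]
def c_91 : List Q := [b0, b0, b0, c0, c0, c0, c0, c0, c0, a0, a0, a0, a0, a0, a0, b0, b0, b0, a0, a0, a0, a0, a0, a0, a0, a0, a0, a0, a0,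
    a0, a0, a0, a0, a0, a0, a0, a0, a0, a0, a0, a0, a0, a0, a0, a0, a0, a0, a0, c0, c0, c0, a0, a0, a0, a0, a0, a0, a0,
    a0, a0, b0, b0, b0, b0, b0, b0, a0, a0, a0, a0, a0, a0, a0, a0, a0, a0, a0, a0, a0, a0, a0, a0, a0, a0, a0, a0, a0,
    a0, a0, a0, c0, c0, c0, c0, c0, c0, a0, a0, a0, b0, b0, b0]
def c_92 : List Q := [b0, b0, b0, a0, a0, a0, a0, a0, a0, b0, b0, b0, b0, b0, b0, h0, h0, h0, i0, i0, i0, i0, i0, i0, c0, k0, c0, k0, k0,
    c0, a0, a0, a0, a0, a0, a0, a1, a0, a1, a0, a0, a1, a0, a0, a0, a0, a0, a0, a0, a0, a0, h0, h0, h0, h0, h0, h0, h0,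
    h0, h0, a0, a0, a0, a0, a0, a0, a0, a0, a0, a0, a0, a0, j0, j0, j0, j0, j0, j0, a0, a0, a1, a0, a0, a1, a0, a0, a0,
    a0, a1, a0, a0, a0, a0, a0, a0, a0, a0, a0, a0, j0, j0, j0]
def c_93 : List Q := [b0, e0, d0, e2, c1, f2, d1, c2, d2, d2, c2, d1, f2, c1, e2, j0, w0, v0, h2, g4, g2, f4, i4, h4, j1, j0, i1, w0, v0,
    x0, w5, l2, v5, x5, u5, t5, o0, s3, n0, o4, r5, h0, q5, t3, u3, s5, n4, v3, j1, i1, x0, t2, n1, s2, q0, p0, m1, k0,
    v2, u2, e1, e1, f1, f1, t1, t1, z1, a4, y1, z3, c4, b4, t1, t1, f1, f1, e1, e1, u2, v2, j1, k0, m1, i1, p0, q0, s2,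
    n1, x0, t2, s1, b1, w1, q3, v1, r3, v1, w1, b1]
def c_94 : List Q := [b0, d0, e0, f2, d1, e2, c1, d2, c2, c2, d2, c1, e2, d1, f2, j0, v0, w0, g2, f4, h2, g4, h4, i4, i1, j0, j1, v0, w0,
    x0, t5, l2, x5, v5, q5, w5, n0, t3, o0, n4, s5, h0, u5, s3, v3, r5, o4, u3, i1, j1, x0, s2, m1, t2, p0, q0, n1, k0,
    u2, v2, f1, f1, e1, e1, t1, t1, y1, z3, z1, a4, b4, c4, t1, t1, e1, e1, f1, f1, v2, u2, i1, k0, n1, j1, q0, p0, t2,
    m1, x0, s2, s1, b1, v1, r3, w1, q3, w1, v1, b1]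
def c_95 : List Q := [b0, b0, b0, i0, i0, i0, i0, i0, i0, b0, b0, b0, b0, b0, b0, h0, h0, h0, h0, h0, h0, h0, h0, h0, k0, c0, k0, c0, c0,
    k0, i0, i0, i0, i0, i0, i0, a0, i0, a0, i0, i0, a0, i0, i0, i0, i0, i0, i0, a0, a0, a0, h0, h0, h0, i0, i0, h0, i0,
    h0, h0, i0, i0, i0, i0, i0, i0, a0, a0, a0, a0, a0, a0, b0, b0, b0, b0, b0, b0, h0, h0, a0, h0, h0, a0, h0, h0, h0,
    h0, a0, h0, a0, a0, a0, a0, a0, a0, a0, a0, a0, j0, j0, j0]
def c_96 : List Q := [b0, b0, b0, i0, i0, i0, i0, i0, i0, c0, c0, c0, c0, c0, c0, k0, k0, k0, b0, b0, b0, b0, b0, b0, k0, a0, k0, a0, a0,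
    k0, h0, h0, h1, h1, h0, h0, k1, h1, k1, h0, h1, k1, h0, h1, h0, h1, h0, h0, a0, a0, a0, j0, j0, j0, k0, k0, j0, k0,
    j0, j0, a0, a0, a0, a0, a0, a0, i0, i0, i0, i0, i0, i0, a0, a0, a0, a0, a0, a0, a0, a0, j0, u4, a0, j0, u4, u4, a0,
    a0, j0, a0, a1, a1, a1, a1, a1, a1, h0, h0, h0]
def c_97 : List Q := [b0, e0, d0, a5, h3, b5, i3, y4, z4, e2, f2, c1, c2, d1, d2, j0, w0, v0, g2, i4, h2, h4, g4, f4, j1, j0, i1, w0, v0,
    x0, j5, j3, i5, k5, g5, f5, o0, k3, n0, l5, d5, h0, c5, l3, m3, e5, h5, n3, j1, i1, x0, u2, m1, v2, q0, p0, n1, k0,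
    s2, t2, i2, r2, r2, j2, j2, i2, y1, c4, z1, b4, a4, z3, f1, e1, e1, t1, t1, f1, o5, p5, j1, j0, o3, i1, w0, v0, m5,
    p3, x0, n5, b1, b1, w1, w1, v1, v1, r3, q3, s1]
def c_98 : List Q := [b0, d0, e0, b5, i3, a5, h3, z4, y4, f2, e2, d1, d2, c1, c2, j0, v0, w0, h2, h4, g2, i4, f4, g4, i1, j0, j1, v0, w0,
    x0, f5, j3, k5, i5, c5, j5, n0, l3, o0, h5, e5, h0, g5, k3, n3, d5, l5, m3, i1, j1, x0, v2, n1, u2, p0, q0, m1, k0,
    t2, s2, j2, r2, r2, i2, i2, j2, z1, b4, y1, c4, z3, a4, e1, f1, f1, t1, t1, e1, p5, o5, i1, j0, p3, j1, v0, w0, n5,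
    o3, x0, m5, b1, b1, v1, v1, w1, w1, q3, r3, s1]
def c_99 : List Q := [b0, d0, e0, p1, a1, o1, a1, o1, p1, w2, x2, k1, x2, k1, w2, x0, j1, i1, u1, b3, u1, a3, b3, a3, k4, a2, j4, j4, k4,
    a2, q2, g1, p2, q2, q2, p2, q2, g1, p2, p2, q2, g1, p2, g1, g1, p2, q2, g1, z5, y5, e3, z2, l1, y2, y2, z2, l1, l1,
    y2, z2, f3, e6, f6, f3, e6, f6, x1, e4, x1, d4, e4, d4, m4, l4, b2, m4, l4, b2, x3, y3, y3, r1, r1, x3, x3, y3, y3,
    r1, r1, x3, k2, k2, s4, s4, r4, r4, o6, p6, t4, g3, d6, c6]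
def c_100 : List Q := [b0, e0, d0, o1, a1, p1, a1, p1, o1, x2, w2, k1, w2, k1, x2, x0, i1, j1, u1, a3, u1, b3, a3, b3, j4, a2, k4, k4, j4,
    a2, p2, g1, q2, p2, p2, q2, p2, g1, q2, q2, p2, g1, q2, g1, g1, q2, p2, g1, y5, z5, e3, y2, l1, z2, z2, y2, l1, l1,
    z2, y2, f3, f6, e6, f3, f6, e6, x1, d4, x1, e4, d4, e4, l4, m4, b2, l4, m4, b2, y3, x3, x3, r1, r1, y3, y3, x3, x3,
    r1, r1, y3, k2, k2, r4, r4, s4, s4, p6, o6, t4, g3, c6, d6]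
def c_101 : List Q := [b0, b0, b0, h1, h1, h1, h1, h1, h1, k1, k1, k1, k1, k1, k1, x0, x0, x0, u1, u1, u1, u1, u1, u1, a2, a2, a2, a2, a2,
    a2, q1, q1, q1, q1, q1, q1, g1, q1, g1, q1, q1, g1, q1, q1, q1, q1, q1, q1, e3, e3, e3, l1, l1, l1, l1, l1, l1, l1,
    l1, l1, w3, w3, w3, w3, w3, w3, x1, x1, x1, x1, x1, x1, b2, b2, b2, b2, b2, b2, m2, m2, r1, m2, m2, r1, m2, m2, m2,
    m2, r1, m2, w4, k2, k2, w4, k2, w4, x4, x4, x4, g3, g3, g3]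
def c_102 : List Q := [x1, d4, e4, t6, u6, v6, w6, x6, y6, z6, a7, b7, c7, d7, e7, q1, c3, d3, f7, g7, h7, i7, j7, k7, l7, b1, m7, v1, w1,
    n7, o7, p7, q7, r7, s7, t7, o1, u7, p1, v7, w7, a1, x7, y7, z7, a8, b8, c8, a3, b3, u1, d8, e8, f8, o1, p1, g8, a1,
    h8, i8, a3, a3, b3, b3, u1, u1, y1, z3, z1, a4, b4, c4, b1, b1, v1, v1, w1, w1, j8, k8, o1, i0, l8, p1, l0, m0, m8,
    n8, a1, o8, q6, q6, r6, r6, s6, s6, o1, p1, a1]

end

end G32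

open G32 in
noncomputable def G32_T : Tb where
  f := F12
  K := 102
  nu := 155520
  n := [1, 40, 40, 360, 2160, 2160, 360, 540, 2880, 240, 480, 240, 2880, 1440, 1440, 360, 360, 1440, 1440, 90, 2880, 2880,
    2880, 2880, 6480, 2880, 5184, 5184, 5184, 6480, 5184, 2880, 540, 4320, 540, 1440, 1440, 1440, 1440, 480, 2160, 2160,
    480, 4320, 40, 540, 540, 4320, 40, 2160, 2160, 2160, 2160, 5184, 2160, 2160, 540, 540, 6480, 2880, 2880, 2880, 2880,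
    360, 360, 240, 40, 40, 1, 1, 480, 480, 40, 40, 1440, 360, 1440, 240, 480, 240, 360, 360, 360, 90, 90, 2160, 2160,
    1440, 360, 1440, 360, 5184, 540, 40, 40, 540, 240, 40, 40, 1, 1, 1]
  XC := [c_0, c_1, c_2, c_3, c_4, c_5, c_6, c_7, c_8, c_9, c_10, c_11, c_12, c_13, c_14, c_15, c_16, c_17, c_18, c_19, c_20,
    c_21, c_22, c_23, c_24, c_25, c_26, c_27, c_28, c_29, c_30, c_31, c_32, c_33, c_34, c_35, c_36, c_37, c_38, c_39,
    c_40, c_41, c_42, c_43, c_44, c_45, c_46, c_47, c_48, c_49, c_50, c_51, c_52, c_53, c_54, c_55, c_56, c_57, c_58,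
    c_59, c_60, c_61, c_62, c_63, c_64, c_65, c_66, c_67, c_68, c_69, c_70, c_71, c_72, c_73, c_74, c_75, c_76, c_77,
    c_78, c_79, c_80, c_81, c_82, c_83, c_84, c_85, c_86, c_87, c_88, c_89, c_90, c_91, c_92, c_93, c_94, c_95, c_96,
    c_97, c_98, c_99, c_100, c_101]
  rows := [(List.map (unp 6)
    [0xf0080abf0136bc028fc40518780a3d301465aa202ce078055e400a3c901478a202afb18055e300a351e0157aa202acb4c055c809bf50146fc028c4b44059e380a3c501463c028f44051e0380ab701362026d404d9a80a3e0701560e028fd8051c009b5101465a202ad804d9809be013602028c049,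
    0x9684a335e0356ad812af580d1891e81b3d5003565a2612ccff00d5e8801abc010036782612af704c259e80801b356c100377a2612acb5400d980801ab2d6035778128d5b0c0d9e181a3d303477a128cb0c0d5e0801ab3033646068c600d18493d093620068f024d9301a3130946458606cd100d1a801a3107d0366c066c089,
    0x9685234e0746ad814af41cd89e83abd007465a2614ccc04b41dde103a3c220076782614af704c299e1003ab132d0767a2614acb401d591003ab2d074778148d1f81d5e583a3c20007677a148f4001d5e1103abb0736000e8c8001d58513d0a36440e8f028d9039b130a465a000ecc801d18039b100e07660e4c009,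
    0x80e822b0e044660bc08cfc83d187d92ab01dd0466c61e08cdb20c959fb8223012cc04764cd802090ff14955b3630023b328c10476cd821ecd90b43d9809022bf043707e08ad8007811db36107b3c525460a21e1eed9b18119f90822b21044641e6c1099a83a3012c046602426afc443d580903ab70436cd808ac443d18082233051d047602400ecc010d,
    0x8f132101e566a63caf858db808f2b110225708e3cac0498047a19610800b43519d016778c023ccfb40e15e300f2b1281001e870265a2cee04b4059d9393701e16676403cac990b459de300b2bc61e4620fa02cecb080059db80112b200125641a6c00211908423c1e3624248f945919086a361274646044ac8c4918913210e16662106c209,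
    0x90e80c33701d186765a030cfd86d19a9e8c33ed0128678c0230ce11f46198e89000dc3dc120011b978c02230ef8b00dd9e000890c43012601d18978c0220370ec83d86dd9091b70f611b76651824310e04cb4486e5e3220db32c21857318e36cc74486d9f68142b00836164c1899031bd1836e0108c744886dda859b001247c584050ec44211910842b210f61b76240c8c048195,
    0xb07062b60e00c6643d648cc8fcc399b80f06330118e0c76458c22490c4a0780321e38072bc60110c778c018adbf14919e38062b1281e0c7702643c190de744399b0088633256c210c86f3a218cde744039de12872bc210c56e03c018ed8074431de2108633250e46044c84311910862bd18245684218af0884319b80723600c46ac61c18edc0311b019b6f60e562046c04091,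
    0xe6000433050f08673f0262cecb035591f86abbd0846ef84662ed4674359e0986abc100d5782610ac8ff14c5de0280433264f0866a33a010ecca07835d8806a3281e30d76ac7e10cc95b0835de106a3c230d56421e10ce0740359e08042b20d3602028c8c351800423d35315620108f0002158986a3130846ac27a10ec1402158831b213d0d6600c6cc04d,
    0x888ea30e501c660e023accb087159080eabf23295665023acc4a040076196108e3312601e2986c640a3aefb404ed9961098e3b321e31c7660ef80530dc078719800908b318e29574c3a8ca04038721e3008e33c6111d666bcc52cf440a55e11994b3531146a2018ad8c3919871bc111d560a218af44a518019b901147318252ccc84315c8072350e1c5620006ac000d1,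
    0x929318254764a6f7040119a312a310ed0466ac264acd4c1c959b300892bbdc20046784264acf70b11aa9992b3126012577764a8f700115900223dc0447644a8cca04959ee100023b8811256684c24acf70c115ee1022b20004566086c001119a85232225464086c894d82132c27b80008cc010d808022b35254620088c289,
    0x931335314764c6f70402198c18a3c22c0866ac264ccc49804c5dc40898b3dc2085784264ccf7189d5b300898bb32813167764c8f702119041bdc000867644c8d4c1cc59ee1004335533316684c24ccf70c215ee100043b2008466106c020d859322264640010ac898d80042362737b8010ac20991042346314620108cd4051,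
    0x91192335324684c264cf7044039d8c1923dc230e6776648c49804c9dc4089933dc30e56ac2664cf70440a9db3008993b328132678ac64af08b0c39d9871bdca0e576646d4c1cc99ee0807335533326764648f71439588768733100e46a1c6c943918113232360201cacc89d071b1102a57b84a1cce403919187234632462201cacd4091,
    0x90870ab3f61121675cc2aaf5dc8558380f0abb55435578c82aacca07855d9610890bb281135665842002b0fb404f19961090b3a6f62166a60246aef7508859900822b500135664c85a2aef18c0485de3088010c32c21556e66a8cc880d59b800891ac30004466a148c41cd9083a3d1536a146e20d518882a3104366402206b0c44291a1083ab210f621760a4c014d,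
    0x960e23001c46642038ce30b5190e1b2011d02d86ec0238cd0984719e2800e33a2936024c02390fc475499ab0990e3bb21c46200ec38ec9b00b59890006332332956e0238aec007158968016bb30122131c966a388c0440a5988e816b310936a8188c98031588001abc001c5622018ad9804471d828862b811373385aae424dc061b2201c5622128d00cd,
    0xae0009abb6c1001358658a206aeccc85d5a89619abb9d041565186aaccb41cd5d92e21ab3281746645806aefc9713198091621ac32112c03586b8006acc9505d59002a35001756518226aecccb0d59809120bbb6c10035778c66aacc8805d98887a0b30012076660a6c0401d58813322c013586420e8ca304d5982930f2625a0082ed081d1910803b30122c1335962420eac040d,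
    0x960b230016462462caccc859590b1bc242460ec02ccd098595a9990b332816466502caf8b01459a12b0b335321656c2642ccc95059599092350016560e02caec00595809120b3b2c61656642c8cc880599f0212330d3600248d403518693c0016560e1a8d54005999091b5001256d8848e834d9806a32201656a1a6c034d,
    0x911e94331223d28764c85a50ec90b4a19c0e814332011d028878a00250edd8f40a1de81423a2e37b4250afb014d596801433811d02876458c02510e740a159a83235002e5633a050cc488cf4a2189680143bc72846a603a50ecc0b9188e81433110d46640c8cc18da80323501d286640c6c740a158903230d264467a50ec434d910032b73d0286721a6c98191,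
    0x872809d3ba6c3a560ec1c68eecb00e99c719a2b98c13a678a0068cd58c38d1de29d23281335782748ff449619e089d2bf5c13a6793274ae6314e9980909ab5003357ef874ac99b00e9de1d1bc5344731874acc14cd5e0909d33004360200aac4c98882a350e34560a4f084e958829b100447833274cc440115a029b81d073a76204c04151,
    0x888015b3002b466a03eac400ad58f934212b57303e8e987d1e295a3f5474664ac56cfccc9659ab09915bbb22b46200ec56ee048ad5b089b8e34756302456cc01d8ad993008915c3c61f466a568f20d1d593315ab1102a56a0018ac94451b0088633c1f36c6188f084ad5b09862b02a36c02442570c40a91b8062301212b67201c8d440315,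
    0xb2160933050f12670247eac8fc8499b78923532c12664ac7eac95b0499e0800933c123786248f0958fd9e20923264f126664ad824edd83c499891398f1256ac7e24cc95b0049de00923c6124647e24ae9b0495e00092b0123600c6d848d9189233f2600248f08c495880092b3123684ad824ed048d831350f125660c6c418d,
    0x88e82abd0537ec2e8c74151f881bc12200358709a2498ee306531989608009acb25174718748f81c1319e839d2b8c73a57a0748e7144e9982e0c11bbd523477842274ec4740e998e839d33301747844006aef4d48d59608009ac323d0535767a0a8dbc4119008e82bb1026e7a0aad70004d5da89e82b3dd435563a074afb804d5989e82abd42235662a4c0474159,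
    0x888c231827ec2c8c460dfc86a3c1122317640b80a2ecf54519621098bb25164624463ccf54d455889118f3b1221d01e8623a003cef554079982e0c133bd52646443a03cec74007999118f2b301647824462cf4d4995ae1a98b33d5315620308d4f40435d9080c2b90d36242030ce714c55a80c23421d3167a003caf40484c5d8880c2bc223156324c060d,
    0x88910e33221c4703a28ecc488715a80e94b38c22b57a02443cad2f8c8b115a188915ab201d14776b8876ac83f4d59d96009db31e33b57182276cf4044ed9e1816ab012d62d77c6768c670ed5896009dbb94736b88456cd780b558915a37012b5620388d404a558e13729362386c8acd888e2350102b6738768c90ad18880e2be352b563e4c070d,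
    0x937842b126f0866403c08cec8170219fb17232d301b67865a200ab2f611d55991e8090dc3223d46663c002445f2ccb448800556d9000e897c32c842f664023a25f0c880074be1e1839433012d62876244003a5f2d44f44bddf0009117c3e246463c00e36ed7804a19a7a990dbb1e071b6623a10ad8b8d8800e843b2e260b8010cc88fd86dd800e8433d42111b76e7a25ecf81c6d5e841be0071b662c4c74211,
    0x9980d2b1d0c4643a0256eccc91190e890e3bd1201d664c9aaccc0463159d99900eb32212b566443eaf4401599889015b31e0565623a003eefc8c07d98900e8ebb21d31d66443a03eedb048ad9910080ebb3011c5786443acf518c958038e2b18244600348d80743199000d2b10c36b86a64ccb460919e8909933123d1d67a0223acfd8447198921bc223256002234cc074315,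
    0x998d233301a57ec3e8c0044699f889bc1221d670eb28f00565589198eb3251f46206c8ccd6518881b2b510e3666c3c6cac90b0d99809202bac64056e1c6caf98d9181b1b301f478443aad0099198eab0701d1d76344dbc451908d23112624234ad4004475da8d1b0123d01d865866cac90b475988d1b2c201d66284c44691,
    0xea311ab2327ec7a8f088005dd80e802b3c12217665aa200eb72d840396dd80961d333d77216620e7aad80781456e5a199b107c03d765a20e0b70cf4484e9df711a321d03366e03a66cd4004756e1a800f01d4301103d66cc748f014cd59000bab070e17662426ce89909e82b301005568c468cf5c855a890a394e3356580207aec0487405e18091a3100215627a0aacf4151,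
    0x800a23e21447e4c264cc874395f907236c53256fa0220570c04740adda33614b37701d560244056ef58cad59808eab42d122b760023a23b0d780a55ee8899337d1a464a1c03aef8910759eb0094b323324780e52ad1069192992373d0e56003a18cc874051990a1b20e36e346c8474431da8800e8643324d296643a034cc84f43998d13d000c562003a18ec509,
    0xeb6022b0122c004864bc02acc48d51b80e9ab344e20157685a278cf5b0c0f1d8089601d43011d03476d842200792c4880780440f31a2701a3342d113c77c5ac668ed08b08e9de2110ab312201257685a68ac41f80d1d91279d33e2d32157660b8474ec874c959a168aab7013557a640242ef8b4115808e8233223546024a8d0b44885d808e8390c3305c3a67c4664acc908d5580892ab44e05121867a0e42cdb0111,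
    0xee8223e1736e03c94ccb4c0859a6b19abd11003a778265a6b70d70ca056e1e999101d4301d04a67aa6078ceba216d9ca51bd0126015b97aa66078ee7ccf158f181d3373d123a76200f878ec874d299ae00881d430011336623a0074ec00d518e99a311d07217623a08ac005d18800e823b6600176625826acc49b0804865a801aabd1103a6675874ad844cd5e8900090c3c113557a086c5c9,
    0xe8e9be1f3798ac8c4b08719e61b2311002b66c0224b2ef46056599991015bb01d5656420acaf08cd659a21b23501595688768cb081599c1d9b1d13b57c44b2ac8740159d9699dab44221f669ac76acb0007198e9b232302b560386c0044759f28e232c1d462420056ef947d19980e2b61364643a66ccc44007d98f93d002b563a4c44751,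
    0xd08e8910c3ad122166025a9cce8744885da8719ab501d3d66d90beadb0c157dd89e9b33d4e57a60eb6cc04b517ddf1828adbb077d5b660fc0a2b70de7d6d5e1829a3307e6346684423ab70d7b416d98f1828adc3d5c4e569ac7aad780d159e93183d47a24002430d40cd1808e8390c3533367a0e42cc44f519962890bb1183d56025a60eb72e0f4de80390b3201d03d762e4c7401c85d,
    0x8891602bb662146a3a068cf04151870082b31d302166a3d268cf9b00d19e010a3c034478024242ecf70c0d1de029a2b55c103476ab86a42ef04488c0865a8910ab661102176243c002432d78cd15e102890bb0010557c00242cf98d11be02a300e05560245800b0c849eb602ab660012176684c844b015da9a1b1212157c0a0242edbc4155bb782ab21d03466c3b80acd544855,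
    0x998da3121002f76fa830ad7086d5fb1842b6c2126662467e3cedb08795891093335541e5664448f9804407a180880f3354e51e66003c4ccc047489987d932b7d1947c4664ccdf4c65591932361d01866443a210ec00651be8c23e61b46364c484bd5908da363084624328d4740021da880c2b1224e0877cc328d4043821d880c23001118662366c649,
    0xf314a31212b56a3a026cec970ca599ee1814bb3d302b66efa06ccf9b004d9daa895abc013657840a20570c3f4cd99e039b2b1122c4368624c3c0570f08144addaa8815b35122b5624c3c56ed4740d999e995abe6c02967cc568d874d95aae194b35e32957c4652ac4840ad99149b2b2626c6f080a55b9b1b51202b67cc056ad57040a5de014a346c3656524c0acd,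
    0xe859b41b365826a0cf000b95980da3c2e36ec9e7ccd84f5559ee120db33f61b5626a08cfd4f9596088038dcb81001d5586c2201c7d0cc381446e1b87172b4e0511b769cc7cad4c07555d887b0db32c6441b76c2207ccf00b91887b08dbb9c2e4666036ad9106d59685a30b26f805cac989a9980db3611003e76201c0a2372c4401c6dda20da31001b56220036cfcc8195,
    0xe9a852b302147b0298ac4b085d988010abc551756ec9e78ce04753999608900090d33f62156246098ccfd4f1596221090c3533d4e66c2201c790c40381448659070bab30e05121869cc78ad8047539d887b10b32c611002196c22078cf9085d5887b090bb200e176666042ad8440085db7888533350a47c42e8c94988900090c3611003c769c0a242ed1084859a210a342136220042cc8c9,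
    0xe989b1d011e67aca28c4b08599f98f23c5516565a670ac3c5355960f233d121e66e6a28f724e15aa8f23f14d46220070cc8b08079d9070b2b22c21e669cc070cf8d3518e8090f3b0551e56247a70cf908595f990f2b200e166663c6c007919893223147c42c8f8048fd98f1363837c0e3cac078d8080f2b3d11e56203c8c989,
    0xe991b1d011d67aca88f90a51f98ea3c12947acc06ccd8047559dc4088eb3220e011d866a86f7098d99b30088ebb811d5666c886cac8b0844761b8714ab1d12241d86247a86ced4004755a191007008ecb5500111d86247a6ccf004a55f11008ebb18c29560203aac0447559913223247d2528f804901980088eb36363645840223b2c44751880ea33d11d5663a6c740d1,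
    0xa21b23200113b760a076af184ed59b13436364c876ae50d9189331db3a13b46746c8d849c099dab10703b670200276ee0ecd8008a3663b4726c6c98040edd93009db3630365620e76acc144ed9b8009b33232a46a0022ad8c451b089bc83b46002422cd980ed59849b321146c06c8cc44d881523053b46ac228d4c451,
    0x960a2322c10c67c40238cf0443158700873311d2457d2388e311d1889606337e00111c87884248cf5991d58f190e331e22011c87a6a038cf4cc0719bb7862b7c0c46fa488c4b41c71dcaf0e2b0010e578244838ef41c7159330a2b21436024580190c007431990131122c0c7624408c9703159693118c0c67384248cdbc443198910a2b2d41c562406c8170319,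
    0xcf87a312354625a6074ed4d4d9360020bbd442156718a200750f9b00529daa9aa3442c23a77a842aac43f4d29de889100089d5bd5303a67aa66074ed44b4c0ea1910881abb5123556fc00242b0df80044ea19119f9d3bf2c34167a6074af4cc0e998089607bb12d0f562406aad40d5196b602333526c23b808ec8844d598899a35120356625a842aed540d55e879b2211d303a97ad808ac0d4d,
    0x8261b0013d56c27a8d8400f5980a6230114c56ac207accc1d315ab0801ebb5533d56602498cfcb0d819aa981eb3533d46a607aad584f55a829b50013d66e6988d840f559100881ec3001124c7667a6cc0f51890262b110a46400a8d014d89902ab22443d66c00a8d54004f5d9813052720988c48151b851b220113d7720a6c048155,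
    0xe0089ab3242d156640a3a0b70c1f40559809331d3bc220113d878c65ab6ef183c56dd91089eb3c03d47860e98cd0878056e1be3801d3b8f15b56458402b90f0c131583be80abb44c369eb88c1f44c96e188e891000ad3e2c2015762421e98efce8d909eb9d3b99c03a66646a8d8f4d91a9bad1221667a4c44d51ce01d2b474c47984298cc910b455de01aa323d3d566a4e7404885d,
    0x88801c33003846c706c400e159c1343836ec070ae0ce11a8801c33a383632070ad8c9c21c23533846c8708e0e0d9939b50038572706d8ce11c81c2363038566706cc0e11b801c2b102746c24e8c009d18939bc6384644e6d980e1593931102756c0708c09cd9193a303836e4e6d89cd,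
    0x960aa366001567aa4a8d70551870087b311d2556518a4ace31211b320aab2211d257788424acf4d211e8392ab51d255718a4aac8474959928aa3661546fa4a8d70d4959e1a92ab0010f563a4a8f4d49559330aab21536442a8c5499a13c15362686d980555889a2312154738424acd454d8910aabd2536a686d54551,
    0xcf9872b47d10e66bc0024290c1474439db61a1abd442146794288f5b112d99e808073b33d31467a8428ac3f4d2d9f0090a33c05e14665a8428ccb510851de48072b2051d10e86fc0024290d4780485218f0090a3bec043563c0024290dbd851580f2073312d30e6623a61ccdf4c3958949b81d10e664526d3903959493112d30e7625a8428ecb4c395e98723e00121476e526c74c395,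
    0x9610a2b1d11a57ec2276cc74006998708a35c121c664022076ec1ced1800f10e3b23301c66440023aef198ed58089b501d03b7660256ac44875590d1bd331d565a0056cc74c0ed9e100d2bc0111a6784423acf000455896108b30012c1177844028ccf404871de80a2300204647ec38cd1088519b788a33d501d67802243aec44691910a23c211001c863a028ac809,
    0xa8131503702a08c4541180a8230115056f2a08cc1d415889282b0125056264a0afb0189580892833475047022a0ac1d411a859b75036e6a08c65411992823332505626a08ccd411892823110b4642216ac042d18985a3225046c166c940d9859b0b272a06c42cdb859b350372166d442d1,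
    0xe049be01d46e7a0a4cc8874471d8700eab3d1201c76cc02276ecf69595b3000eb300e071d77822a4af09844eddaa8ea32210e5677a22a4af0448719e8890e3312c211c77902a4ac874d599f038eab0551d569cc076cf90871587038eb3d01121c76401c38cc00751e849bd2437ca388c889118e93183b478022438ec074d9070e2b00e01d67c4388cc89,
    0xe051be01746303a94cf90d518700babf303556cc0227aef8c80571dc40ba3dc217565ae694cf09844f5db300bab6c605c664c948f084d559609aabc20013577b8e694ce321715ee100bb3550017669cc07accf440d59f2a98bb32c01356665826acc05cde851bd2336580026aec888d1800ba3183d4784026acc5c99ae1aab00e01766258026aefcc81d5,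
    0x911fb0dbb126f1266edec7cceb448846e1c40a32b2001d13e867a60e7cec3f095d980096093b001d13e76a3c0027d0cf71855ddf0090cb3c05e196780bc7ccf8c14f99e088038dc38c42111b8624dec7ced478048661f0009f33e324656a7e67ccf9800f99c62890dbb12d00121b96b800e36edf400486e1971323f61b664446cfd86d5911355c1257c00e7ccf09106d996088038dcbe0012197624448c4b0495,
    0xe088c2b660019663a3c8d9840061d87009093b77d1e56a2003ccc3d351b320cab2112d1e76a24003cef945355aa9fa3012c63f762442003d0c44b4799908900c3b661185643a3cac48fd19000f2b00121266443a3ccc8800799b3080c332101856442030cc406118941bc2101866e6e6d9804461d91b9b121946003c8c4480619bb80c2be0123f666e4d54651,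
    0xee86a30112c0d764603c5eee0c4d9182e143bd8111867d87430ce3b404bdd927990dbb1ec0011b86a03a262ed40780440be9919e98144311200e2f8649e65ecc9b15461d9916286bb1e32d02887824c62cc079108621ae1298b3b1dc0d57a84220310c17804a1d88e80b332d6016661da10acb4c8046e19680b2b205c086627b820110cb5b00022191e8090dc38ed02866443a662ec154c55e869bfd471b67a02c8c9b00021d,
    0x889ea3ec003a66a66bcb6eca3084e9dfa51bd0125a67842200eb72d8c3d8199eb9d2b001e25b76244b4ad804b581df600adb3c9d5b57851cb6cf24056d9e001d2b32c03a66858cb4cc44b4400496ed8f2212dbb4a26a003c4b70df4400496e5b9e9b703d46b80074cd44b000ea1a999b53d73a66664d80780e9db0ee023355c003a764b46f0998e998881eab335e5b662666c4b000e9d,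
    0x89331233e511a563c3e8d9800469df951b7e3b46a003eac3ed655b308d2b2d51f56e0076af0485659a89000fbb7d1f4624003ecc44b47d990890d3333221a67a2276ac007d1aa800fb32a27c443eaf0c7d1b31223201245644348c468d908902b66011a6622408d9844069d9c931211a56220076cd4469189100923bc551f564406d544695,
    0x889da33b26b8b28c4ecdb000a933c11595651842b2ee39851a89da322c1159778230b2cf001855e42ca35c159571842b2ccb045659910881dbb53b36f8b28d7061659e0c2cab0e524782b28f461655b9d9b703b4620768d40ed189b1b22113b6646c6c844ed59b135103b56f90b2ac8440ed98881dabc5936e6c6c0ecd,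
    0x893311b3660112377844227aec9988d5f981b7e3d46a007aac049695b3091ab5e3d46e007aad99691a8801eb3e3d362007aac78f51928091b333222367a227aac00f51908801ebb30265a227acc884400f61b311a32012356440246cc048d1b08ee02bb66012367ad80aad98448d9b0ee02b346234622007acd4048d58910091bb51e3d565ad80acd54048d9,
    0xeb8da36441b5666430ad9b040a1d870923c1221666bc666ecc4840047a1aae09bb351e21e66fac0030ed8c3879988916009437d3321876e002245f0c44b4488005ad8930f0dbb51d3e5643c24ac8ccdd590800968b4b5333e564002cac048db300e97bb52f36422030cc8dcd91609943bc21101876a27c8cb5dc061daa97a353e36c2630ad70ca15b8d9b01e36582650cc4480619,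
    0xc60881d3b5501256685a224b70c1f98d19c21e2384e25b6640a3c0a2b74c044b61621808262b84e5b560a3c02442b76d0879619c279e2b32c858660a3c0a2b72d089396ddb6301a3301e9346718eeb6cfd44f15af601a33f123325762251cb6edfb40d19c0871a33322c303a86d86074cd8cb00e9d9e93422c1103a964658074efb000e9999601d335134c563c5a068ecc8b180d21936301a3be3a4c5738074acc154959,
    0x999117b31d3747a23c8d708655a1613ab1221e564663cac0e0d891998b3251e4644663ccc0044b4e2188813ab510e3866663c8d478d90c9b25c219665a23caf989d1c40ca3001375784423ccf000655891610cbb22f36445e8cbc99f132662f56e5e6d98bd189097ab3d53156884432cc649910ca33d733166245e8c4dcd,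
    0x929fb0dbb550126665023aaaeeb4611c21f2360121e55878e00eaaec044b615e180a823301e25577a20024ab0d084755ddc279f2b32c8157765a20024ab2e41f9559e1900880c4b42d185788eaaafd44f95f6b98c33f12332677023aaacdf704c61d92168c33632d0121b96d860e36ed8f40486e189ee08044353f61b667a02436ed3d4c86ddce038db3475047825a26310c910b461da2168c33f19505647a024370cc154999,
    0xe1990a33e3937ec256ad7094699fb152377002b66c0568c04d91891999332112002b864c056ac0044b4da1b151bf193656644056cc44800add908d237d1221a77e4c256cc7440a99a21108d3b003947e644256ee204695f330d2bd014465a028af088051989ee0806432332d01486fa028acccb4051d890e80a3b3d532578022034ec468d9108d2b3d73326625a028cce49,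
    0xe98fa3e41f46deba8c7907d5f980fab01e41f66ba4c0489659e0800fb3c1f37863e8f174de20fa312259562644b2cc44896598f933322596644b28cc89655e00fa3c301f5627a63ecccf4c7d9e000fab01f37a8c48acc07d188800fb34026003e8f044007dd8800fab31f3602244b2ed07cde8c122b3d31f57a6a48adb084919,
    0xe9a99abc60033670be6f18400cdde299a3c54335790be8cf404969db08019b3533366a668f3217d5aa19a34d125a66d8ab4af4049699a8719abd125a57c024b4cdb0496998299a3305335786a66af0c14cd9b0019ab050e3367a8c46adb14cd5eb0899b31327cc668d84400cddb0f19ab4e63357a64b4ad4078cd9e8c11abc053357a6a46adb0848d9,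
    0xa214232d010d667aa21acf1c3519413428377c021ace50a11ae386ab1dd10d6674508d089c08e886bb13d120d76d80e1acc8fcc35980760143b1d120d672506ccb54435dbce886b36302856025a21aec044b44361b8009433e6014666003d80510c3f20a19f360143355c70d661f83050ec847404361f60212bc32d1102896c0508c043b00a219ea232bad10d5661d8050efb0c0a19,
    0x900ea3b35001e02d86ac3c05aed43f0b59c623a3d8474739205acc9b0051dd91227016c3e302d5718268ecf8b4051dd987016b32d842d66aa61c05b0f240b558076016bbc26c02d7625b08ecd584380b61b087016bbd664756bc605acd4c380b5d883e23b3664746003d805b0c3f20b59f36016b30fc2d57c65a05aec00780b5da2133dc82d66cd88eacf710b59c239b61e02d6661d805aefb0c0b59,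
    0x88720ab6c21056b8020ad8c38419980f20b3d104156ac1c20cc9b00105dbb0788332d4105718282afcb0d059a16a08335e1046a9c20ac844b441d83ee083364f105625a2082ed838415ce0082b2c34157c206d3841183e20ab234147b8020afb0411900f6083b322c510769d820ae23041588a4a31e2c1066643c82cd7b04158820a3c0104603d820cc3b0415,
    0x96a4235c4846ad890acb05215c62423d848465a2690cdb005219e8a423c01485782690afb405219e80a42b8c14857a2690ae74521580a42322c1486778908d70d215e1a423d34846d8290af59211e0a42334836c906e520da413d48362906f120d88a423134847c02290cc045215c241b6c4846a906cd5211,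
    0xbe21a35e4346ed886acb090d5c721a36c4346fc086adb0d0d5e219bc34347822086cfb010d5e021a301e04367a22086ce710d19a19b0e043569c086ac7810d5e0821abc004356d8486ad7010d5e121a3104346c2868c010d18a19bd143464866f90cda1931104357c0868c10cd91a1a3e64346e866d90cd,
    0xe2b180a3be411478a028eccc8b0c0a61b36014b34256c117718822af0908519c08070a3b81e14560a3a028ec044b4c461e327a34113796028af14c0519ae28a2bd63295658052accb00a5982f698a3b9d320514864586052ef2414519b07a3abfd3295780868cff4ca598f6008814cbec411560a1e22ce7718519e1910a33c221457909e22cc48b08c461919e8a33c244214773a288d8f4515,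
    0xf183a63351e03466a7e6498ed0b50855d828f01a3b32d3201586ab8e98cf98c0d19c2701a336c2051576ab8a298ec78b4053a1b18701a3b0510e03486225a24990db24055991ee300ac38ca1556c9c024990d44380d1dbe89000ac35100e0348633f298cc4b44800565c6128ab31dc3321586bd8402aefb08400561b7ea0abf194c57e58482aef9804931dfe120ab351dc4e66b8e002aecf718055da7e120abb6001e034863d842002b2d209,
    0xf289bf4d3624d8a2cc38145587a6a300e05166a3c40a2eef9351fa8a6ab055c5166cd88a2cf7145359996326b351e4d56a3c0a2cc147945983a8a351e515624d82a2eefd351f03a8abe514d56ed8a2af81451aae28ab53514600a28c8014558a11b7c5146ea26f894519289b514d47c40a2ac814518289be4d36a24d349,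
    0xb0996973b4214657a65c8ccb40b999900a33312d002e7631c5cae205195809023337d002e66e7a5caf8c9195992323550014676247a5ccd7000b99f16997336c02e565a65cad9805199d697231204657925c8d0b4b9593601733f2d32e67f925caff4cb95a293763d2e67c4d805ced5b0cb99f36017331d3254677185c8fb4cb95f64972b120014677c65a05cef8c80519d,
    0xfb9f23f512f560ede5eceb44bd5b009693bba6f3e561c0a25eed8c3c9d9f9117ab324f2f66c0221e7d0fd995d5ae128017c320510f2f8784a005eeccb4144be1af6100b3b012d12f76033e7ccf08474bddb187897bbf27370241e5eef178bd5f889f2bf2332667f8e02ccc83b0805a1872323f1212f67c648cafc4bd19ee06abec2016669a8e7ccc78b0805a180f1008934bb0f2f56a1c8cac7b084005a5,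
    0x98091091c326c051776584002eedb2c005ddb187a533122332376e03c2ecfd28d8ce80bb37d600177625046ad289aa70bab5c7017669c2e8f4484005e1af6100bbb6c220177646646ac88f45d99280f0bbbff4a478e02eac170485dd930091b3f2332367f8e02ecc83b0805e1aa49b519d01776924d807885dd9ee082bec2017670466c78b0805e180f100891cb22c2417762926c7b084005e5,
    0x8c1ba307d053665a0a0aaec80448c5db82f2ab32d1846599630cfc874c61d919e8c33e2d4186630a28f44400ddd89098abe055316647a30adf014d5894098b326c211558631e6eae4380448625ea8998b32301d1877b902230ec80746199663008c432601d1877203a30cd40991180e8c43211d0018864a7a30cfa5551e196981443b2d1856e03aaacfb00440a21883e80c3b7d0555664a62ac78b40a1d,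
    0x92c9b46594764b28f70915999aaca3dc2305676ac264b2ecca05659aa99acb3dc30566776b28f71751c408acb353075966ac26b2cf7048815a1982b23dc610567684c2b2cc4980565dee0802b3b6601159776b26f7084015a1ee22b2b10056564200accd915919aa3a359268ac6c89651b082b2b5d27b8c8accc48815999182b2b18594648ac8d1c9,
    0xe08800cbb05519566326f184995b3000cb3c5012666c8432ac41c0659b18090cbbac2126664c8432cd349a880090cc31230196632032afe04995b632aab2c61266646328cc90655ce100933b8132196644632af20c995be119333c1235567a2426aaecb4484d561a700a333c23195780246aaec449800661b6232ab35e2659064ccc4cb1955de8c0aab3551947a02426ab0c74c9519d,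
    0xbb2719b366c603377a6a66af1848d58896b8019cbc501236631c66ac38cd1df19a3ac2123666bc66af71391d8719abe33369cc66afe048d5f91991b32c6123665a6a66cc038cd5ce10091bbb00e336783066af20c8d5be1191b323d13237633a2646ecf44c8d99aa4a312601e3387c402246edd8078cddf00891b34e26590646cfccc8d5a7100891c3561e33377c44022470d249,
    0xc9c9b07d04b665ac96ac80448c9dcea5a323323267a2664afd98c95919192bd61332672a86f44400e5d890992be055326644648c7612d589409933012d4b673e728c3d98c99ea899933012132665a2644650c8448c99ec09993326012327684c64aff08395bc9923213232664a6464cc48f52d987e107334261326625a96afb00395894192b7d04b5664a64ad7b00399,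
    0xb9ea92bf2305666460bcacec93559587dacab26c052663103cacedb00461661900eab333051d567658002a4efb084565db363ab33813d56664665a0ad0c9804b55a18800ab332210e5676221ea4cc6675599bb000f2b43c121596702003aad0c8ccb559d808ea93301e525648ac8c884159996b6216bb201d05677ad885acdc39595aa1311056566025a2a50dc1591e88a92b607e5667c4d805aec8c1595,
    0xe8039e33e2c360224aacc88044961b300892bbc603c56ac0278cc144f15ab1809e3b550013c7720a278cc044b4b1d82aac2b2c2660a278cc4401cf1d80089e336011256640224accc804495d80096b9e43e56133c76440224aedb1800f1d9300892bb510f4a66a7e94ac463d2998cfa52bc6003c66c0078acb401cf1d8009e2b003c46ac03c78ef18f11900089e3b051e3c6600e78ad8004f19,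
    0x98091092433055246666488cc880491d982a92b1223324770e488d800549989300923b2533246625048ac39491889412331233246623048ad4cc9158096899243601245646648ac6091194122305236446648cc048891993009233f23324669c4022490fccc9158a59b2560124764966d5804919a593f123324770486c1f44c91d80f1008924b55332466e966cf544c91d,
    0xfca5230e014a664c85a94ec9352958092d2b6012d4a7733a094ccca169580ea52b307d4a66665a094efd99695800896a543813d4a66665a894ee4047529da80a52b224d4a6675a94ad4ccb529d9996a533665a46c85a94cc8ccb529da6a52344a3648948c891295a76007b3501d4a67ad81eac07412999ee007b3014a4733a94ac041295ca51b307d04a765ad81ecc005295,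
    0x80ea7abe4b363a20034edb18c851daf61008ec3c661001a86e023aafd58d99100923b700112d1d964420034ef0004475d89100088d4b12d31d6627a203aef448cc75df9298d330f112467e4c234cc88f4475d96089193b012d1d678e648f154695ce80a2bf2331a664403c02243b6fcb0875990f25ab4b27e9e6e0cf451999af00a3b70e01a67a2234ae31cc9589100e98d4bdc51a563c968f044b44c765,
    0xa7100892dcb307d1325b96ec7a02790c8f4c171d983e809e43532d1325b97842278cd4ccb44f219e89e2bfe45b57f102b6cf7157d587600adbbdc2505b7794788f0800571da513c2110075b97b8a2402b72c8b084400f29e61ae2b2201d13c867fa278cd57098056e5876adabdc541566021d8402b2cf44c959b0a5233213d13c87b89c8c43d84f1dee1300abb4e201125878a24002b72ff448055d80ee2733532d013c8620948c128d,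
    0xe99ca3c0551a6798c6cadb18c699e33000d3b5c5101a76c6c6d3947d5991008d3b66001a666726f18d918910008d43e3221f66d8a80af4487d58e998d33d00121f77c02480cdb1c07d9aa8d2342211a6786728f1088469d82a8d2b110e01a7603a9eac0780699eb1ca364b360221c0350c4400e59800f00d3b123d3967a0243ecc7806958ea7a3c551a567a9e8c788b045d,
    0xeb99babc007376798c70af0401cddde39ba3c473756c706cf4048fdd88039bb373736e66e8f18e11a39ba34d123f66d8a7eaf4048fd9a80e9bb3d123f57c0247ecdb048fd9839ba330737578e66eaf0c1cdd98039bab23d37562ae6db1cdd5eb1ba365336c3a6ead910dd5b08e9bb3123d3767a647ead40474ddd9ab9bc07375602ae8d5c9,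
    0xf0092d33811d5b665b0beae3c496d9b008eadbb60f125b77d80244b10df41815b00f028adcb6f613c67990beae04757d98f4eadb39d60465a8beac7a116d9f6c80adbb6c25305b87988beae3d8119210e89e4381e0515b864d8ab0cd448f56dd91900e89e4b66c12815b96bc884b6ecb54400f21930880701a537601e34764225a60eb74d8440380d2596c21e332da5f5603d08b6ecb58c0f1d90f1828adcb50011d5b8709a264b70fc65315,
    0x9af1f2b54e3e56fc0c4ac178f95982f1f33600e3e67d80c4acccb55d987a9f2b30f53e67ac22007d0ddb1895f3001f330112d57765aae8ccb55d594789f33012d5766265aaecc44b55d9b0f001f3bf53e46c2201c7d0d78f91a7a9f2b260f13e76441d824ef178f9596b08801f4b8150464bc0027d0cfd4f95e02f1f331260f13e8625aaead593cf99f11609336100e3e77c645824ec788b049d,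
    0x8ab9b3d757561c032af0cf91aa93c1103e666a63cac04b4407a1991080c3b51202f6644832af078d899ba3120e196788443ccc786118090abb346c3757e4c6eaf8d4795aa800c3301221966cc1e230ef01cdd5c9f1b32c133e764403c05f0c3c46159082aabc2105567ba2aead844bd5a73017b3324d3767a0328e30cf959e83abb3d55102f7620aa8c154d,
    0xb62998b3d955556240aaacb58440be1b99aaab1224d2f76a65a05eec90874bdd896b017bb51e8316625b024630d0b184c5d82e3098bb51d01557633a024630d4f4048c619408e8817cb32d1102f862003c05f0dc05555eab18ab26422f66423a205f0cb60c55890800aac31e3205577aa26462eeb8155596a89918c325332f662448aaccb14cc59a8800f017cb1260556602305ecd4c81559a16b08817cb11202f668fc05ecc9085559,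
    0x8996d2fbb055c85f7790be8ccb697d9b3642fb312da5f678502becfcc157d99ea3afb325c85f67a8ebead949f028afb3e545f565a8ebecd7217d5eae272b6c85f57b4be8cf697d58f028afbb0e0515f765b4bead781457dd93642fb311dc4e66423b89cec077139989ee2733cc85f57ad89cad381457dd9ee272bdc4e47190beac771395bee272b55c85f673b89cad4771399,
    0x899120330554056804cc89015b32023122405702480ac049015893202b25404664a80ad749809320331240476806d500daa79b640364806cc9011942023328405644808c0489019932023114f464229eac053d189a7a32564056c9e6d590119a79b4f270806c53cdba79b55404729e6d453d1,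
    0x99120cb35e263c0eaecc4b655d9896babb37e001966247e32cfc48655891878cbb121e001986e1e32ac48fd180931fb347d5e56241e32cc7880065d83be42bbb5c232577758caeaf7455d5920ca33241956858caecc890655becabab1120e055875c0aaad38815598f1902abb26419568458a2af0d9065194628abbb56c1957768326e0781d5ddc60cabb3664195718a2aecc04b5d5dd,
    0x980910abc322c601378780e6eaf18040dddb32ba3122015776c03a06eec04855d98803e9bbb51d03766250aeac9c9a980e9bbb1d03756603a6ecd8474dd9f6cabab0011d3776402aeac88f40ddd83eb01bbb9857465b06eae10b4dd99300abb32362463c58caeec3f155d9b7ebabb32533d37761f842aeed400474de18076013bb3dc5157770ae6dbf155d9883123112d637769d8caecfb195d5,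
    0x8996b03381e225877850b0aca079619b187b03312d60567ab08fd80d996ac2be658473ec08d809891eac33e012258764403cb0ef0c89619ff32c2b6c265867ac06d54f5619a9eac2b6012d6076bccb0ac9539619ceb023fd60463c58cb0ec3f15619a87e12c3b532d58661f84b0cdb048961d9ee162b3dc558669ec08fb00489621f896b0331e26586621f84b0efb19615,
    0x899695336c603967820072cd8cb4e59b187953312d2a571c728fca8dbb601cb32d5339673e548ca89d0f1cab7d3395778728d70400e5d90f601cbb6c43957a546c8f4e5583e9cab6012d2a765a0072cc04b40e5dce9523fd2a47b9072ac43b00e5d96b621cbb2601e3977ad8872ce04740e5db213ed039569e548c78b40e5df8969533c83947c4d8072eff20e55,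
    0xbe30a35e6146ed8c2acb09855c730a36c6146fc0c2adb0d855e309bc361478220c2cfb01855e030a301e06167a220c2ce718519b09b0e061569c0c2ac781855e0830abc006156d84c2ad701855e130a3106146c2c28c018518b09bd161464c26f984db0931106157c0c28c184d91b0a3e66146ec26d984d,
    0x899698330112d30778606ccb4c15b36182b12d3056de608fcc0d893618337d30475c608cc09a3e982be30369c608c78c11f698236c3047a606cf4c1183e982b307d30665a608c04b4c19936182bfd3047e5a60aff0c11a76182b256c3067ad860ad5b0c159ee182bdc304603c60afb0c11f16982b112d30673b860ad7b0c15,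
    0x8996af330112d5e778bc6ccb5795b362f2b12d5e56debc8fd78d89362f337d5e475cbc8d789a3eaf2be5e369cbc8c79791f6af236c5e47abc6cf579183eaf2b307d5e665abc8c04b57999362f2bfd5e47e5abcaff1791a762f2b256c5e67ad8bcad5b17959ee2f2bdc5e4603cbcafb1791f16af2b112d5e673b8bcad7b1795])]
  lev := [c_102]
  b := 162
  B := 65536

noncomputable def G32_D : Gp where
  Ls := [0x13454, 0x11231, 0x1023432, 0x123454312, 0x12312345431, 0x10123120343, 0x10123543120, 0x1020312343123,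
    0x103123454312034, 0x10203432543120324, 0x1023204312345431234, 0x112031203454312032431, 0x143123456576543123456,
    0x10134565431765431203456, 0x1204565431237654312032456, 0x132065431234576543120324356]
  rw := (unp 9
    0x80901890192189019218aa189019218aa19032a189019218aa19032a1891a2b3b2a189019218aa19032a1891a2b3b2a189019218aa19032a1891a2b3f862648624064862a862406486aca8624064862a8640ca862468aceca8624064862a8640ca862468acf4181018901a192a189019218aa3b2a189019218aa19032a1891a2b3b2a189019218aa19032a1891a2b5062406408624068a862406486aca8624064862a8640ca862468aceca8624064862a8640ca862468acf418119021891a2a189019218aa3b2a189019218aa19032a1891a2b3b2a189019218aa19032a1891a2b50604640862468a8624064862a8ca8624064862a8640ca862468aceca8624064862a8640ca862468acf41809021891aa1891a32a189019218aa19032a1891bb2a189019218aa19032a1891bc2602406240648624064862a8624064862a8640ca8624064862a86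40ca862468acf0180901890192189019218aa189019218aa1903b2a189019218aa19032a1891a2b4060408a86246ca8624064862a8640ca86246eca8624064862a8640ca86246ef1a1891a2b2a189019218aa19032a1891a2bb2a18901921ab3b06264a86246ceca8624064862a8640ca862468aeca862468b99192a1932bb2a189019218aa19032a1891a2bb2a18901a2e64624862468a8624ca8624064862a8640caeca862468aceb9918a1891a2a1891b2a189019218aa19032bb2a1891a2b3ae60468624064862a8640eca8624064862a8640ca862468acb98a1891a2b2a189019218aa19032a1891bb2a18901922b3ae662406862468a8624eca8624064862a8640ca862468acb180901921890192a1b2a189019218aa19032a1891a2b3ac60624064862406a8624064862a864ca86240648aceca8b190189019218aa1893b2a189019218aa19032a1891a2b2c602686246a8624ca862468eca8624064862a8640ca864b181a18901921aa19032a189019218aa19032a1891a2b3ac604064086a8624064ca8624064862a8640ca862468aceb181019021aa1890193b2a189019218aa19032a1891a2b2c6026862a862468ca862468eca862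4064862a8640ca864b18092189019218aa1b2a189019218aa19032a1891a2b3ac60248624064862a86eca8624064862a8640ca862468acb180a18901921aa1b2a189019218aa19032a1891a2b3aa6040640862a8624eca8624064862a8640ca862468aca981019218aa1891bb2a189019218aa19032a1891a2b2a626240648624064a862406486a8ca86240648aceca8a989a18901a2a1b2a189019218aa19032a1891a2b3a860406240a8624eca8624064862a8640ca862468aca18919021902a1b2a189019218aa19032a1891a2b3a860640864a8624eca8624064862a8640ca862468aca181902192a18932a189019218aa19032a1891a2b3a86246246a862468ca862468aceca86246881891891a1891a2a1891a32bb2a1891a2b20628624064a862406ca862406486acec799018901a18b3b2a189019218aa1b2a1e602862406a862406ca862406486acec7981018901a1b3b2a189019218aa1b2a1e6024068a86240648ca862406486acec798992189019218b2a18901921ab3b1c604062406864ceca8624064862a8c71890190218901a32a18901921ab3b1c604640862468ceca8624064862a8c71918901b3b2a189019218aa1b2a1a6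02408624068ca862406486acec69819021891b3b2a189019218aa31a608624068a86caeca862468ac6181a18901a2a32bb2a1891a2b1862648624064862a862406486a61a1892a19032a18901921ab3b1866240862ceca8624064862a8c6180901a19032a18901921ab3b18604062406864a8624064862a861919033b2a189019218aa1b2a1862406408624068a862406486a61918901933b2a189019218aa3186028624064ca862406486acec618119021891a2a189019218aa186026862a86caeca862468ac598098a18aa32bb2a1891a2b16664a86ca8624068aceca8625992a1932a18901a2b3b2a1896640640ceca8624064862a8c598aa1891b2a18901921ab3b1662862406ca862406486acec59918901932bb2a1891a2b14602648a8caeca862468ac51809022a32bb2a1891a2b1460406408caeca862468ac518aa18b2a18901921ab3b146464a8ca862406486acec5189192b2a18901921ab3b14624a8ca86240648aceca8518189032bb2a1891a2b12640640caeca862468ac49892b2a18901921ab3b12626aca862406486acec49891891aa1891a28e64624064a862468398919218901921a8e626862406486a3181018921aa188c602686240648a3190189218aa188c62648640a21921902a188604864a86218192192a0860464a862218918a2a188628a864198a19028660462a8198118a18668a86119a2a04601)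
  rh := (unp 6
    0x3a265a265a2658ff1983b0984edfe37e30bb63fc6601dca7c85a8fa70ff19bf08425907ee5b3fedcb2077847ecc030c3f70480065e12b662b1cbdbc20067ed830ac95bfb5992f307ebbc210f578ac61dc0a34f090874421ff6e3183bb20ee57a2403d0ecb158c05dff6e2b09c3fedc2067c024d8aef4c81459ff6e2b1843c2100e67fdb8ac6032f093a059e1087b00c312230ee77fdb8ac60254fe63195e19100887ee5bc8ea47fb8ab8cf30c055e180a35613ff276858c20cd584ffd9883e42b320ff166ac61fe250eb1851b187f893b07c235603a642cd8c83fd98096283322c005645808d58c0499809337fbb012c21076c61feaec80df9900ab630125603a30ae207b801d9408232c00465806f308815e6110033f32447985102cc00499bfe180961ab2c104625820ac1f0055e6440883bcc22110087984cc02ef3198005d8096083335c047984cc0cf3198044219809b0123464cc02ad9804419b809b660115624028ccc881591002320036404c804118801b001146002244cc840d9093002602c1)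
  cod := (unp 6
    0xfcfcfcfcfcfcfcffeb8608a7084847687fc69e748e7a7a8879f5c30413e463e3541fe34f3e4139414a3efae191f209ca0a51f7f4cbcfcd560c0fcfffba7c7e7e7e7e7e7ffc8b67e7e7e7e7e7ff532e373e5235413ffed93a69aa0a0a125ff3251a24a1211da37d4a21ba39f9e2524fd50c930d4f4f5115bfa8669664847684adfc8a0966e8282847bf59284f3244413f4bfe450434535424843fae98a39e241e9c9e7f2938e92cc11910f3f9140fd2ce4f90907ee8f114e10964d0cfeba668e6e7e8e847ffdd363c423f3c4a3ffe4533c423f3c4a3ffba413a3e41593534fae98a59b22209f9f7f227259b22209f9f7d74c524d90d10fcfff9140fd10f8ed24ffe9144f9050ce51cffe9492829262827e93fdd31463943433c44fe4503b483e3e453dfae98a11fa39f9b217f2281fa11d21259ffd74ccfd08e9092cfff867c6e8e7e7e7ea3ff08e84787e7e7ea7f4d3f462d49463d43ff13c4a463f374643fa69fa29724a51e1e7f89e24a39f9da29e7d350ccd0d3cf4d4e3f9a64a66c88847287fe47c9290787a8a79f4d324f3c483e3341ff23e4d4238414b3efb13c454a3b3f4245fa699279aa69d9d1fff91f25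a11ba2259ffdc2126982124241d7dc20a7199ea5251d7d053114e10908ed0ff9a7a846684948687fe47c908a6e869089f4d324b394d3e363dfe0a71d239e9ea21e7f89e22a31f1ea3227d053104f918f8d507fc8f9112cecfd090be9a649e669284787ffc14e3e4139414a3eff842413c424e3c3afb841423f3d503e3afa39b9ea21ea0a424ff1ce0f10508fd1927fc8f9111cf8f51907e9a766e848a827c8ffcd324d3549413a43ff83d424d383f4642fb8413e44414c3939fb8413e3e4d3a3f3ffb83d44483a3f4b3dfa69c1d2121a21fa27f34d8f11cf8f51927f9a687c8e847e788ffca353e41463f3f46ff83d424b3743483ffb83d424a3a3e4941fa69a1f22221f1fa37f34d0f915050cf913f8292728a7e7e7e91fc148394b3a3f4442fe0a1251da11f9e22ff050928e5050cf90bf828a7c8a82768a7bfc142493a41463d3dfe0a29fa2209c23217f050910f91108e50bf82888476847e8c87fc144413c4243453cfe0a1a11f9ea2a39e7f0514f114f51114eff82887c8688747c8ffc1453d3f45413d42fe0a1221da3209e20ff050cf911050508eff8282868284828275fc1443e3f42424241fe0a19fa11ea22220ff0505050505050507f)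
  tw := (List.map (unp 8)
    [0x809a2b2a18bb2a18901a2b2cc8115950c48dd950c480c9159860462a8640ca862468aeca8624064862a8640cb3312320456543127654312032431567199032a1891a2bb2a18901921ab34cc48d150c81950c49d950c480c90c550d962604628624064862a8624068aceca8624064862a8640ca862469933205431203243154320654312765431203243154320654312345d189890218901a2b2bb2a189019218aa1b40cc810c48d150c81950c9d950c480c90c550c9950e862462486240a8624068aceca8624064862a864ca8635376543120324315432065431234567654312032431543206543123456e198a18902a18901a2b3b2a189019218aa1b2a48c80c480c90c550c81950c48dd950c480c90c550c81950c48f0602640862a8624068aca86eca8624064862a8640ca86363031234315432065431237654312032431543206543a98119021891a2a1891a24c048c50c815950c48dd950c480c90c550c81a4604064862a8640ca862468eca8624064862a8640ca865631203243154312034565431765431203243154320654312b99218902a18901a2b2a3b2a189019218aa1932a4cc50c8150c48d159d950c480c90c5519e64628a8640ca862468eca8624064862a864cb2315431203456543176543120324315465819018a18901a2b2a1bb2a189019218aa19344c080d0c950c480c9106468a862443012354312029811a190cd0c48d1595d950c48d159460406246862466304312034565437654312032435467180918901a194c480c480d150c480c90c54604862a8624068aca862eca8624064862a8640ca943031234543120343991891a2a1894cd150c81950c48dd950c480c90d5195e6246223345411])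
  th := (List.map (unp 6)
    [0xe8be16decc8c47451f8b011d100764ad84200254cc1474488c29aae2a30122c21100a626458420034f44004b15b29c464235100e01221a6ad8ac00ee3e211d0b5e5546447e664ed8fcc88dd9916119bb66c6467e668ccf4d18916108bb91662d8590bc16e2c8b091a8bb1711d08e05a0b00e04622c05])

private noncomputable def _root_.Cfsg.Agent.LsF.fff6a4a_0 : {f // @Cfsg.Agent.LV.W.sumLt = f} := ⟨_, by first | (delta Cfsg.Agent.LV.W.sumLt; rewrite [Cfsg.Agent.LsF.iadd_pat]; exact rfl) | exact rfl⟩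
private noncomputable def _root_.Cfsg.Agent.LsF.fff6a4a_1 : {f // @Cfsg.Agent.MO.WC.Q.eq = f} := ⟨_, by first | (delta Cfsg.Agent.MO.WC.Q.eq; rewrite [Cfsg.Agent.LsF.and_eq, Cfsg.Agent.LsF.instIDecEq_eq, Cfsg.Agent.LsF.decide_eq]; exact rfl) | exact rfl⟩
private noncomputable def _root_.Cfsg.Agent.LsF.fff6a4a_2 : {f // @Cfsg.Agent.MO.WC.nab = f} := ⟨_, by first | (delta Cfsg.Agent.MO.WC.nab; rewrite [Cfsg.Agent.LsF.natAbs_eq]; exact rfl) | exact rfl⟩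
private noncomputable def _root_.Cfsg.Agent.LsF.fff6a4a_3 : {f // @Cfsg.Agent.LV.W.allLt = f} := ⟨_, by first | (delta Cfsg.Agent.LV.W.allLt; rewrite [Cfsg.Agent.LsF.and_eq]; exact rfl) | exact rfl⟩
private noncomputable def _root_.Cfsg.Agent.LsF.fff6a4a_4 : {f // @Cfsg.Agent.LV.W.all2 = f} := ⟨_, by first | (delta Cfsg.Agent.LV.W.all2; rewrite [Cfsg.Agent.LsF.and_eq, Cfsg.Agent.LsF.isEmpty_eq]; (try delta List.casesOn); exact rfl) | exact rfl⟩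
private noncomputable def _root_.Cfsg.Agent.LsF.fff6a4a_5 : {f // @Cfsg.Agent.MO.WC.Q.add = f} := ⟨_, by first | (delta Cfsg.Agent.MO.WC.Q.add; rewrite [Cfsg.Agent.LsF.iadd_eq]; exact rfl) | exact rfl⟩
private noncomputable def _root_.Cfsg.Agent.LsF.fff6a4a_6 : {f // @Cfsg.Agent.MO.WC.Q.sm = f} := ⟨_, by first | (delta Cfsg.Agent.MO.WC.Q.sm; rewrite [Cfsg.Agent.LsF.imul_eq]; exact rfl) | exact rfl⟩
private noncomputable def _root_.Cfsg.Agent.LsF.fff6a4a_7 : {f // @Cfsg.Agent.MO.WC.Q.ax = f} := ⟨_, by first | (delta Cfsg.Agent.MO.WC.Q.ax; rewrite [Cfsg.Agent.LsF.fff6a4a_5.2, Cfsg.Agent.LsF.fff6a4a_6.2, Cfsg.Agent.LsF.cond_eq, Cfsg.Agent.LsF.instIDecEq_eq, Cfsg.Agent.LsF.decide_eq]; exact rfl) | exact rfl⟩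
private noncomputable def _root_.Cfsg.Agent.LsF.fff6a4a_8 : {f // @Cfsg.Agent.MO.WC.dotQ = f} := ⟨_, by first | (delta Cfsg.Agent.MO.WC.dotQ; rewrite [Cfsg.Agent.LsF.fff6a4a_7.2]; (try delta List.casesOn); exact rfl) | exact rfl⟩
private noncomputable def _root_.Cfsg.Agent.LsF.fff6a4a_9 : {f // @Cfsg.Agent.MO.WC.Tb.valOK = f} := ⟨_, by first | (delta Cfsg.Agent.MO.WC.Tb.valOK; rewrite [Cfsg.Agent.LsF.fff6a4a_4.2, Cfsg.Agent.LsF.fff6a4a_1.2, Cfsg.Agent.LsF.fff6a4a_8.2, Cfsg.Agent.LsF.and_eq, Cfsg.Agent.LsF.length_eq]; exact rfl) | exact rfl⟩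
private noncomputable def _root_.Cfsg.Agent.LsF.fff6a4a_10 : {f // @Cfsg.Agent.MO.WC.Tb.baseOK = f} := ⟨_, by first | (delta Cfsg.Agent.MO.WC.Tb.baseOK; rewrite [Cfsg.Agent.LsF.fff6a4a_0.2, Cfsg.Agent.LsF.fff6a4a_1.2, Cfsg.Agent.LsF.fff6a4a_2.2, Cfsg.Agent.LsF.fff6a4a_3.2, Cfsg.Agent.LsF.fff6a4a_9.2, Cfsg.Agent.LsF.nsub_pat, Cfsg.Agent.LsF.icast_pat, Cfsg.Agent.LsF.and_eq, Cfsg.Agent.LsF.all_eq, Cfsg.Agent.LsF.map_eq, Cfsg.Agent.LsF.replicate_eq, Cfsg.Agent.LsF.instIDecEq_eq, Cfsg.Agent.LsF.idecLt_eq, Cfsg.Agent.LsF.length_eq, Cfsg.Agent.LsF.decide_eq]; exact rfl) | exact rfl⟩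
private noncomputable def _root_.Cfsg.Agent.LsF.fff6a4a_12 : {f // @Cfsg.Agent.MO.WC.G32_T = f} := ⟨_, by first | (delta Cfsg.Agent.MO.WC.G32_T; rewrite [Cfsg.Agent.LsF.map_eq]; exact rfl) | exact rfl⟩
theorem G32_a1 : G32_T.baseOK = true := by ((try (rewrite [Cfsg.Agent.LsF.fff6a4a_10.2, Cfsg.Agent.LsF.fff6a4a_12.2])); decide +kernel)

private noncomputable def _root_.Cfsg.Agent.LsF.fff6a4a_13 : {f // @Cfsg.Agent.LV.W.sumAbs = f} := ⟨_, by first | (delta Cfsg.Agent.LV.W.sumAbs; rewrite [Cfsg.Agent.LsF.natAbs_eq]; exact rfl) | exact rfl⟩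
private noncomputable def _root_.Cfsg.Agent.LsF.fff6a4a_14 : {f // @Cfsg.Agent.MO.WC.sum2 = f} := ⟨_, by first | (delta Cfsg.Agent.MO.WC.sum2; rewrite [Cfsg.Agent.LsF.iadd_eq, Cfsg.Agent.LsF.imul_eq]; (try delta List.casesOn); exact rfl) | exact rfl⟩
private noncomputable def _root_.Cfsg.Agent.LsF.fff6a4a_15 : {f // @Cfsg.Agent.LV.W.pkz = f} := ⟨_, by first | (delta Cfsg.Agent.LV.W.pkz; rewrite [Cfsg.Agent.LsF.iadd_pat, Cfsg.Agent.LsF.imul_pat]; exact rfl) | exact rfl⟩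
private noncomputable def _root_.Cfsg.Agent.LsF.fff6a4a_16 : {f // @Cfsg.Agent.MO.WC.Tb.massOK = f} := ⟨_, by first | (delta Cfsg.Agent.MO.WC.Tb.massOK; rewrite [Cfsg.Agent.LsF.fff6a4a_13.2, Cfsg.Agent.LsF.fff6a4a_14.2, Cfsg.Agent.LsF.fff6a4a_15.2, Cfsg.Agent.LsF.imul_pat, Cfsg.Agent.LsF.icast_pat, Cfsg.Agent.LsF.and_eq, Cfsg.Agent.LsF.all_eq, Cfsg.Agent.LsF.instIDecEq_eq, Cfsg.Agent.LsF.length_eq, Cfsg.Agent.LsF.decide_eq]; exact rfl) | exact rfl⟩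
theorem G32_a2 : G32_T.massOK = true := by ((try (rewrite [Cfsg.Agent.LsF.fff6a4a_16.2, Cfsg.Agent.LsF.fff6a4a_12.2])); decide +kernel)

private noncomputable def _root_.Cfsg.Agent.LsF.fff6a4a_17 : {f // @Cfsg.Agent.MO.WC.addZ = f} := ⟨_, by first | (delta Cfsg.Agent.MO.WC.addZ; rewrite [Cfsg.Agent.LsF.iadd_eq, Cfsg.Agent.LsF.imul_eq]; (try delta List.casesOn); exact rfl) | exact rfl⟩
private noncomputable def _root_.Cfsg.Agent.LsF.fff6a4a_18 : {f // @Cfsg.Agent.MO.WC.accZ = f} := ⟨_, by first | (delta Cfsg.Agent.MO.WC.accZ; rewrite [Cfsg.Agent.LsF.fff6a4a_17.2]; (try delta List.casesOn); exact rfl) | exact rfl⟩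
private noncomputable def _root_.Cfsg.Agent.LsF.fff6a4a_19 : {f // @Cfsg.Agent.MO.WC.Fd.nq = f} := ⟨_, by first | (delta Cfsg.Agent.MO.WC.Fd.nq; rewrite [Cfsg.Agent.LsF.fff6a4a_5.2, Cfsg.Agent.LsF.fff6a4a_6.2, Cfsg.Agent.LsF.iadd_eq, Cfsg.Agent.LsF.imul_eq]; exact rfl) | exact rfl⟩
private noncomputable def _root_.Cfsg.Agent.LsF.fff6a4a_20 : {f // @Cfsg.Agent.MO.WC.Tb.nrmOK = f} := ⟨_, by first | (delta Cfsg.Agent.MO.WC.Tb.nrmOK; rewrite [Cfsg.Agent.LsF.fff6a4a_3.2, Cfsg.Agent.LsF.fff6a4a_18.2, Cfsg.Agent.LsF.fff6a4a_19.2, Cfsg.Agent.LsF.icast_pat, Cfsg.Agent.LsF.instIDecEq_eq, Cfsg.Agent.LsF.decide_eq]; exact rfl) | exact rfl⟩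
theorem G32_a3 : G32_T.nrmOK = true := by ((try (rewrite [Cfsg.Agent.LsF.fff6a4a_20.2, Cfsg.Agent.LsF.fff6a4a_12.2])); decide +kernel)

theorem G32_h1 : (G32_T.baseOK && G32_T.massOK && G32_T.nrmOK) = true := by rw [G32_a1, G32_a2, G32_a3]; rfl

theorem G32_h3 : G32_D.baseOK E8.toTy G32_T (unz 2 0x2a8000) = true := by decide +kernel

theorem G32_r17 : G32_D.Rw E8.toTy G32_T 0 17 := Gp.Rw.zero.step 17 (by decide +kernel)

theorem G32_r34 : G32_D.Rw E8.toTy G32_T 0 34 := G32_r17.step 17 (by decide +kernel)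

theorem G32_r51 : G32_D.Rw E8.toTy G32_T 0 51 := G32_r34.step 17 (by decide +kernel)

theorem G32_r68 : G32_D.Rw E8.toTy G32_T 0 68 := G32_r51.step 17 (by decide +kernel)

private noncomputable def _root_.Cfsg.Agent.LsF.fff6a4a_36 : {f // @Cfsg.Agent.MO.WC.runM = f} := ⟨_, by first | (delta Cfsg.Agent.MO.WC.runM; rewrite [Cfsg.Agent.LsF.cond_eq]; exact rfl) | exact rfl⟩
private noncomputable def _root_.Cfsg.Agent.LsF.fff6a4a_29 : {f // @Cfsg.Agent.MO.WT.st' = f} := ⟨_, by first | (delta Cfsg.Agent.MO.WT.st'; rewrite [Cfsg.Agent.LsF.cond_eq]; exact rfl) | exact rfl⟩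
private noncomputable def _root_.Cfsg.Agent.LsF.fff6a4a_22 : {f // @Cfsg.Agent.LV.W.runF = f} := ⟨_, by first | (delta Cfsg.Agent.LV.W.runF; rewrite [Cfsg.Agent.LsF.cond_eq]; exact rfl) | exact rfl⟩
private noncomputable def _root_.Cfsg.Agent.LsF.fff6a4a_23 : {f // @Cfsg.Agent.LV.W.run = f} := ⟨_, by first | (delta Cfsg.Agent.LV.W.run; rewrite [Cfsg.Agent.LsF.fff6a4a_22.2]; exact rfl) | exact rfl⟩
private noncomputable def _root_.Cfsg.Agent.LsF.fff6a4a_37 : {f // @Cfsg.Agent.MO.WC.mat = f} := ⟨_, by first | (delta Cfsg.Agent.MO.WC.mat; rewrite [Cfsg.Agent.LsF.fff6a4a_29.2, Cfsg.Agent.LsF.fff6a4a_23.2, Cfsg.Agent.LsF.map_eq, Cfsg.Agent.LsF.range_eq, Cfsg.Agent.LsF.sum_eq]; exact rfl) | exact rfl⟩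
private noncomputable def _root_.Cfsg.Agent.LsF.fff6a4a_38 : {f // @Cfsg.Agent.MO.WC.Gp.cjM = f} := ⟨_, by first | (delta Cfsg.Agent.MO.WC.Gp.cjM; rewrite [Cfsg.Agent.LsF.fff6a4a_36.2, Cfsg.Agent.LsF.fff6a4a_37.2, Cfsg.Agent.LsF.and_eq, Cfsg.Agent.LsF.map_eq]; exact rfl) | exact rfl⟩
private noncomputable def _root_.Cfsg.Agent.LsF.fff6a4a_39 : {f // @Cfsg.Agent.MO.WC.Gp.row1 = f} := ⟨_, by first | (delta Cfsg.Agent.MO.WC.Gp.row1; rewrite [Cfsg.Agent.LsF.fff6a4a_4.2, Cfsg.Agent.LsF.fff6a4a_38.2, Cfsg.Agent.LsF.fff6a4a_37.2]; exact rfl) | exact rfl⟩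
private noncomputable def _root_.Cfsg.Agent.LsF.fff6a4a_40 : {f // @Cfsg.Agent.MO.WC.Gp.rowOK = f} := ⟨_, by first | (delta Cfsg.Agent.MO.WC.Gp.rowOK; rewrite [Cfsg.Agent.LsF.fff6a4a_3.2, Cfsg.Agent.LsF.fff6a4a_39.2, Cfsg.Agent.LsF.nadd_pat]; exact rfl) | exact rfl⟩
private noncomputable def _root_.Cfsg.Agent.LsF.fff6a4a_32 : {f // @Cfsg.Agent.MO.WC.G32_D = f} := ⟨_, by first | (delta Cfsg.Agent.MO.WC.G32_D; rewrite [Cfsg.Agent.LsF.map_eq]; exact rfl) | exact rfl⟩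
private noncomputable def _root_.Cfsg.Agent.LsF.fff6a4a_33 : {f // @Cfsg.Agent.LV.W.dz = f} := ⟨_, by first | (delta Cfsg.Agent.LV.W.dz; rewrite [Cfsg.Agent.LsF.cond_eq]; exact rfl) | exact rfl⟩
private noncomputable def _root_.Cfsg.Agent.LsF.fff6a4a_34 : {f // @Cfsg.Agent.LV.W.unz = f} := ⟨_, by first | (delta Cfsg.Agent.LV.W.unz; rewrite [Cfsg.Agent.LsF.fff6a4a_33.2, Cfsg.Agent.LsF.map_eq]; exact rfl) | exact rfl⟩
private noncomputable def _root_.Cfsg.Agent.LsF.fff6a4a_35 : {f // @Cfsg.Agent.LV.W.E8 = f} := ⟨_, by first | (delta Cfsg.Agent.LV.W.E8; rewrite [Cfsg.Agent.LsF.fff6a4a_34.2, Cfsg.Agent.LsF.ineg_pat, Cfsg.Agent.LsF.map_eq]; exact rfl) | exact rfl⟩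
theorem G32_r85 : G32_D.Rw E8.toTy G32_T 0 85 := G32_r68.step 17 (by ((try (rewrite [Cfsg.Agent.LsF.fff6a4a_40.2, Cfsg.Agent.LsF.fff6a4a_32.2, Cfsg.Agent.LsF.fff6a4a_35.2, Cfsg.Agent.LsF.fff6a4a_12.2])); decide +kernel))

theorem G32_r102 : G32_D.Rw E8.toTy G32_T 0 102 := G32_r85.step 17 (by ((try (rewrite [Cfsg.Agent.LsF.fff6a4a_40.2, Cfsg.Agent.LsF.fff6a4a_32.2, Cfsg.Agent.LsF.fff6a4a_35.2, Cfsg.Agent.LsF.fff6a4a_12.2])); decide +kernel))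

end Cfsg.Agent.MO.WC
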