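import Cfsg.Agent.LV.Cl.Conj_m3
import Cfsg.Agent.MQ.WC.D8b
import Cfsg.Agent.MQ.WC.D8c
import Cfsg.Agent.Lib.ListFast
import Cfsg.Agent.Prune
set_option linter.all false
prune_inst 0x7f00000000000000000000000000000000000000000000000000000000000000000000000000000000000000000000000000000000000000000000000000000000000000000000000000000000000000003fffffffffffffffffffffffffffbeffbdffffffff
open scoped Cfsg.Agent.FastGrp

-- part: MO/WC/D4
section
/-! MO/WC: generated data (helper27; tools/P3/h27/gen.py) -/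

set_option autoImplicit false
set_option maxRecDepth 100000

namespace Cfsg.Agent.MO.WC

open Cfsg.Agent.LV.W Cfsg.Agent.MO.WT

noncomputable def WF4_T : Tb where
  f := F12
  K := 25
  nu := 1152
  n := (unz 4 0x2281a43e1603c07c2e1606904c8448448d81181181181181121e42203c07c2e162)
  XC := (List.map (q1 3) [0x20d8b2b2b2b2b0b0b0b0b9324489122448e38e394a52, 0x19e75d7100ec08e31ad4606a5332,
    0x19d79d62276008f423d08f426532, 0x680004733181296a528e66394a52, 0x680004c71c81296a5298e3994a52,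
    0x253320008f400000026652, 0x94cc800351c7a1a8c0026652, 0x480902644a5204a5332, 0x48120252133204a5332,
    0x948026426426426532, 0x990025225226426532, 0x24000001320480999994a52, 0x77294a4001ad011008e38e394a52,
    0x265320000000008f426532, 0x26652000000004606a5332, 0x132948000000000026652, 0x11d6001ad6b59e71c728e3999994a52,
    0x19e75d7d81100d68471c606a5332, 0x19d79d63b8800d4635188f426532, 0x8c0004b5a90133a9998e3994a52,
    0x8c0006a52d0133a998e66394a52, 0x22575d75800471811008e38e394a52, 0x94cc800351ea311e80026652,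
    0xd560011c71c79e7ad4b5a999994a52, 0x1fb8b2b2b2b2bf3e7cf993277dc4efb8e38e394a52])
  rows := [(List.map (unp 5) [0xf300c782031e00b6c02dc00b7402df00b7602da00b6e02d880b6029,
    0x88601d7ea071aa0646818da10646a0071a81b6606d81a660071801b6009,
    0xa602c7820b1e02b68a0d1a1903566400d5990346a0cda02b6a00d1882b60a9,
    0xfa80757701d1d8a8756e1cd9387464021d5907361c980a6021d1a00b6202d,
    0x841883e70620f5c1880466ca8115c1a0456010d842646111884364601158084460e9,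
    0x88604d698131a8936861b1b206c6640155990546a14d84a6a0151804b6049,
    0xc9086d7462155d053662151d008557401519086c6a04dc0136149808546014d,
    0x80bb62e99909c62699189c6016d85a6461718805c7416da05b6089,
    0xc9089d6ac17191885d7226175c08361698227408d88236622118085c6016d,
    0xc8b36c82d1988b462601f59887c6c81f19187c661ed82a60261f5a02b620ad,
    0xf9007d6ac021f9b9007d6ea0b1a19087e64021f59907c6a0ad8803460c9a282c600cd,
    0xcc03c7560f1d03b68e0f19c0045610983a7c10d88044724111a03b6010d,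
    0xc88b741cdd087461c9e10747401d188a6802dd80b621cdb873601cd,
    0x8d8b462a1f1d087c61e9f87b6a201f5b202c6420d19a02c6e01f1b87b601ed,
    0xf8a36c28d900ac618988ab7228d80a36069981b626071b81b6018d,
    0xb0504d62613199486d61a9f86b7c61318d9055646151984b7646155b91855601ad,
    0x8098457161119498456652115c843684111e00447e6111c008456a81119a044626111,
    0x8c26028d880a46c28dc0a37428d8626418da8636e28d88a36289,
    0xa10b46422d190b36a0ad990b46e42d1d90b468a0b1da82c62a0b1ba82c6ca0b1,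
    0x8d83c68e0f199783d60e9f83b7ce0f1d583c6522115d83b7420115b83b6ca8115,
    0x808b78823180a8756141d1839075601cdd00746e401d58a80756401d1a80746229,
    0xaa0747c21d1900747e401d59e874621cd80a87576c41d5c008757401d1a500756ca1d1,
    0xab04c7c613190937e4251d886c626131c84b7c26135c484c752131e8984d6c4681b9,
    0xc1883d60e9a1303d7560f1ba03c6da0f1a383c7c20f1dd03c7380f1eb03c610620f9,
    0x88a6022da08b7c22dd88b6c0231c88b7a22dac88c700231e008c788231]), (List.map (unp 5)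
    [0xeb8147e6051f8137604de8137204db8137004db0136a04d98136049,
    0xaf82c7e60b1f82b6a80d1a0336840d1a880356200d19080356a0ad982b60a9,
    0xe2024665e095a28646a0191a10246808da86364209188236408d8226009,
    0x958984e7626135ba285576264159808546402155d8a8556614d91854614990536129,
    0xb11a06e6dc1b1e206c66401b5806b60c1b19086c61a9b06b6604d8126a04d,
    0xaf83c665e0f5a08b6a01d1a10446810da873642011588044640ed83a6029,
    0xd008757246115c89845724111808747210d918447602d898446802d90436109,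
    0x8b26462d1990b466401f5807b6c1ed9907c61e99187c660ad82a6a0ad,
    0xaa07c74681f5883907e64021f580a87d6c81f1aa02c6c80b199034640cda02b60c9,
    0x988bc742ed88a36828dc85b60217180a36a16d8805c6416d85a6069,
    0xf080a57462175a385c662211c81b60261759185c6606d80836069905b6169,
    0xab04c756131cc04c740151c84b7a14da84b6364155990546414d84a6149,
    0xd0937261b1c86b7221b18927e01b1986b6a04d86a7004d886b6c1ad,
    0xd089c6c2adc89b6a227189a6022b19082460898626e08da8636c08d,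
    0xab0b4701edb007c60ca1f5b282c7e01f1987b6a0ad87a6200d1a87b6461f1,
    0xb683c701cdb03b6180f1b2a0457c81d190804560e98726e02115a8736a20115,
    0x840547cc15183908566841519900556014de00547062155d0085572e4155a5005572264159,
    0xd90b47c2cdb20b46682d1a10b4682cda02b6a80b19a02c7080b1b202c6e80b1,
    0x8c26626d89a6226d8626c26da09b6018dc89b6818da89b646271,
    0xf90946861b18927121b186a6c01b1e006c601adc86b761ada8936561b1,
    0x83284d61061358604c6012da804c660131e004c70e131d304c6940155c89905672e4155,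
    0x99006d7c1adb686c6c1adab006d7621b194886d7e41b1b11a06e64e201b98806c7221b1,
    0x83a7c22daf83c700edcc03c6ca1d1e83b6da0f19e87463c20f5a08b7e40f1,
    0x8984c7412dba84c716131cd04c6dc6135a284c7c6131d84b7706135a604c7ea131,
    0x8926424da8937024dd0936e4251e8937c24dd9094694251f90947ea251])]
  lev := (List.map (q1 3) [0x112277de402e019320b973140bdc5bdbdc5, 0x113b89d8c9700192e0c97062de8bdc5bdc5])
  b := 16
  B := 1024

noncomputable def WF4_D : Gp where
  Ls := [0x13, 0x12, 0x10, 0x11, 0x1232, 0x1010, 0x1212, 0x1121, 0x102102, 0x132123, 0x101210, 0x112321, 0x11021021,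
    0x10321023, 0x10123210, 0x12123212]
  rw := (unp 7
    0x808108109190810919081091e18090810919081091c18090819081091939808119081099318081908109299091908109a9890919091a580810810925819081092190810999890919590810958909118091918918d8118d8090d8098d890981898089918980598581)
  rh := (unp 5
    0x3df40e39d7918867cc46039f380c618431f91847e60de10b610631b11846e20db11b6e29918846620d90836462d9183662990264698826458161)
  cod := (unp 5
    0x3f3f3f3ff4a39413effe888271ee52cf4f3db249f9ffbf3b4147f7e7e7e8fe947e7e7ffd91508ffd24e9050ff14f8fd17f24ed050bf14fcfd13f051104f3f0510f513f04f910fff090d04f7ffa2209f7a1219f21fff42423ff4143413efc13e4341fc141423fffe848283e82828283f)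
  tw := (List.map (unp 6)
    [0x990810919081091fb2102123210212d6204246420436c848c849d8109190814b01232107602420ac484d90b12321564646cc5,
    0x8090819081099087b1210321021321d6420642042656c40c84084e599091ab0321023762042042ec848d810812b1160206c05])
  th := (List.map (unp 4) [0xcd4edb9b6bebbf58f0ef974b758aed68b05, 0xd4d6df5f6989b0c0dcaf578b65c2cd6ab25])

private noncomputable def _root_.Cfsg.Agent.LsF.f1cbd8b_0 : {f // @Cfsg.Agent.LV.W.sumLt = f} := ⟨_, by first | (delta Cfsg.Agent.LV.W.sumLt; rewrite [Cfsg.Agent.LsF.iadd_pat]; exact rfl) | exact rfl⟩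
private noncomputable def _root_.Cfsg.Agent.LsF.f1cbd8b_1 : {f // @Cfsg.Agent.MO.WC.Q.eq = f} := ⟨_, by first | (delta Cfsg.Agent.MO.WC.Q.eq; rewrite [Cfsg.Agent.LsF.and_eq, Cfsg.Agent.LsF.instIDecEq_eq, Cfsg.Agent.LsF.decide_eq]; exact rfl) | exact rfl⟩
private noncomputable def _root_.Cfsg.Agent.LsF.f1cbd8b_2 : {f // @Cfsg.Agent.MO.WC.nab = f} := ⟨_, by first | (delta Cfsg.Agent.MO.WC.nab; rewrite [Cfsg.Agent.LsF.natAbs_eq]; exact rfl) | exact rfl⟩
private noncomputable def _root_.Cfsg.Agent.LsF.f1cbd8b_3 : {f // @Cfsg.Agent.LV.W.allLt = f} := ⟨_, by first | (delta Cfsg.Agent.LV.W.allLt; rewrite [Cfsg.Agent.LsF.and_eq]; exact rfl) | exact rfl⟩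
private noncomputable def _root_.Cfsg.Agent.LsF.f1cbd8b_4 : {f // @Cfsg.Agent.LV.W.all2 = f} := ⟨_, by first | (delta Cfsg.Agent.LV.W.all2; rewrite [Cfsg.Agent.LsF.and_eq, Cfsg.Agent.LsF.isEmpty_eq]; (try delta List.casesOn); exact rfl) | exact rfl⟩
private noncomputable def _root_.Cfsg.Agent.LsF.f1cbd8b_5 : {f // @Cfsg.Agent.MO.WC.Q.add = f} := ⟨_, by first | (delta Cfsg.Agent.MO.WC.Q.add; rewrite [Cfsg.Agent.LsF.iadd_eq]; exact rfl) | exact rfl⟩
private noncomputable def _root_.Cfsg.Agent.LsF.f1cbd8b_6 : {f // @Cfsg.Agent.MO.WC.Q.sm = f} := ⟨_, by first | (delta Cfsg.Agent.MO.WC.Q.sm; rewrite [Cfsg.Agent.LsF.imul_eq]; exact rfl) | exact rfl⟩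
private noncomputable def _root_.Cfsg.Agent.LsF.f1cbd8b_7 : {f // @Cfsg.Agent.MO.WC.Q.ax = f} := ⟨_, by first | (delta Cfsg.Agent.MO.WC.Q.ax; rewrite [Cfsg.Agent.LsF.f1cbd8b_5.2, Cfsg.Agent.LsF.f1cbd8b_6.2, Cfsg.Agent.LsF.cond_eq, Cfsg.Agent.LsF.instIDecEq_eq, Cfsg.Agent.LsF.decide_eq]; exact rfl) | exact rfl⟩
private noncomputable def _root_.Cfsg.Agent.LsF.f1cbd8b_8 : {f // @Cfsg.Agent.MO.WC.dotQ = f} := ⟨_, by first | (delta Cfsg.Agent.MO.WC.dotQ; rewrite [Cfsg.Agent.LsF.f1cbd8b_7.2]; (try delta List.casesOn); exact rfl) | exact rfl⟩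
private noncomputable def _root_.Cfsg.Agent.LsF.f1cbd8b_9 : {f // @Cfsg.Agent.MO.WC.Tb.valOK = f} := ⟨_, by first | (delta Cfsg.Agent.MO.WC.Tb.valOK; rewrite [Cfsg.Agent.LsF.f1cbd8b_4.2, Cfsg.Agent.LsF.f1cbd8b_1.2, Cfsg.Agent.LsF.f1cbd8b_8.2, Cfsg.Agent.LsF.and_eq, Cfsg.Agent.LsF.length_eq]; exact rfl) | exact rfl⟩
private noncomputable def _root_.Cfsg.Agent.LsF.f1cbd8b_10 : {f // @Cfsg.Agent.MO.WC.Tb.baseOK = f} := ⟨_, by first | (delta Cfsg.Agent.MO.WC.Tb.baseOK; rewrite [Cfsg.Agent.LsF.f1cbd8b_0.2, Cfsg.Agent.LsF.f1cbd8b_1.2, Cfsg.Agent.LsF.f1cbd8b_2.2, Cfsg.Agent.LsF.f1cbd8b_3.2, Cfsg.Agent.LsF.f1cbd8b_9.2, Cfsg.Agent.LsF.nsub_pat, Cfsg.Agent.LsF.icast_pat, Cfsg.Agent.LsF.and_eq, Cfsg.Agent.LsF.all_eq, Cfsg.Agent.LsF.map_eq, Cfsg.Agent.LsF.replicate_eq, Cfsg.Agent.LsF.instIDecEq_eq, Cfsg.Agent.LsF.idecLt_eq, Cfsg.Agent.LsF.length_eq, Cfsg.Agent.LsF.decide_eq]; exact rfl) | exact rfl⟩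
private noncomputable def _root_.Cfsg.Agent.LsF.f1cbd8b_11 : {f // @Cfsg.Agent.LV.W.sumAbs = f} := ⟨_, by first | (delta Cfsg.Agent.LV.W.sumAbs; rewrite [Cfsg.Agent.LsF.natAbs_eq]; exact rfl) | exact rfl⟩
private noncomputable def _root_.Cfsg.Agent.LsF.f1cbd8b_12 : {f // @Cfsg.Agent.MO.WC.sum2 = f} := ⟨_, by first | (delta Cfsg.Agent.MO.WC.sum2; rewrite [Cfsg.Agent.LsF.iadd_eq, Cfsg.Agent.LsF.imul_eq]; (try delta List.casesOn); exact rfl) | exact rfl⟩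
private noncomputable def _root_.Cfsg.Agent.LsF.f1cbd8b_13 : {f // @Cfsg.Agent.LV.W.pkz = f} := ⟨_, by first | (delta Cfsg.Agent.LV.W.pkz; rewrite [Cfsg.Agent.LsF.iadd_pat, Cfsg.Agent.LsF.imul_pat]; exact rfl) | exact rfl⟩
private noncomputable def _root_.Cfsg.Agent.LsF.f1cbd8b_14 : {f // @Cfsg.Agent.MO.WC.Tb.massOK = f} := ⟨_, by first | (delta Cfsg.Agent.MO.WC.Tb.massOK; rewrite [Cfsg.Agent.LsF.f1cbd8b_11.2, Cfsg.Agent.LsF.f1cbd8b_12.2, Cfsg.Agent.LsF.f1cbd8b_13.2, Cfsg.Agent.LsF.imul_pat, Cfsg.Agent.LsF.icast_pat, Cfsg.Agent.LsF.and_eq, Cfsg.Agent.LsF.all_eq, Cfsg.Agent.LsF.instIDecEq_eq, Cfsg.Agent.LsF.length_eq, Cfsg.Agent.LsF.decide_eq]; exact rfl) | exact rfl⟩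
private noncomputable def _root_.Cfsg.Agent.LsF.f1cbd8b_15 : {f // @Cfsg.Agent.MO.WC.addZ = f} := ⟨_, by first | (delta Cfsg.Agent.MO.WC.addZ; rewrite [Cfsg.Agent.LsF.iadd_eq, Cfsg.Agent.LsF.imul_eq]; (try delta List.casesOn); exact rfl) | exact rfl⟩
private noncomputable def _root_.Cfsg.Agent.LsF.f1cbd8b_16 : {f // @Cfsg.Agent.MO.WC.accZ = f} := ⟨_, by first | (delta Cfsg.Agent.MO.WC.accZ; rewrite [Cfsg.Agent.LsF.f1cbd8b_15.2]; (try delta List.casesOn); exact rfl) | exact rfl⟩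
private noncomputable def _root_.Cfsg.Agent.LsF.f1cbd8b_17 : {f // @Cfsg.Agent.MO.WC.Fd.nq = f} := ⟨_, by first | (delta Cfsg.Agent.MO.WC.Fd.nq; rewrite [Cfsg.Agent.LsF.f1cbd8b_5.2, Cfsg.Agent.LsF.f1cbd8b_6.2, Cfsg.Agent.LsF.iadd_eq, Cfsg.Agent.LsF.imul_eq]; exact rfl) | exact rfl⟩
private noncomputable def _root_.Cfsg.Agent.LsF.f1cbd8b_18 : {f // @Cfsg.Agent.MO.WC.Tb.nrmOK = f} := ⟨_, by first | (delta Cfsg.Agent.MO.WC.Tb.nrmOK; rewrite [Cfsg.Agent.LsF.f1cbd8b_3.2, Cfsg.Agent.LsF.f1cbd8b_16.2, Cfsg.Agent.LsF.f1cbd8b_17.2, Cfsg.Agent.LsF.icast_pat, Cfsg.Agent.LsF.instIDecEq_eq, Cfsg.Agent.LsF.decide_eq]; exact rfl) | exact rfl⟩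
private noncomputable def _root_.Cfsg.Agent.LsF.f1cbd8b_19 : {f // @Cfsg.Agent.MO.WC.sab = f} := ⟨_, by first | (delta Cfsg.Agent.MO.WC.sab; rewrite [Cfsg.Agent.LsF.f1cbd8b_2.2]; exact rfl) | exact rfl⟩
private noncomputable def _root_.Cfsg.Agent.LsF.f1cbd8b_20 : {f // @Cfsg.Agent.MO.WC.dotS = f} := ⟨_, by first | (delta Cfsg.Agent.MO.WC.dotS; rewrite [Cfsg.Agent.LsF.cond_eq, Cfsg.Agent.LsF.iadd_eq, Cfsg.Agent.LsF.imul_eq, Cfsg.Agent.LsF.instIDecEq_eq, Cfsg.Agent.LsF.decide_eq]; (try delta List.casesOn); exact rfl) | exact rfl⟩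
private noncomputable def _root_.Cfsg.Agent.LsF.f1cbd8b_21 : {f // @Cfsg.Agent.MO.WC.zpk = f} := ⟨_, by first | (delta Cfsg.Agent.MO.WC.zpk; rewrite [Cfsg.Agent.LsF.map_eq, Cfsg.Agent.LsF.iadd_eq, Cfsg.Agent.LsF.imul_eq]; (try delta List.casesOn); exact rfl) | exact rfl⟩
private noncomputable def _root_.Cfsg.Agent.LsF.f1cbd8b_22 : {f // @Cfsg.Agent.MO.WC.pkR = f} := ⟨_, by first | (delta Cfsg.Agent.MO.WC.pkR; rewrite [Cfsg.Agent.LsF.f1cbd8b_21.2]; exact rfl) | exact rfl⟩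
private noncomputable def _root_.Cfsg.Agent.LsF.f1cbd8b_23 : {f // @Cfsg.Agent.MO.WC.en = f} := ⟨_, by first | (delta Cfsg.Agent.MO.WC.en; rewrite [Cfsg.Agent.LsF.iadd_eq, Cfsg.Agent.LsF.imul_eq]; exact rfl) | exact rfl⟩
private noncomputable def _root_.Cfsg.Agent.LsF.f1cbd8b_24 : {f // @Cfsg.Agent.MO.WC.pkE = f} := ⟨_, by first | (delta Cfsg.Agent.MO.WC.pkE; rewrite [Cfsg.Agent.LsF.iadd_eq, Cfsg.Agent.LsF.imul_eq]; exact rfl) | exact rfl⟩
private noncomputable def _root_.Cfsg.Agent.LsF.f1cbd8b_25 : {f // @Cfsg.Agent.MO.WC.Tb.valF = f} := ⟨_, by first | (delta Cfsg.Agent.MO.WC.Tb.valF; rewrite [Cfsg.Agent.LsF.f1cbd8b_11.2, Cfsg.Agent.LsF.f1cbd8b_19.2, Cfsg.Agent.LsF.f1cbd8b_20.2, Cfsg.Agent.LsF.f1cbd8b_22.2, Cfsg.Agent.LsF.f1cbd8b_23.2, Cfsg.Agent.LsF.f1cbd8b_24.2, Cfsg.Agent.LsF.and_eq, Cfsg.Agent.LsF.instIDecEq_eq, Cfsg.Agent.LsF.length_eq, Cfsg.Agent.LsF.decide_eq]; exact rfl) | exact rfl⟩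
private noncomputable def _root_.Cfsg.Agent.LsF.f1cbd8b_26 : {f // @Cfsg.Agent.MO.WC.Q.mul' = f} := ⟨_, by first | (delta Cfsg.Agent.MO.WC.Q.mul'; rewrite [Cfsg.Agent.LsF.f1cbd8b_7.2]; exact rfl) | exact rfl⟩
private noncomputable def _root_.Cfsg.Agent.LsF.f1cbd8b_27 : {f // @Cfsg.Agent.MO.WC.Q.mx = f} := ⟨_, by first | (delta Cfsg.Agent.MO.WC.Q.mx; rewrite [Cfsg.Agent.LsF.iadd_eq, Cfsg.Agent.LsF.imul_eq]; exact rfl) | exact rfl⟩
private noncomputable def _root_.Cfsg.Agent.LsF.f1cbd8b_28 : {f // @Cfsg.Agent.MO.WC.Q.pw = f} := ⟨_, by first | (delta Cfsg.Agent.MO.WC.Q.pw; rewrite [Cfsg.Agent.LsF.f1cbd8b_27.2]; exact rfl) | exact rfl⟩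
private noncomputable def _root_.Cfsg.Agent.LsF.f1cbd8b_29 : {f // @Cfsg.Agent.LV.W.dotP = f} := ⟨_, by first | (delta Cfsg.Agent.LV.W.dotP; rewrite [Cfsg.Agent.LsF.iadd_pat, Cfsg.Agent.LsF.imul_pat]; exact rfl) | exact rfl⟩
private noncomputable def _root_.Cfsg.Agent.LsF.f1cbd8b_30 : {f // @Cfsg.Agent.MO.WC.same = f} := ⟨_, by first | (delta Cfsg.Agent.MO.WC.same; rewrite [Cfsg.Agent.LsF.f1cbd8b_3.2, Cfsg.Agent.LsF.f1cbd8b_1.2, Cfsg.Agent.LsF.length_eq]; exact rfl) | exact rfl⟩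
private noncomputable def _root_.Cfsg.Agent.LsF.f1cbd8b_31 : {f // @Cfsg.Agent.MO.WC.unitF = f} := ⟨_, by first | (delta Cfsg.Agent.MO.WC.unitF; rewrite [Cfsg.Agent.LsF.f1cbd8b_3.2, Cfsg.Agent.LsF.f1cbd8b_29.2, Cfsg.Agent.LsF.f1cbd8b_30.2, Cfsg.Agent.LsF.and_eq, Cfsg.Agent.LsF.or_eq, Cfsg.Agent.LsF.not_eq, Cfsg.Agent.LsF.cond_eq, Cfsg.Agent.LsF.all_eq, Cfsg.Agent.LsF.instIDecEq_eq, Cfsg.Agent.LsF.length_eq, Cfsg.Agent.LsF.decide_eq]; exact rfl) | exact rfl⟩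
private noncomputable def _root_.Cfsg.Agent.LsF.f1cbd8b_32 : {f // @Cfsg.Agent.MO.WC.go = f} := ⟨_, by first | (delta Cfsg.Agent.MO.WC.go; rewrite [Cfsg.Agent.LsF.f1cbd8b_3.2, Cfsg.Agent.LsF.f1cbd8b_25.2, Cfsg.Agent.LsF.f1cbd8b_26.2, Cfsg.Agent.LsF.f1cbd8b_28.2, Cfsg.Agent.LsF.f1cbd8b_31.2, Cfsg.Agent.LsF.and_eq, Cfsg.Agent.LsF.testBit_eq, Cfsg.Agent.LsF.map_eq]; (try delta Cfsg.Agent.MO.WC.Is.casesOn); exact rfl) | exact rfl⟩
private noncomputable def _root_.Cfsg.Agent.LsF.f1cbd8b_33 : {f // @Cfsg.Agent.MO.WT.injOK = f} := ⟨_, by first | (delta Cfsg.Agent.MO.WT.injOK; rewrite [Cfsg.Agent.LsF.f1cbd8b_3.2, Cfsg.Agent.LsF.or_eq, Cfsg.Agent.LsF.instIDecEq_eq, Cfsg.Agent.LsF.dNot_eq, Cfsg.Agent.LsF.decide_eq]; exact rfl) | exact rfl⟩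
private noncomputable def _root_.Cfsg.Agent.LsF.f1cbd8b_34 : {f // @Cfsg.Agent.LV.W.runF = f} := ⟨_, by first | (delta Cfsg.Agent.LV.W.runF; rewrite [Cfsg.Agent.LsF.cond_eq]; exact rfl) | exact rfl⟩
private noncomputable def _root_.Cfsg.Agent.LsF.f1cbd8b_35 : {f // @Cfsg.Agent.LV.W.run = f} := ⟨_, by first | (delta Cfsg.Agent.LV.W.run; rewrite [Cfsg.Agent.LsF.f1cbd8b_34.2]; exact rfl) | exact rfl⟩
private noncomputable def _root_.Cfsg.Agent.LsF.f1cbd8b_36 : {f // @Cfsg.Agent.MO.WC.runG = f} := ⟨_, by first | (delta Cfsg.Agent.MO.WC.runG; rewrite [Cfsg.Agent.LsF.f1cbd8b_35.2, Cfsg.Agent.LsF.cond_eq]; exact rfl) | exact rfl⟩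
private noncomputable def _root_.Cfsg.Agent.LsF.f1cbd8b_37 : {f // @Cfsg.Agent.MO.WC.Gp.runH = f} := ⟨_, by first | (delta Cfsg.Agent.MO.WC.Gp.runH; rewrite [Cfsg.Agent.LsF.f1cbd8b_36.2]; exact rfl) | exact rfl⟩
private noncomputable def _root_.Cfsg.Agent.LsF.f1cbd8b_38 : {f // @Cfsg.Agent.MO.WT.mem = f} := ⟨_, by first | (delta Cfsg.Agent.MO.WT.mem; rewrite [Cfsg.Agent.LsF.cond_eq]; exact rfl) | exact rfl⟩
private noncomputable def _root_.Cfsg.Agent.LsF.f1cbd8b_39 : {f // @Cfsg.Agent.MO.WT.ndp = f} := ⟨_, by first | (delta Cfsg.Agent.MO.WT.ndp; rewrite [Cfsg.Agent.LsF.f1cbd8b_38.2, Cfsg.Agent.LsF.cond_eq]; exact rfl) | exact rfl⟩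
private noncomputable def _root_.Cfsg.Agent.LsF.f1cbd8b_40 : {f // @Cfsg.Agent.MO.WC.Gp.setOK = f} := ⟨_, by first | (delta Cfsg.Agent.MO.WC.Gp.setOK; rewrite [Cfsg.Agent.LsF.f1cbd8b_4.2, Cfsg.Agent.LsF.f1cbd8b_35.2, Cfsg.Agent.LsF.f1cbd8b_37.2, Cfsg.Agent.LsF.f1cbd8b_39.2, Cfsg.Agent.LsF.f1cbd8b_38.2, Cfsg.Agent.LsF.and_eq, Cfsg.Agent.LsF.all_eq, Cfsg.Agent.LsF.map_eq]; exact rfl) | exact rfl⟩
private noncomputable def _root_.Cfsg.Agent.LsF.f1cbd8b_41 : {f // @Cfsg.Agent.MO.WT.st' = f} := ⟨_, by first | (delta Cfsg.Agent.MO.WT.st'; rewrite [Cfsg.Agent.LsF.cond_eq]; exact rfl) | exact rfl⟩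
private noncomputable def _root_.Cfsg.Agent.LsF.f1cbd8b_42 : {f // @Cfsg.Agent.MO.WT.trN = f} := ⟨_, by first | (delta Cfsg.Agent.MO.WT.trN; rewrite [Cfsg.Agent.LsF.f1cbd8b_0.2, Cfsg.Agent.LsF.f1cbd8b_41.2, Cfsg.Agent.LsF.isub_pat, Cfsg.Agent.LsF.icast_pat]; exact rfl) | exact rfl⟩
private noncomputable def _root_.Cfsg.Agent.LsF.f1cbd8b_43 : {f // @Cfsg.Agent.MO.WC.Gp.baseOK = f} := ⟨_, by first | (delta Cfsg.Agent.MO.WC.Gp.baseOK; rewrite [Cfsg.Agent.LsF.f1cbd8b_33.2, Cfsg.Agent.LsF.f1cbd8b_3.2, Cfsg.Agent.LsF.f1cbd8b_35.2, Cfsg.Agent.LsF.f1cbd8b_37.2, Cfsg.Agent.LsF.f1cbd8b_40.2, Cfsg.Agent.LsF.f1cbd8b_38.2, Cfsg.Agent.LsF.f1cbd8b_9.2, Cfsg.Agent.LsF.f1cbd8b_42.2, Cfsg.Agent.LsF.and_eq, Cfsg.Agent.LsF.or_eq, Cfsg.Agent.LsF.not_eq, Cfsg.Agent.LsF.all_eq, Cfsg.Agent.LsF.map_eq, Cfsg.Agent.LsF.length_eq]; exact rfl) | exact rfl⟩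
private noncomputable def _root_.Cfsg.Agent.LsF.f1cbd8b_44 : {f // @Cfsg.Agent.MO.WC.smZ = f} := ⟨_, by first | (delta Cfsg.Agent.MO.WC.smZ; rewrite [Cfsg.Agent.LsF.iadd_eq]; exact rfl) | exact rfl⟩
private noncomputable def _root_.Cfsg.Agent.LsF.f1cbd8b_45 : {f // @Cfsg.Agent.MO.WC.zq = f} := ⟨_, by first | (delta Cfsg.Agent.MO.WC.zq; rewrite [Cfsg.Agent.LsF.f1cbd8b_26.2]; (try delta List.casesOn); exact rfl) | exact rfl⟩
private noncomputable def _root_.Cfsg.Agent.LsF.f1cbd8b_46 : {f // @Cfsg.Agent.MO.WC.Tb.eig1 = f} := ⟨_, by first | (delta Cfsg.Agent.MO.WC.Tb.eig1; rewrite [Cfsg.Agent.LsF.f1cbd8b_19.2, Cfsg.Agent.LsF.f1cbd8b_44.2, Cfsg.Agent.LsF.f1cbd8b_24.2, Cfsg.Agent.LsF.f1cbd8b_23.2, Cfsg.Agent.LsF.f1cbd8b_45.2, Cfsg.Agent.LsF.nadd_pat, Cfsg.Agent.LsF.nmul_pat, Cfsg.Agent.LsF.icast_pat, Cfsg.Agent.LsF.and_eq, Cfsg.Agent.LsF.instIDecEq_eq, Cfsg.Agent.LsF.idecLt_eq, Cfsg.Agent.LsF.length_eq,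 Cfsg.Agent.LsF.decide_eq]; exact rfl) | exact rfl⟩
private noncomputable def _root_.Cfsg.Agent.LsF.f1cbd8b_47 : {f // @Cfsg.Agent.MO.WC.Tb.eigOK = f} := ⟨_, by first | (delta Cfsg.Agent.MO.WC.Tb.eigOK; rewrite [Cfsg.Agent.LsF.f1cbd8b_3.2, Cfsg.Agent.LsF.f1cbd8b_46.2, Cfsg.Agent.LsF.f1cbd8b_24.2, Cfsg.Agent.LsF.f1cbd8b_23.2, Cfsg.Agent.LsF.f1cbd8b_28.2, Cfsg.Agent.LsF.nadd_pat, Cfsg.Agent.LsF.iadd_pat, Cfsg.Agent.LsF.map_eq]; exact rfl) | exact rfl⟩
private noncomputable def _root_.Cfsg.Agent.LsF.f1cbd8b_48 : {f // @Cfsg.Agent.MO.WC.runM = f} := ⟨_, by first | (delta Cfsg.Agent.MO.WC.runM; rewrite [Cfsg.Agent.LsF.cond_eq]; exact rfl) | exact rfl⟩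
private noncomputable def _root_.Cfsg.Agent.LsF.f1cbd8b_49 : {f // @Cfsg.Agent.MO.WC.mat = f} := ⟨_, by first | (delta Cfsg.Agent.MO.WC.mat; rewrite [Cfsg.Agent.LsF.f1cbd8b_41.2, Cfsg.Agent.LsF.f1cbd8b_35.2, Cfsg.Agent.LsF.map_eq, Cfsg.Agent.LsF.range_eq, Cfsg.Agent.LsF.sum_eq]; exact rfl) | exact rfl⟩
private noncomputable def _root_.Cfsg.Agent.LsF.f1cbd8b_50 : {f // @Cfsg.Agent.MO.WC.Gp.cjM = f} := ⟨_, by first | (delta Cfsg.Agent.MO.WC.Gp.cjM; rewrite [Cfsg.Agent.LsF.f1cbd8b_48.2, Cfsg.Agent.LsF.f1cbd8b_49.2, Cfsg.Agent.LsF.and_eq, Cfsg.Agent.LsF.map_eq]; exact rfl) | exact rfl⟩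
private noncomputable def _root_.Cfsg.Agent.LsF.f1cbd8b_51 : {f // @Cfsg.Agent.MO.WC.Gp.row1 = f} := ⟨_, by first | (delta Cfsg.Agent.MO.WC.Gp.row1; rewrite [Cfsg.Agent.LsF.f1cbd8b_4.2, Cfsg.Agent.LsF.f1cbd8b_50.2, Cfsg.Agent.LsF.f1cbd8b_49.2]; exact rfl) | exact rfl⟩
private noncomputable def _root_.Cfsg.Agent.LsF.f1cbd8b_52 : {f // @Cfsg.Agent.MO.WC.Gp.rowOK = f} := ⟨_, by first | (delta Cfsg.Agent.MO.WC.Gp.rowOK; rewrite [Cfsg.Agent.LsF.f1cbd8b_3.2, Cfsg.Agent.LsF.f1cbd8b_51.2, Cfsg.Agent.LsF.nadd_pat]; exact rfl) | exact rfl⟩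
private noncomputable def _root_.Cfsg.Agent.LsF.f1cbd8b_53 : {f // @Cfsg.Agent.MO.WC.Gp.full = f} := ⟨_, by first | (delta Cfsg.Agent.MO.WC.Gp.full; rewrite [Cfsg.Agent.LsF.f1cbd8b_10.2, Cfsg.Agent.LsF.f1cbd8b_14.2, Cfsg.Agent.LsF.f1cbd8b_18.2, Cfsg.Agent.LsF.f1cbd8b_32.2, Cfsg.Agent.LsF.f1cbd8b_43.2, Cfsg.Agent.LsF.f1cbd8b_3.2, Cfsg.Agent.LsF.f1cbd8b_47.2, Cfsg.Agent.LsF.f1cbd8b_52.2, Cfsg.Agent.LsF.and_eq, Cfsg.Agent.LsF.length_eq]; exact rfl) | exact rfl⟩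
private noncomputable def _root_.Cfsg.Agent.LsF.f1cbd8b_55 : {f // @Cfsg.Agent.MO.WC.WF4_D = f} := ⟨_, by first | (delta Cfsg.Agent.MO.WC.WF4_D; rewrite [Cfsg.Agent.LsF.map_eq]; exact rfl) | exact rfl⟩
private noncomputable def _root_.Cfsg.Agent.LsF.f1cbd8b_56 : {f // @Cfsg.Agent.LV.W.dz = f} := ⟨_, by first | (delta Cfsg.Agent.LV.W.dz; rewrite [Cfsg.Agent.LsF.cond_eq]; exact rfl) | exact rfl⟩
private noncomputable def _root_.Cfsg.Agent.LsF.f1cbd8b_57 : {f // @Cfsg.Agent.LV.W.unz = f} := ⟨_, by first | (delta Cfsg.Agent.LV.W.unz; rewrite [Cfsg.Agent.LsF.f1cbd8b_56.2, Cfsg.Agent.LsF.map_eq]; exact rfl) | exact rfl⟩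
private noncomputable def _root_.Cfsg.Agent.LsF.f1cbd8b_58 : {f // @Cfsg.Agent.LV.W.F4 = f} := ⟨_, by first | (delta Cfsg.Agent.LV.W.F4; rewrite [Cfsg.Agent.LsF.f1cbd8b_57.2, Cfsg.Agent.LsF.ineg_pat, Cfsg.Agent.LsF.map_eq]; exact rfl) | exact rfl⟩
private noncomputable def _root_.Cfsg.Agent.LsF.f1cbd8b_59 : {f // @Cfsg.Agent.MO.WC.q1 = f} := ⟨_, by first | (delta Cfsg.Agent.MO.WC.q1; rewrite [Cfsg.Agent.LsF.f1cbd8b_57.2, Cfsg.Agent.LsF.map_eq]; exact rfl) | exact rfl⟩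
private noncomputable def _root_.Cfsg.Agent.LsF.f1cbd8b_60 : {f // @Cfsg.Agent.MO.WC.WF4_T = f} := ⟨_, by first | (delta Cfsg.Agent.MO.WC.WF4_T; rewrite [Cfsg.Agent.LsF.f1cbd8b_57.2, Cfsg.Agent.LsF.f1cbd8b_59.2, Cfsg.Agent.LsF.map_eq]; exact rfl) | exact rfl⟩
theorem WF4_good : WF4_D.Good F4.toTy WF4_T := Gp.good_of_full F4_good.ok ok12 (unz 2 0xa000000)
    [.unit 12 [(1, 0)], .prod 12 12 (unz 2 0xa0000a000000a), .unit 13 [(1, 0)], .unit 22 [(1, 0)], .prod 13 22 (unz 2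
    0xaaaaa0028000000), .unit 19 [(1, 0)], .unit 20 [(1, 0)], .unit 23 [(1, 0)], .unit 21 [(1, 0)], .prod 23 23 (unz 2
    0x9ce739804e61b0aaaaaaaa), .unit 1 [(1, 0)], .unit 4 [(1, 0)], .unit 2 [(1, 0)], .unit 5 [(1, 0)], .unit 6 [(1, 0)],
    .unit 3 [(1, 0)], .unit 7 [(1, 0)], .prod 12 23 (unz 2 0xa002aaa80000000), .unit 15 [(1, 0)], .unit 16 [(1, 0)],
    .unit 24 [(1, 0)], .unit 17 [(1, 0)], .unit 18 [(1, 0)], .prod 13 24 (unz 2 0x1b002aaa82a8aa0000), .unit 8 [(1, 0)],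
    .unit 9 [(1, 0)], .unit 11 [(1, 0)], .prod 2 13 (unz 2 0xa0000000), .unit 14 [(1, 0)], .prod 4 5 (unz 2 0xa00000),
    .unit 10 [(1, 0)]]
  (by ((try (rewrite [Cfsg.Agent.LsF.f1cbd8b_53.2, Cfsg.Agent.LsF.f1cbd8b_55.2, Cfsg.Agent.LsF.f1cbd8b_58.2, Cfsg.Agent.LsF.f1cbd8b_60.2, Cfsg.Agent.LsF.f1cbd8b_57.2])); decide +kernel))

theorem cenK_F4_0 : CenK F4 0
    [1, 1, 1, 1, 2, 2, 2, 2, 4, 4, 4, 4, 4, 6, 6, 8, 8, 8, 8, 9, 9, 9, 9, 12, 16] :=
  cenK_of WF4_good F4_good 0x1 0x100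
    (by decide +kernel)

theorem cenA_F4_0 : CenA F4 F4_3210 0
    [1, 1, 4, 4, 4, 6, 6, 9, 9, 12, 16] :=
  cenA_of WF4_good F4_good F4_3210_good 0x1 0x100 0x1 0x1
    (unp 5
    0x2309b80bc7222d1808ac646271880a462298926c02118987c661ad88736189a805c6a10d903b6814d804b620cd82a6006d902360298126009)
    (unp 3 0x18b7b6b4b5b3b1b2bf217a6cc932a5c899f71d72d48)
    (Bool.and_eq_true_iff.2 ⟨Bool.and_eq_true_iff.2 ⟨by decide +kernel, by decide +kernel⟩, by decide +kernel⟩)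

theorem cenK_F4_24 : CenK F4 24
    [1, 1, 1, 1, 2, 2, 2, 2, 4, 4, 4, 4, 4, 6, 6, 8, 8, 8, 8, 9, 9, 9, 9, 12, 16] :=
  cenK_of WF4_good F4_good 0x1010210212321021232102123 0x118
    (by decide +kernel)

theorem cenA_F4_24 : CenA F4 F4_3210 24
    [1, 1, 4, 4, 4, 6, 6, 9, 9, 12, 16] :=
  cenA_of WF4_good F4_good F4_3210_good 0x1010210212321021232102123 0x118 0x1 0x1
    (unp 5
    0x2309b80bc7222d1808ac646271880a462298926c02118987c661ad88736189a805c6a10d903b6814d804b620cd82a6006d902360298126009)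
    (unp 3 0x18b7b6b4b5b3b1b2bf217a6cc932a5c899f71d72d48)
    (Bool.and_eq_true_iff.2 ⟨Bool.and_eq_true_iff.2 ⟨by decide +kernel, by decide +kernel⟩, by decide +kernel⟩)

noncomputable def G5_T : Tb where
  f := F12
  K := 21
  nu := 72
  n := (unz 3 0x4a528913244891224a5122648992244892)
  XC := (List.map (qc 2) [0x1d9b364c993264c993264ca28a28a28a28a, 0xb56ad514505294a2a94a55ab54a,
    0xa28a2d5ab45294a2aad5ab4a50a, 0xb5416d505b5416954aa552a954a, 0xb5414000000002ad28555ab428a,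
    0xa2d168b45a2d16ad0aab42aad0a, 0xa2d14000000002956a954a5528a, 0xa1554aab4ab42a956954aaa550a,
    0xaa550aa55a552aad2ad0aa1554a, 0xb9bb9b3ba73261dd3e9cc3a956a954a5528a, 0xddee1b3a674fa674c99d33aad28555ab428a,
    0xab56ad29428a28a2a94a55ab54a, 0xa52956ad528a28a2aad5ab4a50a, 0xab42aad0aab42a954aa552a954a,
    0xa552a954aa552aad0aab42aad0a, 0xd294000000000a28a28a28a28a, 0xb45a0b45aa2d16ad2ad0aa1554a,
    0xa0b68b6a8b5416956954aaa550a, 0xb9bb9b273ee38273e9f704e956a954a5528a, 0xddee1b27c4fa7c4f8e27c4ead28555ab428a,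
    0xecd9b38e38e38e38e38a28a28a28a28a])
  rows := [(List.map (unp 5) [0x2129, 0x21a9, 0x220ed, 0x2810d, 0x2001f1, 0x2189, 0x2089, 0x220ad, 0x2402d, 0x2269, 0x2009,
    0x2069, 0x2822d, 0x2220d, 0x2049, 0x220cd, 0x2216d, 0x241cd, 0x2149, 0x2289, 0x2249]), (List.map (unp 5)
    [0x883b680ed903b60e9, 0x84a60c988336200d1, 0x86a6806d881b6069, 0x8226149880246008d, 0xa0636404d8126189,
    0x900b616980a6002d, 0xa02b641cd87260a9, 0x90436210da0436209, 0x887b62001f59007c6009, 0x802b60a9a02b620ad,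
    0x8126204d80136404d, 0x832624988034600cd, 0x906b606986a601ad, 0x89a60898823620091, 0x80a6816d885b6169,
    0x83a640eda08b6222d, 0x807b61e98007c6289, 0x90836220da0836109, 0x872621cd8073641cd, 0x80636189a0636218d,
    0x888b6822d908b6229])]
  lev := (List.map (qc 3) [0x912912133290901332994809912994894891291212, 0xd011c7a11c7ad08f5a023ec44efb113b1122762276044])
  b := 6
  B := 128

noncomputable def G5_D : Gp where
  Ls := [0x102102123, 0x102321021, 0x101023212, 0x112123210, 0x112132102]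
  rw := (unp 7
    0x808108109190810919081091e18908119081091908418090819081091909418819081091908109418090810919081091c1810811908109b18090919091a98909190811a989081099082980810819092980909909218909190821899081092181081091a1808190998810811988108199810810999909918981)
  rh := (unp 5 0x2000d99a66001180004600990036860015999046664d991366600159964298166441199266644159991468660019990361)
  cod := (unp 5
    0x7e7e7e7fe827c788fff9050ce3daa31f20fa51ca09f7e29aa41e7ff3f4639f7e7e7c91e94727e8bf8a887e75ffd0910e7d08fcf523fb239fa17a59d211fffc493e3ef47433c42fc5443b44fc93b433effc828483e827c8683f82828283f)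
  tw := (List.map (unp 6) [0x44848c8421, 0x89099081430102321286046420430c0840848e1])
  th := (List.map (unp 3) [0x9d, 0xa5958d85])

private noncomputable def _root_.Cfsg.Agent.LsF.f1cbd8b_67 : {f // @Cfsg.Agent.MO.WC.G5_D = f} := ⟨_, by first | (delta Cfsg.Agent.MO.WC.G5_D; rewrite [Cfsg.Agent.LsF.map_eq]; exact rfl) | exact rfl⟩
private noncomputable def _root_.Cfsg.Agent.LsF.f1cbd8b_68 : {f // @Cfsg.Agent.MO.WC.q2 = f} := ⟨_, by first | (delta Cfsg.Agent.MO.WC.q2; rewrite [Cfsg.Agent.LsF.f1cbd8b_57.2]; (try delta List.casesOn); exact rfl) | exact rfl⟩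
private noncomputable def _root_.Cfsg.Agent.LsF.f1cbd8b_69 : {f // @Cfsg.Agent.MO.WC.qc = f} := ⟨_, by first | (delta Cfsg.Agent.MO.WC.qc; rewrite [Cfsg.Agent.LsF.f1cbd8b_68.2]; exact rfl) | exact rfl⟩
private noncomputable def _root_.Cfsg.Agent.LsF.f1cbd8b_70 : {f // @Cfsg.Agent.MO.WC.G5_T = f} := ⟨_, by first | (delta Cfsg.Agent.MO.WC.G5_T; rewrite [Cfsg.Agent.LsF.f1cbd8b_57.2, Cfsg.Agent.LsF.f1cbd8b_69.2, Cfsg.Agent.LsF.map_eq]; exact rfl) | exact rfl⟩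
theorem G5_good : G5_D.Good F4.toTy G5_T := Gp.good_of_full F4_good.ok ok12 (unz 2 0x28a0000000)
    [.unit 14 [(1, 0)], .unit 16 [(1, 0)], .prod 14 14 (unz 2 0xa00000000a0), .unit 19 [(1, 0)], .unit 2 [(1, 0)], .prod
    14 19 (unz 2 0x280a0280000), .unit 13 [(1, 0)], .unit 17 [(1, 0)], .unit 9 [(1, 0)], .prod 19 19 (unz 2
    0x4c00000a02a80), .unit 3 [(1, 0)], .unit 8 [(1, 0)], .unit 4 [(1, 0)], .prod 9 13 (unz 2 0x28000002800), .unit 5
    [(1, 0)], .unit 18 [(1, 0)], .prod 9 19 (unz 2 0xa02a800000), .unit 11 [(1, 0)], .unit 12 [(1, 0)], .prod 11 19 (unz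
    2 0x2a80a00000), .unit 15 [(1, 0)], .unit 10 [(1, 0)], .prod 18 19 (unz 2 0x13000002a80a0), .unit 7 [(1, 0)], .unit
    6 [(1, 0)], .prod 2 8 (unz 2 0x28), .unit 1 [(1, 0)], .prod 2 19 (unz 2 0xa0000000000), .unit 20 [(1, 0)]]
  (by ((try (rewrite [Cfsg.Agent.LsF.f1cbd8b_53.2, Cfsg.Agent.LsF.f1cbd8b_67.2, Cfsg.Agent.LsF.f1cbd8b_58.2, Cfsg.Agent.LsF.f1cbd8b_70.2, Cfsg.Agent.LsF.f1cbd8b_57.2])); decide +kernel))

theorem cenK_F4_22 : CenK F4 22
    [1, 1, 1, 1, 1, 1, 1, 1, 1, 2, 2, 2, 2, 2, 2, 2, 2, 2, 3, 3, 3] :=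
  cenK_of G5_good F4_good 0x11210232102123210 0x116
    (by decide +kernel)

theorem cenA_F4_22 : CenA F4 F4_3210 22
    [1, 1, 1, 2, 2, 2, 3, 3, 3] :=
  cenA_of G5_good F4_good F4_3210_good 0x11210232102123210 0x116 0x10102 0x10210
    (unp 4 0x114989cc4a6421b211d807ec2e619320dd9076c2a6133207d9046c1a6403b0499016c0e60b3009)
    (unp 3 0x14b3b2bb216a748db993e4cd67dcc712558)
    (Bool.and_eq_true_iff.2 ⟨Bool.and_eq_true_iff.2 ⟨by decide +kernel, by decide +kernel⟩, by decide +kernel⟩)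

theorem cenK_F4_17 : CenK F4 17
    [1, 1, 1, 1, 1, 1, 1, 1, 1, 2, 2, 2, 2, 2, 2, 2, 2, 2, 3, 3, 3] :=
  cenK_of G5_good F4_good 0x101213212 0x101211
    (by decide +kernel)

theorem cenA_F4_17 : CenA F4 F4_3210 17
    [1, 1, 1, 2, 2, 2, 3, 3, 3] :=
  cenA_of G5_good F4_good F4_3210_good 0x101213212 0x101211 0x10102 0x10210
    (unp 4 0x114989cc4a6421b211d807ec2e619320dd9076c2a6133207d9046c1a6403b0499016c0e60b3009)
    (unp 3 0x14b3b2bb216a748db993e4cd67dcc712558)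
    (Bool.and_eq_true_iff.2 ⟨Bool.and_eq_true_iff.2 ⟨by decide +kernel, by decide +kernel⟩, by decide +kernel⟩)

noncomputable def G8_T : Tb where
  f := F12
  K := 16
  nu := 96
  n := (unz 3 0x250b9324a59217171617242e4c92)
  XC := (List.map (qd 3) [0xc41106633198cc46231188c462312121212, 0x3290902652990004a6664240912,
    0x3291202665290004cca64480912, 0x24240000004848121322404891212, 0x64484848000d08c0004891212,
    0x24480000004890121321204891212, 0x332240480000000024240912, 0x332120480000000024480912,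
    0x32240000004848489121212121212, 0xc891224000462300012121212, 0xec44033158ac6718d01a11e84604891212,
    0x883b033158ac67a1181a11c63404891212, 0x329120265332001294ca4480912, 0x3290902666520013294a4240912,
    0xc848000000489122448912121212, 0x3d8ec6633198cc686846231a1a12121212])
  rows := [(List.map (unp 5) [0x8880c6602d880b604031900b6029, 0x8526006d8001c6069881b6089, 0x8804c6201118800456610d910446009,
    0x8626018d88064640ed80003d60e9, 0x8806460e9803b60000f58003c6049, 0x80003d640ed83a6404d812604051,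
    0x81a604091801b60a9822600ad, 0x880746012d8800756201118804c6200115, 0x8100c6040d1980b60c980a600cd,
    0x81034601ad98034600cd980b6200d1, 0x90636001918000656018d862620191, 0x8126404d810146204d9813622051,
    0x87261e99873601cd84a6201d1, 0x82a640ad810246169802b6040b1, 0x83261a981034621ad8033601ad,
    0x886b60001b586a6001b1806b6a1ad])]
  lev := (List.map (qd 3) [0xc718d01acf3af3000cebaebc82e017064])
  b := 4
  B := 128

noncomputable def G8_D : Gp where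
  Ls := [0x112, 0x1021023, 0x1012321, 0x11021021232, 0x10121032123, 0x10102123212]
  rw := (unp 7
    0x808108109190810919081091e180990810919081094181908109190810b9809081908109193990990810990831808108119091b180811908109931819081092188109199990810999908118909118091919089890981)
  rh := (unp 5 0xa20046422119088056420d910880668099100462221181036222015888800660099026000d8161)
  cod := (unp 5
    0x7e7e7e7fed51104fbdaa0a19ffbf444138f727a848be8e867c77fe52cf4f3db22a11ffa2a31da0ff7444142f74828683e8a7e7e89f82888279f887a8485f84867c87f82828283f)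
  tw := (List.map (unp 6) [0x202420642474c040848c84a988108109195301232166042046cc489])
  th := (List.map (unp 3) [0xa5ad9d958d85])

private noncomputable def _root_.Cfsg.Agent.LsF.f1cbd8b_71 : {f // @Cfsg.Agent.MO.WC.G8_D = f} := ⟨_, by first | (delta Cfsg.Agent.MO.WC.G8_D; rewrite [Cfsg.Agent.LsF.map_eq]; exact rfl) | exact rfl⟩
private noncomputable def _root_.Cfsg.Agent.LsF.f1cbd8b_72 : {f // @Cfsg.Agent.MO.WC.qd = f} := ⟨_, by first | (delta Cfsg.Agent.MO.WC.qd; rewrite [Cfsg.Agent.LsF.f1cbd8b_68.2]; exact rfl) | exact rfl⟩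
private noncomputable def _root_.Cfsg.Agent.LsF.f1cbd8b_73 : {f // @Cfsg.Agent.MO.WC.G8_T = f} := ⟨_, by first | (delta Cfsg.Agent.MO.WC.G8_T; rewrite [Cfsg.Agent.LsF.f1cbd8b_57.2, Cfsg.Agent.LsF.f1cbd8b_72.2, Cfsg.Agent.LsF.map_eq]; exact rfl) | exact rfl⟩
theorem G8_good : G8_D.Good F4.toTy G8_T := Gp.good_of_full F4_good.ok ok12 (unz 2 0xaa0000)
    [.unit 8 [(1, 0)], .unit 9 [(1, 0)], .prod 8 8 (unz 2 0xa0000a0), .unit 2 [(1, 0)], .unit 11 [(1, 0)], .prod 11 11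
    (unz 2 0xa0a028028), .unit 1 [(1, 0)], .unit 10 [(1, 0)], .unit 6 [(1, 0)], .unit 13 [(1, 0)], .prod 10 11 (unz 2
    0x2a80a0280), .unit 7 [(1, 0)], .unit 12 [(1, 0)], .unit 3 [(1, 0)], .prod 8 10 (unz 2 0xa00002800), .unit 5 [(1,
    0)], .unit 15 [(1, 0)], .prod 5 12 (unz 2 0x280000a00), .unit 4 [(1, 0)], .unit 14 [(1, 0)]]
  (by ((try (rewrite [Cfsg.Agent.LsF.f1cbd8b_53.2, Cfsg.Agent.LsF.f1cbd8b_71.2, Cfsg.Agent.LsF.f1cbd8b_58.2, Cfsg.Agent.LsF.f1cbd8b_73.2, Cfsg.Agent.LsF.f1cbd8b_57.2])); decide +kernel))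

theorem cenK_F4_20 : CenK F4 20
    [1, 1, 1, 1, 2, 2, 2, 2, 2, 2, 3, 3, 3, 3, 4, 4] :=
  cenK_of G8_good F4_good 0x1213210213210 0x1014
    (by decide +kernel)

theorem cenA_F4_20 : CenA F4 F4_3210 20
    [1, 1, 1, 1, 2, 2, 2, 2, 2, 2, 3, 3, 3, 3, 4, 4] :=
  cenA_of G8_good F4_good F4_3210_good 0x1213210213210 0x1014 0x10103 0x10103
    (unp 5 0x87a6441d180006d62019185a61498804c644111903b640cd82a60409181a6040518100c6009)
    (unp 3 0x1f3a6cc972a4c89de75c7a948)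
    (Bool.and_eq_true_iff.2 ⟨Bool.and_eq_true_iff.2 ⟨by decide +kernel, by decide +kernel⟩, by decide +kernel⟩)

theorem cenK_F4_3210_9 : CenK F4_3210 9
    [1, 1, 1, 1, 2, 2, 2, 2, 2, 2, 3, 3, 3, 3, 4, 4] :=
  cenK_of (G8_good.ty F4_3210_good.ok rfl rfl rfl rfl) F4_3210_good 0x1232123 0x109
    (by decide +kernel)

theorem cenK_F4_3210_10 : CenK F4_3210 10
    [1, 1, 1, 1, 2, 2, 2, 2, 2, 2, 3, 3, 3, 3, 4, 4] :=
  cenK_of (G8_good.ty F4_3210_good.ok rfl rfl rfl rfl) F4_3210_good 0x1010210213210213210 0x101030a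
    (by decide +kernel)

noncomputable def Z8_T : Tb where
  f := F8
  K := 8
  nu := 8
  n := (unz 2 0xaaaaaaaa)
  XC := (List.map (q4 2) [0x4280a0280a0280a0280a, 0x4a0a0a0280500a0140a, 0xa01402814141400140a, 0x68014a02800a500280a,
    0x6800a5028014a00280a, 0x4a14140a00a0140140a, 0xa00a014050a0a00140a, 0x428140502814050280a])
  rows := [(List.map (unp 4) [0x1019, 0x1049, 0x1009, 0x1029, 0x1069, 0x1039, 0x1079, 0x1059])]
  lev := (List.map (q4 2) [0x4a0a0a0280500a0140a])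
  b := 1
  B := 16

noncomputable def Z8_D : Gp where
  Ls := [0x1321021]
  rw := (unp 7
    0x808108109190810919081091e1810819081091908109498081081091908109194990990810990831808108119091b1881091999908109981)
  rh := (unp 5 0x800046000d8000056009800000660000001d8161)
  cod := (unp 5 0xfcfcfcffdd9d229ffa49e1f9f7f93d4245f47433e3bfc5463b41fee888285e82828283f)
  tw := (List.map (unp 5) [0x26420439])
  th := (List.map (unp 3) [0x85])

theorem Z8_good : Z8_D.Good F4.toTy Z8_T := Gp.good_of_full F4_good.ok ok8 (unz 2 0xa2a8a0)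
    [.unit 2 [(1, 0)], .unit 4 [(1, 0)], .unit 5 [(1, 0)], .unit 7 [(1, 0)], .prod 2 2 (unz 2 0xa000), .unit 6 [(1, 0)],
    .prod 2 4 (unz 2 0x28), .unit 1 [(1, 0)], .prod 1 6 (unz 2 0x280), .unit 3 [(1, 0)]]
  (by decide +kernel)

theorem cenK_F4_18 : CenK F4 18
    [1, 1, 1, 1, 1, 1, 1, 1] :=
  cenK_of Z8_good F4_good 0x1321021 0x112
    (by decide +kernel)

theorem cenA_F4_18 : CenA F4 F4_3210 18
    [1, 1, 1, 1, 1, 1, 1, 1] :=
  cenA_of Z8_good F4_good F4_3210_good 0x1321021 0x112 0x11032 0x10213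
    (unp 4 0x83cc1a60b304981cc0a6033009)
    (unp 2 0x1fdde7d54)
    (Bool.and_eq_true_iff.2 ⟨Bool.and_eq_true_iff.2 ⟨by decide +kernel, by decide +kernel⟩, by decide +kernel⟩)

noncomputable def Z12_T : Tb where
  f := F12
  K := 12
  nu := 12
  n := (unz 2 0xaaaaaaaaaaaa)
  XC := (List.map (q4 2) [0x4280a0280a0280a0280a0280a0280a, 0x6941452828280a01428a050a28140a,
    0x6829405052a81401450a514280140a, 0x68140528a28140a514a5140500280a, 0x68a528a0280140a50280a51450280a,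
    0x10b405000b40a000aa0280050140a, 0x10b40a000b405000aa0500050140a, 0x68a514a0500280a28140a29450280a,
    0x68140a29450280a28a514a0500280a, 0x69414a285050280285280a0a28140a, 0x6828a050a55014028a14528280140a,
    0x10a028140a028140a028140a0280a])
  rows := [(List.map (unp 4) [0x1019, 0x1039, 0x1009, 0x1059, 0x1029, 0x1079, 0x1049, 0x10a9, 0x1069, 0x1089, 0x10b9, 0x1099])]
  lev := (List.map (q4 2) [0x6941452828280a01428a050a28140a])
  b := 2
  B := 32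

noncomputable def Z12_D : Gp where
  Ls := [0x10123]
  rw := (unp 7
    0x808108109190810919081091e1808108109190810919095189081099081091908109519081908109190810c180810811908109194190990810990831808108119091b190990810a1808109192199081180919181)
  rh := (unp 6 0x8000003300000560000000ec000000021800023000000000960006c00000000029801300000000000b602c1)
  cod := (unp 5
    0x3f3f3f3ff463f3d3fffe787e89ef0e5110bd0d18ecf7fc9ea122fa3a19f1dffd3a4543f44473c3eff4828683e82888279f82828283f)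
  tw := (List.map (unp 5) [0x202471])
  th := (List.map (unp 3) [0x85])

private noncomputable def _root_.Cfsg.Agent.LsF.f1cbd8b_74 : {f // @Cfsg.Agent.MO.WC.Z12_D = f} := ⟨_, by first | (delta Cfsg.Agent.MO.WC.Z12_D; rewrite [Cfsg.Agent.LsF.map_eq]; exact rfl) | exact rfl⟩
private noncomputable def _root_.Cfsg.Agent.LsF.f1cbd8b_75 : {f // @Cfsg.Agent.MO.WC.q4 = f} := ⟨_, by first | (delta Cfsg.Agent.MO.WC.q4; rewrite [Cfsg.Agent.LsF.f1cbd8b_57.2]; (try delta List.casesOn); exact rfl) | exact rfl⟩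
private noncomputable def _root_.Cfsg.Agent.LsF.f1cbd8b_76 : {f // @Cfsg.Agent.MO.WC.Z12_T = f} := ⟨_, by first | (delta Cfsg.Agent.MO.WC.Z12_T; rewrite [Cfsg.Agent.LsF.f1cbd8b_57.2, Cfsg.Agent.LsF.f1cbd8b_75.2, Cfsg.Agent.LsF.map_eq]; exact rfl) | exact rfl⟩
theorem Z12_good : Z12_D.Good F4.toTy Z12_T := Gp.good_of_full F4_good.ok ok12 (unz 2 0x2a802a80)
    [.unit 3 [(1, 0)], .unit 4 [(1, 0)], .unit 9 [(1, 0)], .unit 10 [(1, 0)], .prod 3 3 (unz 2 0xa0000), .unit 8 [(1,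
    0)], .prod 3 8 (unz 2 0xa000), .unit 6 [(1, 0)], .prod 3 6 (unz 2 0xa0), .unit 2 [(1, 0)], .prod 2 2 (unz 2 0x2800),
    .unit 5 [(1, 0)], .prod 2 8 (unz 2 0x28), .unit 1 [(1, 0)], .prod 1 2 (unz 2 0x2800000), .unit 11 [(1, 0)], .prod 1
    6 (unz 2 0x28000), .unit 7 [(1, 0)]]
  (by ((try (rewrite [Cfsg.Agent.LsF.f1cbd8b_53.2, Cfsg.Agent.LsF.f1cbd8b_74.2, Cfsg.Agent.LsF.f1cbd8b_58.2, Cfsg.Agent.LsF.f1cbd8b_76.2, Cfsg.Agent.LsF.f1cbd8b_57.2])); decide +kernel))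

theorem cenK_F4_16 : CenK F4 16
    [1, 1, 1, 1, 1, 1, 1, 1, 1, 1, 1, 1] :=
  cenK_of Z12_good F4_good 0x13210 0x110
    (by decide +kernel)

theorem cenA_F4_16 : CenA F4 F4_3210 16
    [1, 1, 1, 1, 1, 1, 1, 1, 1, 1, 1, 1] :=
  cenA_of Z12_good F4_good F4_3210_good 0x13210 0x110 0x10103 0x10103
    (unp 4 0x85cc2a613308983cc1a60b304981cc0a6033009)
    (unp 3 0x172a4c89de75c7a948)
    (Bool.and_eq_true_iff.2 ⟨Bool.and_eq_true_iff.2 ⟨by decide +kernel, by decide +kernel⟩, by decide +kernel⟩)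

noncomputable def I8_T : Tb where
  f := F8
  K := 7
  nu := 16
  n := (unz 3 0x251c71c4892)
  XC := (List.map (q4 2) [0x84c098130280a0280a, 0x10a028140a, 0x10a050140a, 0xa50014500a050280a, 0x10e000280a0280a,
    0xa28014a00a050280a, 0x21c04c0e0280a0280a])
  rows := [(List.map (unp 4) [0x2007b039, 0x2005b029, 0x2033101d, 0x2013004d, 0x20b3003d, 0x20d3049, 0x200bb059]), (List.map
    (unp 5) [0x980b6402d880b6029, 0x832608980236009, 0x802b60a981a6006d, 0x88136400518126004d, 0x900b6029980b6202d,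
    0x80136049900146204d, 0x80a6202d900b6602d])]
  lev := (List.map (q4 3) [0x9120001212001a00680118023, 0x811001d803b0044])
  b := 2
  B := 32

noncomputable def I8_D : Gp where
  Ls := [0x103, 0x1121023, 0x1013212, 0x11210213212, 0x101232102123210, 0x11021021232102123210212]
  rw := (unp 7 0x808108109190810919081091e180909908109190810949809190810990b189081199890911818981)
  rh := (unp 4 0x5426445b2298ac4260b1)
  cod := (unp 5 0xfcfcfcffdca1211dfb745433af473e3e45fc53f3f44ffe84847fe82828283f)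
  tw := (List.map (unp 7) [0x8099091989081199, 0x88108109190810919081095980919081091908398908109909298189])
  th := (List.map (unp 3) [0x958d, 0xada59d85])

theorem I8_good : I8_D.Good F4_3210.toTy I8_T := Gp.good_of_full F4_3210_good.ok ok8 (unz 2 0x28a00)
    [.unit 4 [(1, 0)], .unit 6 [(1, 0)], .prod 4 6 (unz 2 0x28aa0), .unit 2 [(1, 0)], .unit 3 [(1, 0)], .unit 5 [(1,
    0)], .prod 2 3 (unz 2 0x28), .unit 1 [(1, 0)]]
  (by decide +kernel)

theorem cenK_F4_3210_0 : CenK F4_3210 0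
    [1, 1, 1, 1, 2, 2, 2] :=
  cenK_of I8_good F4_3210_good 0x1 0x100
    (by decide +kernel)

noncomputable def G12_T : Tb where
  f := F8
  K := 8
  nu := 48
  n := (unz 3 0x4a17264c90b8b2)
  XC := (List.map (q4 3) [0x102200330066008c01180230048012, 0x8120048000000000024012, 0x81200000000900240090048012,
    0x204802521212240000024012, 0x204802522448480000024012, 0x40900480000000230048012, 0x40900000000240120090048012,
    0x207600cc019803400d00230048012])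
  rows := [(List.map (unp 5) [0x981b6206d8881c6806d901b6069, 0x9033640ad800346000b1800146404d, 0x881b6202d9080c622071900b6406d,
    0x832600cd83a640cd80034640ad, 0x90136049902b60005180136009, 0x901b6029880b6402d90236802d,
    0x880b6408d8823642031888246402d, 0x90236808d8226208d9823622091])]
  lev := (List.map (q4 3) [0x40d0023cc662b158000005c0064])
  b := 4
  B := 128

noncomputable def G12_D : Gp where
  Ls := [0x123210213, 0x102103210, 0x12102321021, 0x102132102123210, 0x12123210212321021, 0x10210213210213210]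
  rw := (unp 7 0x808108109190810919081091e18099081091908109418081190810993188119091a191908109a18190810921818981)
  rh := (unp 5 0xa826049a226426d81642211a21361)
  cod := (unp 5 0x1f9f9f9ffb544413ef72967a79ef12ce90bdd1ea221fb645423ff7e84847fe82828283f)
  tw := (List.map (unp 7) [0x9091908109190810c181099081091908398108109908109908419081190810a9810819082191908109a1])
  th := (List.map (unp 3) [0xa59dad958d85])

private noncomputable def _root_.Cfsg.Agent.LsF.f1cbd8b_77 : {f // @Cfsg.Agent.MO.WC.G12_D = f} := ⟨_, by first | (delta Cfsg.Agent.MO.WC.G12_D; rewrite [Cfsg.Agent.LsF.map_eq]; exact rfl) | exact rfl⟩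
private noncomputable def _root_.Cfsg.Agent.LsF.f1cbd8b_65 : {f // @Cfsg.Agent.LV.W.F4_3210 = f} := ⟨_, by first | (delta Cfsg.Agent.LV.W.F4_3210; rewrite [Cfsg.Agent.LsF.f1cbd8b_57.2, Cfsg.Agent.LsF.ineg_pat, Cfsg.Agent.LsF.map_eq]; exact rfl) | exact rfl⟩
private noncomputable def _root_.Cfsg.Agent.LsF.f1cbd8b_78 : {f // @Cfsg.Agent.MO.WC.G12_T = f} := ⟨_, by first | (delta Cfsg.Agent.MO.WC.G12_T; rewrite [Cfsg.Agent.LsF.f1cbd8b_57.2, Cfsg.Agent.LsF.f1cbd8b_75.2, Cfsg.Agent.LsF.map_eq]; exact rfl) | exact rfl⟩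
theorem G12_good : G12_D.Good F4_3210.toTy G12_T := Gp.good_of_full F4_3210_good.ok ok8 (unz 2 0x2a80)
    [.unit 3 [(1, 0)], .unit 4 [(1, 0)], .prod 3 3 (unz 2 0x28028), .unit 1 [(1, 0)], .unit 6 [(1, 0)], .prod 6 6 (unz 2
    0x2a828a), .unit 2 [(1, 0)], .unit 5 [(1, 0)], .prod 2 3 (unz 2 0x28000), .unit 7 [(1, 0)]]
  (by ((try (rewrite [Cfsg.Agent.LsF.f1cbd8b_53.2, Cfsg.Agent.LsF.f1cbd8b_77.2, Cfsg.Agent.LsF.f1cbd8b_65.2, Cfsg.Agent.LsF.f1cbd8b_78.2, Cfsg.Agent.LsF.f1cbd8b_57.2])); decide +kernel))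

theorem cenK_F4_3210_8 : CenK F4_3210 8
    [1, 1, 2, 2, 2, 3, 3, 4] :=
  cenK_of G12_good F4_3210_good 0x1210321021232 0x108
    (by decide +kernel)

theorem cenK_F4_3210_5 : CenK F4_3210 5 (List.replicate 6 1) := cenK_cyc F4_3210_good 0x103210212 (by decide +kernel)

theorem cenK_F4_3210_4 : CenK F4_3210 4 (List.replicate 12 1) := cenK_cyc F4_3210_good 0x10321 (by decide +kernel)

theorem cenK_F4_3210_7 : CenK F4_3210 7 (List.replicate 12 1) := cenK_cyc F4_3210_good 0x1010321 (by decide +kernel)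

end Cfsg.Agent.MO.WC
end

-- part: MO/WC/D8d
section
/-! MO/WC: generated data (helper27; tools/P3/h27/gen.py) -/

set_option autoImplicit false
set_option maxRecDepth 100000

namespace Cfsg.Agent.MO.WC

open Cfsg.Agent.LV.W Cfsg.Agent.MO.WT

noncomputable def G32_P : List Is :=
    [.unit 7 [(1, 0)], .unit 8 [(1, 0)], .prod 7 7 (unz 2 0x2800a00000000), .unit 16 [(1, 0)], .unit 22 [(1, 0)], .prod
    22 22 (unz 2 0xa00000000a00000000002800000000000a000000), .unit 36 [(1, 0)], .unit 75 [(1, 0)], .unit 58 [(1, 0)],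
    .unit 12 [(1, 0)], .prod 36 58 (unz 2 0x130002800026000050505000140004ca0000000000280000000000000), .unit 73 [(1,
    0)], .unit 67 [(1, 0)], .unit 49 [(1, 0)], .unit 92 [(1, 0)], .unit 27 [(1, 0)], .unit 70 [(1, 0)], .unit 59 [(1,
    0)], .prod 36 92 (unz 3 0x110000011008c00000008c08c00046230000008e40090900000046000000009002400121202400000000000),
    .unit 15 [(1, 0)], .unit 18 [(1, 0)], .unit 20 [(1, 0)], .unit 25 [(1, 0)], .unit 52 [(1, 0)], .unit 56 [(1, 0)],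
    .unit 50 [(1, 0)], .unit 29 [(1, 0)], .prod 20 75 (unz 2
    0xa000980000014000144c0000000a000000000000a000a02800000000), .unit 53 [(1, 0)], .unit 80 [(1, 0)], .unit 101 [(1,
    0)], .unit 21 [(1, 0)], .unit 28 [(1, 0)], .unit 71 [(1, 0)], .unit 17 [(1, 0)], .prod 7 92 (unz 2
    0xa00000002a800000000028000000000028000000000000000000), .unit 60 [(1, 0)], .unit 81 [(1, 0)], .unit 82 [(1, 0)],
    .unit 37 [(1, 0)], .unit 98 [(1, 0)], .prod 16 98 (unz 2 0x1404c0a00a0028000000a0a0000000000280000000000000000000),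
    .unit 61 [(1, 0)], .unit 78 [(1, 0)], .unit 97 [(1, 0)], .unit 84 [(1, 0)], .unit 39 [(1, 0)], .unit 89 [(1, 0)],
    .unit 64 [(1, 0)], .prod 16 97 (unz 2 0x54c0002a800a00000028280000000a00000000000000000000000), .unit 79 [(1, 0)],
    .unit 96 [(1, 0)], .unit 62 [(1, 0)], .unit 85 [(1, 0)], .unit 86 [(1, 0)], .unit 65 [(1, 0)], .unit 46 [(1, 0)],
    .prod 39 61 (unz 3 0x118000120000000001180000220120000000000251800480000000120000000048000000000480000000), .unit 10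
    [(1, 0)], .unit 24 [(1, 0)], .unit 48 [(1, 0)], .unit 54 [(1, 0)], .unit 69 [(1, 0)], .unit 94 [(1, 0)], .prod 22 54
    (unz 2 0xa0002800000002800a28000280000000000000000000000000000), .unit 66 [(1, 0)], .unit 91 [(1, 0)], .unit 68 [(1,
    0)], .unit 99 [(1, 0)], .unit 74 [(1, 0)], .unit 57 [(1, 0)], .prod 25 81 (unz 2
    0x6c000984c027300000000282800000282a800a0028000000000000000), .unit 31 [(1, 0)], .unit 63 [(1, 0)], .unit 43 [(1,
    0)], .unit 44 [(1, 0)], .unit 47 [(1, 0)], .prod 10 75 (unz 2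
    0xa00000000a000a0000000000000a00000000000a0000000000000), .unit 26 [(1, 0)], .unit 83 [(1, 0)], .unit 100 [(1, 0)],
    .unit 76 [(1, 0)], .prod 25 57 (unz 2 0x50500000505001326000130000000000000000000028a2800000), .unit 11 [(1, 0)],
    .unit 88 [(1, 0)], .unit 77 [(1, 0)], .unit 13 [(1, 0)], .prod 25 84 (unz 2
    0x1b02604c026004c000000a0a00000002828280a0a0000000000000000), .unit 32 [(1, 0)], .unit 35 [(1, 0)], .unit 42 [(1,
    0)], .unit 45 [(1, 0)], .prod 25 85 (unz 2 0x6e6000139801300000028280000000a002800aa0a000000000000000), .unit 30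
    [(1, 0)], .unit 33 [(1, 0)], .unit 34 [(1, 0)], .unit 40 [(1, 0)], .prod 78 82 (unz 3
    0x16a00000e80000012a00007403a01500a8000008800a800882a000000019800000011c40048090004800240000480), .unit 9 [(1, 0)],
    .unit 19 [(1, 0)], .unit 2 [(1, 0)], .unit 14 [(1, 0)], .prod 19 30 (unz 2
    0x50500000000000130000000000000000000000000000a000), .unit 90 [(1, 0)], .unit 87 [(1, 0)], .unit 6 [(1, 0)], .prod
    54 57 (unz 3 0x2200001180000000009000480900000000008c0023000cc0000000118000023004a4240000000000000090), .unit 1 [(1,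
    0)], .unit 72 [(1, 0)], .unit 23 [(1, 0)], .prod 18 22 (unz 2 0xa00000000002800000280000000000000280000), .unit 51
    [(1, 0)], .unit 38 [(1, 0)], .prod 18 34 (unz 2 0x1400000005000000004c0000000000000000000000000002800), .unit 5 [(1,
    0)], .unit 95 [(1, 0)], .prod 19 44 (unz 2 0x14000000140000000130000000000000000000000000000280), .unit 3 [(1, 0)],
    .unit 93 [(1, 0)], .prod 1 8 (unz 2 0xa00), .unit 4 [(1, 0)], .prod 1 38 (unz 2 0x2800000000000000000000), .unit 41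
    [(1, 0)], .prod 1 54 (unz 2 0x28000000000000000000000000000), .unit 55 [(1, 0)]]

private noncomputable def _root_.Cfsg.Agent.LsF.f1cbd8b_79 : {f // @Cfsg.Agent.MO.WC.G32_T = f} := ⟨_, by first | (delta Cfsg.Agent.MO.WC.G32_T; rewrite [Cfsg.Agent.LsF.map_eq]; exact rfl) | exact rfl⟩
private noncomputable def _root_.Cfsg.Agent.LsF.f1cbd8b_80 : {f // @Cfsg.Agent.MO.WC.G32_P = f} := ⟨_, by first | (delta Cfsg.Agent.MO.WC.G32_P; rewrite [Cfsg.Agent.LsF.f1cbd8b_57.2]; exact rfl) | exact rfl⟩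
theorem G32_h2 : go G32_T G32_P [(unz 2 0x2a8000)] 1 = true := by ((try (rewrite [Cfsg.Agent.LsF.f1cbd8b_32.2, Cfsg.Agent.LsF.f1cbd8b_79.2, Cfsg.Agent.LsF.f1cbd8b_80.2, Cfsg.Agent.LsF.f1cbd8b_57.2])); decide +kernel)

theorem G32_h4 : G32_T.Eg 0 102 := Tb.Eg.zero.step 102 (by ((try (rewrite [Cfsg.Agent.LsF.f1cbd8b_47.2, Cfsg.Agent.LsF.f1cbd8b_79.2])); decide +kernel))

theorem G32_good : G32_D.Good E8.toTy G32_T :=
  Gp.good_of_one E8_good.ok ok12 rfl G32_h1 G32_h2 G32_h3 G32_h4 G32_r102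

theorem cenK_E8_110 : CenK E8 110
    [1, 1, 1, 4, 4, 4, 4, 4, 4, 5, 5, 5, 5, 5, 5, 6, 6, 6, 10, 10, 10, 10, 10, 10, 15, 15, 15, 15, 15, 15, 20, 20, 20,
    20, 20, 20, 20, 20, 20, 20, 20, 20, 20, 20, 20, 20, 20, 20, 24, 24, 24, 30, 30, 30, 30, 30, 30, 30, 30, 30, 36, 36,
    36, 36, 36, 36, 40, 40, 40, 40, 40, 40, 45, 45, 45, 45, 45, 45, 60, 60, 60, 60, 60, 60, 60, 60, 60, 60, 60, 60, 64,
    64, 64, 64, 64, 64, 80, 80, 80, 81, 81, 81] :=
  cenK_of G32_good E8_good 0x102031203432543120324315476543120324315432065431234567654312032431543206543123456 0x103436e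
    (by decide +kernel)

theorem cenK_E8_99 : CenK E8 99
    [1, 1, 1, 4, 4, 4, 4, 4, 4, 5, 5, 5, 5, 5, 5, 6, 6, 6, 10, 10, 10, 10, 10, 10, 15, 15, 15, 15, 15, 15, 20, 20, 20,
    20, 20, 20, 20, 20, 20, 20, 20, 20, 20, 20, 20, 20, 20, 20, 24, 24, 24, 30, 30, 30, 30, 30, 30, 30, 30, 30, 36, 36,
    36, 36, 36, 36, 40, 40, 40, 40, 40, 40, 45, 45, 45, 45, 45, 45, 60, 60, 60, 60, 60, 60, 60, 60, 60, 60, 60, 60, 64,
    64, 64, 64, 64, 64, 80, 80, 80, 81, 81, 81] :=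
  cenK_of G32_good E8_good 0x11343120345436543120324315432065431234567 0x1032056576563
    (by decide +kernel)

end Cfsg.Agent.MO.WC
end
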